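import Cfsg.Agent.FusionAlperin.Factor
import Mathlib.GroupTheory.OrderOfElement
import Mathlib.Data.Nat.ChineseRemainder

/-!
Automorphism groups in a factor system.
-/
set_option autoImplicit false

open Cfsg Cfsg.FusionSystem Cfsg.Agent.FusionSys Cfsg.Agent.FusionAlperin

namespace Cfsg.Agent.FusionAux

variable {Ω : Type*} [Group Ω] {S : Subgroup Ω} {Ω' : Type*} [Group Ω'] {S' : Subgroup Ω'}

theorem preimageAlong_imageAlong {θ : S →* Ω'} {T R : Subgroup Ω} (hR : R ≤ S) (hTR : T ≤ R)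
    (hker : ∀ s : S, θ s = 1 ↔ (s : Ω) ∈ T) : preimageAlong θ (imageAlong θ R) = R := by
  ext y
  rw [mem_preimageAlong]
  constructor
  · rintro ⟨hy, z, hz, he⟩
    have h : ((z⁻¹ * ⟨y, hy⟩ : S) : Ω) ∈ T := (hker _).1 (by simp [he])
    simpa using R.mul_mem (Subgroup.mem_subgroupOf.1 hz) (hTR h)
  · intro hy
    exact ⟨hR hy, Subgroup.mem_map_of_mem _ hy⟩

theorem mem_E_hom_of_eq {F : FusionSystem S} {T : Subgroup Ω} {θ : S →* Ω'} {E : FusionSystem S'}
    (hE : F.IsFactorSystem T θ E) {R : Subgroup Ω} {P' : Subgroup Ω'} (hP' : P' ≤ S')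
    (hpre : preimageAlong θ P' = R) {φ : R →* Ω} (hφ : φ ∈ F.Hom R) {φ' : P' →* Ω'}
    (h : InducedAlong θ φ φ') : φ' ∈ E.Hom P' := by
  subst hpre
  exact (hE.2.2.2 P' φ').2 ⟨hP', φ, hφ, h⟩

/-- An automorphism of `R ≥ T` in `F` induces one of the factor system, with order dividing. -/
theorem exists_induced_aut [Finite S] {F : FusionSystem S} {T : Subgroup Ω}
    (hT : F.StronglyClosed T) {θ : S →* Ω'} {E : FusionSystem S'} (hE : F.IsFactorSystem T θ E)
    {R : Subgroup Ω} (hR : R ≤ S) (hTR : T ≤ R) {β : MulAut R} (hβ : β ∈ F.autGroup R) :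
    ∃ γ ∈ E.autGroup (imageAlong θ R), orderOf γ ∣ orderOf β ∧
      ∀ (x : R) (hx : θ ⟨x, hR x.2⟩ ∈ imageAlong θ R),
        (γ ⟨_, hx⟩ : Ω') = θ ⟨(β x : R), hR (β x).2⟩ := by
  have hker := hE.2.1
  have hrange := hE.2.2.1
  have hmem : ∀ x : R, θ ⟨x, hR x.2⟩ ∈ imageAlong θ R := fun x => Subgroup.mem_map_of_mem _ x.2
  let f : R →* imageAlong θ R := (θ.comp (Subgroup.inclusion hR)).codRestrict _ hmem
  have hf : Function.Surjective f := by
    rintro ⟨_, z, hz, rfl⟩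
    exact ⟨⟨z, hz⟩, rfl⟩
  let g : R →* Ω' := θ.comp ((Subgroup.inclusion hR).comp β.toMonoidHom)
  have hg : f.ker ≤ g.ker := by
    intro x hx
    have hxT : (x : Ω) ∈ T := (hker _).1 (congrArg Subtype.val (MonoidHom.mem_ker.1 hx) :)
    exact MonoidHom.mem_ker.2 ((hker _).2 (sc_map_mem hT (autGroup_mem_hom F hR hβ) hxT))
  let φ' : imageAlong θ R →* Ω' := f.liftOfSurjective hf ⟨g, hg⟩
  have hφ' : ∀ x : R, φ' (f x) = g x := fun x => MonoidHom.liftOfRightInverse_comp_apply _ _ _ ⟨g, hg⟩ x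
  have hEhom : φ' ∈ E.Hom (imageAlong θ R) := by
    refine mem_E_hom_of_eq hE ?_ (preimageAlong_imageAlong hR hTR hker)
      (autGroup_mem_hom F hR hβ) ⟨hR, fun x => hR (β x).2, hmem, hφ'⟩
    rw [← hrange]
    exact Subgroup.map_le_range _ _
  have hr : φ'.range = imageAlong θ R := by
    ext y
    constructor
    · rintro ⟨z, rfl⟩
      obtain ⟨x, rfl⟩ := hf z
      rw [hφ']
      exact hmem (β x)
    · intro hy
      obtain ⟨x, hx⟩ := hf ⟨y, hy⟩
      refine ⟨f (β.symm x), ?_⟩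
      rw [hφ']
      show θ (Subgroup.inclusion hR (β (β.symm x))) = y
      rw [MulEquiv.apply_symm_apply]
      exact congrArg Subtype.val hx
  have hspec : ∀ x : R, toIso E hEhom hr (f x) = f (β x) := fun x => Subtype.ext (hφ' x)
  refine ⟨toIso E hEhom hr, toIso_mem_autGroup E hEhom hr, orderOf_dvd_of_pow_eq_one ?_, ?_⟩
  · have hpow : ∀ (n : ℕ) (x : R),
        ((toIso E hEhom hr : MulAut (imageAlong θ R)) ^ n) (f x) = f ((β ^ n) x) := by
      intro n
      induction n with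
      | zero => intro x; rfl
      | succ n ih =>
        intro x
        rw [pow_succ' , pow_succ' β, MulAut.mul_apply, MulAut.mul_apply, ih]
        exact hspec _
    ext y
    obtain ⟨x, rfl⟩ := hf y
    rw [hpow, pow_orderOf_eq_one]
    rfl
  · intro x hx
    exact congrArg Subtype.val (hspec x)

/-- An exponent `m` projecting onto the `p'`-part. -/
theorem exists_pprime_exponent {p : ℕ} [Fact p.Prime] {b a : ℕ} (hb : 0 < b) (ha : a.Coprime p) :
    ∃ (m c : ℕ), c.Coprime p ∧ m ≡ 1 [MOD a] ∧ b ∣ m * c := by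
  obtain ⟨i, c, hc, rfl⟩ := Nat.exists_eq_pow_mul_and_not_dvd hb.ne' p (Fact.out : p.Prime).ne_one
  obtain ⟨m, hm1, hm2⟩ := Nat.chineseRemainder (ha.pow_right i) 1 0
  refine ⟨m, c, (Fact.out : p.Prime).coprime_iff_not_dvd.2 hc |>.symm, hm1, ?_⟩
  exact Nat.mul_dvd_mul_right (Nat.modEq_zero_iff_dvd.1 hm2) c

end Cfsg.Agent.FusionAux
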