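import Cfsg.Agent.PGroup.ClassTwo
import Cfsg.Agent.PGroup.Frattini
import Cfsg.Agent.TwoGroups.Recognition
import Cfsg.Prelude.Def_Transfer
import Mathlib.Algebra.Group.TransferInstance
import Mathlib.Algebra.Group.Shrink
import Mathlib.GroupTheory.NoncommCoprod

/-!
A `p`-group with commutator subgroup of order `p` and an elementary abelian centralizer of a
noncentral element is a direct product of a group of order `p ^ 3` and an elementary abelian group.
-/
set_option autoImplicit false

open scoped commutatorElement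

namespace Cfsg.Agent.FusionAux.GenExtraspecial

universe u

variable {G : Type u} [Group G] [Finite G] {p : ℕ} [hp : Fact p.Prime]

omit [Finite G] hp in
/-- A subgroup generated by two elements with central commutator has commutator `⟨⁅t, y⁆⟩`. -/
theorem commutator_eq_zpowers {t y : G} (htop : Subgroup.closure {t, y} = ⊤)
    (hc : ⁅t, y⁆ ∈ Subgroup.center G) : commutator G = Subgroup.zpowers ⁅t, y⁆ := by
  set Z := Subgroup.zpowers ⁅t, y⁆ with hZ
  have hZc : Z ≤ Subgroup.center G := Subgroup.zpowers_le.2 hc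
  have hZn : Z.Normal := ⟨fun a ha g => by
    rw [Subgroup.mem_center_iff.1 (hZc ha) g, mul_inv_cancel_right]; exact ha⟩
  refine le_antisymm ?_ (Subgroup.zpowers_le.2
    (Subgroup.commutator_mem_commutator (Subgroup.mem_top t) (Subgroup.mem_top y)))
  have key : ∀ g : G, g ∈ ({t, y} : Set G) → ∀ a ∈ ({t, y} : Set G), ⁅g, a⁆ ∈ Z := by
    rintro g (rfl | rfl) a (rfl | rfl)
    · rw [commutatorElement_self]; exact one_mem _
    · exact Subgroup.mem_zpowers _
    · rw [← commutatorElement_inv]; exact inv_mem (Subgroup.mem_zpowers _)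
    · rw [commutatorElement_self]; exact one_mem _
  set K : Subgroup (G ⧸ Z) := Subgroup.closure ((↑) '' ({t, y} : Set G)) with hK
  have hKtop : K = ⊤ := by
    rw [hK, ← Subgroup.map_top_of_surjective (QuotientGroup.mk' Z) (QuotientGroup.mk'_surjective Z),
      ← htop, MonoidHom.map_closure]
    rfl
  have hab : ∀ a b : G ⧸ Z, a * b = b * a := by
    intro a b
    have hcl : IsMulCommutative (Subgroup.closure ((↑) '' ({t, y} : Set G)) : Subgroup (G ⧸ Z)) := by
      refine Subgroup.isMulCommutative_closure ?_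
      rintro _ ⟨g, hg, rfl⟩ _ ⟨h, hh, rfl⟩
      rw [← commutatorElement_eq_one_iff_mul_comm]
      show ⁅QuotientGroup.mk' Z g, QuotientGroup.mk' Z h⁆ = 1
      rw [← map_commutatorElement]
      exact (QuotientGroup.eq_one_iff _).2 (key g hg h hh)
    rw [← hK, hKtop] at hcl
    exact congrArg Subtype.val (hcl.is_comm.comm ⟨a, Subgroup.mem_top a⟩ ⟨b, Subgroup.mem_top b⟩)
  rw [commutator_def, Subgroup.commutator_le]
  intro a _ b _
  rw [← QuotientGroup.eq_one_iff]
  show (QuotientGroup.mk' Z) ⁅a, b⁆ = 1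
  rw [map_commutatorElement, commutatorElement_eq_one_iff_mul_comm]
  exact hab _ _

omit [Finite G] in
/-- The commutator of a power. -/
theorem pow_eq_one_of_commutator {t y : G} (hne : ⁅t, y⁆ ≠ 1)
    (hp' : ⁅t, y⁆ ^ p = 1) {i : ℕ} (h : ⁅t, y⁆ ^ i = 1) : p ∣ i := by
  have := orderOf_eq_prime hp' hne
  rw [← this]
  exact orderOf_dvd_of_pow_eq_one h

/-- An exponent `p` group generated by two elements with nontrivial central commutator is
extraspecial of order `p ^ 3`. -/
theorem extraspecial_of_generators (hexp : ∀ g : G, g ^ p = 1) {t y : G}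
    (htop : Subgroup.closure {t, y} = ⊤) (hc : ⁅t, y⁆ ∈ Subgroup.center G)
    (hne : ⁅t, y⁆ ≠ 1) :
    Cfsg.IsExtraspecial p G ∧ Nat.card G = p ^ 3 ∧ Monoid.exponent G = p := by
  set z := ⁅t, y⁆ with hz
  have hG : IsPGroup p G := fun g => ⟨1, by rw [pow_one]; exact hexp g⟩
  have hcomm := commutator_eq_zpowers htop hc
  have hcz : ∀ g, g * z = z * g := Subgroup.mem_center_iff.1 hc
  have hyt : y * t = z⁻¹ * (t * y) := by simp [hz, commutatorElement_def, mul_assoc]
  have hdiv : ∀ (k : ℕ), z ^ k = 1 → p ∣ k := fun k =>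
    pow_eq_one_of_commutator hne (hexp z)
  have hfin : ∀ g : G, IsOfFinOrder g := fun g => isOfFinOrder_of_finite g
  have hcomm' : commutator G ≤ Subgroup.center G := hcomm.trans_le (Subgroup.zpowers_le.2 hc)
  -- the normal form
  let f : Fin p × Fin p × Fin p → G := fun x => z ^ (x.1 : ℕ) * t ^ (x.2.1 : ℕ) * y ^ (x.2.2 : ℕ)
  have hmk : ∀ i j l : ℕ, ∃ x, f x = z ^ i * t ^ j * y ^ l := fun i j l =>
    ⟨(⟨i % p, Nat.mod_lt _ hp.out.pos⟩, ⟨j % p, Nat.mod_lt _ hp.out.pos⟩,
      ⟨l % p, Nat.mod_lt _ hp.out.pos⟩), by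
      simp only [f, ← pow_eq_pow_mod _ (hexp z), ← pow_eq_pow_mod _ (hexp t),
        ← pow_eq_pow_mod _ (hexp y)]⟩
  have hswap : ∀ j l : ℕ, y ^ l * t ^ j = z⁻¹ ^ (j * l) * (t ^ j * y ^ l) := by
    intro j l
    have h1 : ⁅y, t⁆ ∈ Subgroup.center G := hcomm'
      (Subgroup.commutator_mem_commutator (Subgroup.mem_top y) (Subgroup.mem_top t))
    rw [PGroup.mul_comm_eq_commutatorElement_mul (y ^ l) (t ^ j),
      PGroup.commutatorElement_pow_left (PGroup.commutatorElement_mem_center hcomm' _ _),
      PGroup.commutatorElement_pow_right h1, ← pow_mul]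
    congr 2
    rw [hz, commutatorElement_inv]
  have hsurj : Function.Surjective f := by
    intro g
    have hg : g ∈ Subgroup.closure ({t, y} : Set G) := htop ▸ Subgroup.mem_top g
    rw [← SetLike.mem_coe, ← Subgroup.coe_toSubmonoid,
      Subgroup.closure_toSubmonoid_of_isOfFinOrder fun x _ => hfin x, SetLike.mem_coe] at hg
    induction hg using Submonoid.closure_induction_left with
    | one => exact (hmk 0 0 0).imp fun x hx => by simpa using hx
    | mul_left a ha b _ ih =>
      obtain ⟨⟨i, j, l⟩, rfl⟩ := ih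
      rcases ha with rfl | rfl
      · obtain ⟨x, hx⟩ := hmk i (j + 1) l
        refine ⟨x, hx.trans ?_⟩
        show _ = a * (z ^ (i : ℕ) * a ^ (j : ℕ) * y ^ (l : ℕ))
        rw [pow_succ', ← mul_assoc a, ← mul_assoc a,
          ((Commute.pow_right (hcz a) _).eq), ← mul_assoc]
      · obtain ⟨x, hx⟩ := hmk (i + (p - 1) * j) j (l + 1)
        refine ⟨x, hx.trans ?_⟩
        show _ = a * (z ^ (i : ℕ) * t ^ (j : ℕ) * a ^ (l : ℕ))
        have hzi : z ^ (p - 1) = z⁻¹ := by
          rw [eq_inv_iff_mul_eq_one, ← pow_succ, Nat.sub_add_cancel hp.out.one_le, hexp]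
        have hs := hswap j 1
        rw [pow_one, mul_one] at hs
        rw [← mul_assoc a, ← mul_assoc a, (Commute.pow_right (hcz a) _).eq,
          mul_assoc (z ^ (i : ℕ)) a, hs, pow_add, pow_mul, hzi, pow_succ' a]
        simp only [mul_assoc]
  have hinj : Function.Injective f := by
    rintro ⟨i, j, l⟩ ⟨i', j', l'⟩ h
    simp only [f] at h
    have ht' : ∀ i j l : ℕ, ⁅z ^ i * t ^ j * y ^ l, y⁆ = z ^ j := by
      intro i j l
      rw [PGroup.commutatorElement_mul_left (PGroup.commutatorElement_mem_center hcomm' _ _),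
        PGroup.commutatorElement_mul_left (PGroup.commutatorElement_mem_center hcomm' _ _),
        commutatorElement_eq_one_iff_mul_comm.2 (Commute.pow_left (hcz y).symm i).eq,
        commutatorElement_eq_one_iff_mul_comm.2 ((Commute.refl y).pow_left l).eq,
        PGroup.commutatorElement_pow_left hc, one_mul, mul_one]
    have hy' : ∀ i j l : ℕ, ⁅t, z ^ i * t ^ j * y ^ l⁆ = z ^ l := by
      intro i j l
      rw [PGroup.commutatorElement_mul_right (PGroup.commutatorElement_mem_center hcomm' _ _),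
        PGroup.commutatorElement_mul_right (PGroup.commutatorElement_mem_center hcomm' _ _),
        commutatorElement_eq_one_iff_mul_comm.2 ((Commute.pow_right (hcz t) i).eq),
        commutatorElement_eq_one_iff_mul_comm.2 ((Commute.refl t).pow_right j).eq,
        PGroup.commutatorElement_pow_right hc, one_mul, one_mul]
    have hzord := orderOf_eq_prime (hexp z) hne
    have e1 : ∀ a b : Fin p, z ^ (a : ℕ) = z ^ (b : ℕ) → a = b := fun a b hab => Fin.ext
      (pow_injOn_Iio_orderOf (by rw [Set.mem_Iio, hzord]; exact a.2)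
        (by rw [Set.mem_Iio, hzord]; exact b.2) hab)
    have hj : j = j' := e1 _ _ (by rw [← ht' i j l, h, ht'])
    have hl : l = l' := e1 _ _ (by rw [← hy' i j l, h, hy'])
    subst hj hl
    rw [mul_left_inj, mul_left_inj] at h
    rw [e1 _ _ h]
  have hcard : Nat.card G = p ^ 3 := by
    rw [← Nat.card_congr (Equiv.ofBijective f ⟨hinj, hsurj⟩)]
    simp [pow_succ, mul_assoc]
  have hcenter : Subgroup.center G = Subgroup.zpowers z := by
    refine le_antisymm (fun g hg => ?_) (Subgroup.zpowers_le.2 hc)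
    obtain ⟨⟨i, j, l⟩, rfl⟩ := hsurj g
    have h1 : ⁅f (i, j, l), y⁆ = 1 :=
      commutatorElement_eq_one_iff_mul_comm.2 (Subgroup.mem_center_iff.1 hg y).symm
    have h2 : ⁅t, f (i, j, l)⁆ = 1 :=
      commutatorElement_eq_one_iff_mul_comm.2 (Subgroup.mem_center_iff.1 hg t)
    simp only [f] at h1 h2 ⊢
    rw [PGroup.commutatorElement_mul_left (PGroup.commutatorElement_mem_center hcomm' _ _),
        PGroup.commutatorElement_mul_left (PGroup.commutatorElement_mem_center hcomm' _ _),
        commutatorElement_eq_one_iff_mul_comm.2 (Commute.pow_left (hcz y).symm (i : ℕ)).eq,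
        commutatorElement_eq_one_iff_mul_comm.2 ((Commute.refl y).pow_left (l : ℕ)).eq,
        PGroup.commutatorElement_pow_left hc, one_mul, mul_one] at h1
    rw [PGroup.commutatorElement_mul_right (PGroup.commutatorElement_mem_center hcomm' _ _),
        PGroup.commutatorElement_mul_right (PGroup.commutatorElement_mem_center hcomm' _ _),
        commutatorElement_eq_one_iff_mul_comm.2 ((Commute.pow_right (hcz t) (i : ℕ)).eq),
        commutatorElement_eq_one_iff_mul_comm.2 ((Commute.refl t).pow_right (j : ℕ)).eq,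
        PGroup.commutatorElement_pow_right hc, one_mul, one_mul] at h2
    rw [Nat.eq_zero_of_dvd_of_lt (hdiv _ h1) j.2, Nat.eq_zero_of_dvd_of_lt (hdiv _ h2) l.2]
    simp only [pow_zero, mul_one]
    exact pow_mem (Subgroup.mem_zpowers z) _
  refine ⟨⟨⟨hG, ?_, hcomm.trans hcenter.symm⟩, ?_⟩, hcard, ?_⟩
  · refine le_antisymm ?_ ((hcenter.trans hcomm.symm).trans_le (PGroup.commutator_le_frattini hG))
    exact hcenter.symm ▸ PGroup.frattini_le_of_commutator_le_of_pow_mem hp.out hcomm.le
      (fun x => by rw [hexp]; exact one_mem _)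
  · rw [hcenter, Nat.card_zpowers, orderOf_eq_prime (hexp z) hne]
  · refine (hp.out.eq_one_or_self_of_dvd _ (Monoid.exponent_dvd_of_forall_pow_eq_one hexp)
      ).resolve_left fun h => hne ?_
    rw [Monoid.exp_eq_one_iff] at h
    exact h.elim _ _

/-- The setting: `C` is an elementary abelian centralizer of the element `t` of order `p`. -/
structure Split (G : Type u) [Group G] (p : ℕ) (t y : G) : Prop where
  /-- commutators are central -/
  central : commutator G ≤ Subgroup.center G
  /-- the commutator subgroup has order `p` -/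
  card : Nat.card (commutator G) = p
  /-- the `p`-th powers lie in it -/
  pow_mem : ∀ g : G, g ^ p ∈ commutator G
  /-- `t` has order dividing `p` -/
  t_pow : t ^ p = 1
  /-- `y` does not commute with `t` -/
  ne : ⁅t, y⁆ ≠ 1
  /-- the centralizer of `t` is abelian -/
  comm : ∀ a b : G, a * t = t * a → b * t = t * b → a * b = b * a
  /-- the centralizer of `t` has exponent dividing `p` -/
  exp : ∀ a : G, a * t = t * a → a ^ p = 1

theorem Split.exists_decomposition {t y : G} (h : Split G p t y) :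
    ∃ (A : Subgroup G), (∀ a ∈ A, ∀ b ∈ A, a * b = b * a) ∧ (∀ a ∈ A, a ^ p = 1) ∧
      Nonempty (G ≃* Subgroup.closure ({t, y} : Set G) × A) := by
  set z := ⁅t, y⁆ with hz
  have hcent := fun a b : G => PGroup.commutatorElement_mem_center h.central a b
  have hzz : z ∈ commutator G :=
    Subgroup.commutator_mem_commutator (Subgroup.mem_top t) (Subgroup.mem_top y)
  have hZ : Subgroup.zpowers z = commutator G := by
    refine Subgroup.eq_of_le_of_card_ge (Subgroup.zpowers_le.2 hzz) ?_
    rw [h.card, Nat.card_zpowers]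
    refine (Nat.le_of_eq (orderOf_eq_prime ?_ h.ne).symm)
    exact congrArg Subtype.val (h.card ▸ pow_card_eq_one' : (⟨z, hzz⟩ : commutator G) ^ p = 1)
  have hzp : z ^ p = 1 :=
    congrArg Subtype.val (h.card ▸ pow_card_eq_one' : (⟨z, hzz⟩ : commutator G) ^ p = 1)
  have hzc : z ∈ Subgroup.center G := hcent t y
  have hzcomm : z * t = t * z := (Subgroup.mem_center_iff.1 hzc t).symm
  -- the centre
  let Z : Subgroup G := Subgroup.centralizer {t, y}
  have hZmem : ∀ {a : G}, a ∈ Z ↔ a * t = t * a ∧ a * y = y * a := by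
    intro a
    simp only [Z, Subgroup.mem_centralizer_iff, Set.mem_insert_iff, Set.mem_singleton_iff,
      forall_eq_or_imp, forall_eq]
    exact ⟨fun ⟨h1, h2⟩ => ⟨h1.symm, h2.symm⟩, fun ⟨h1, h2⟩ => ⟨h1.symm, h2.symm⟩⟩
  obtain ⟨A, -, hA⟩ := Finite.exists_le_maximal (p := fun A : Subgroup G => A ≤ Z ∧ z ∉ A)
    (a := ⊥) ⟨bot_le, fun hb => h.ne (Subgroup.mem_bot.1 hb)⟩
  have hAc : ∀ a ∈ A, a * t = t * a := fun a ha => (hZmem.1 (hA.prop.1 ha)).1
  have hZA : ∀ a ∈ Z, a ∈ Subgroup.zpowers z ⊔ A := by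
    intro a ha
    by_contra hna
    have hlt : A < A ⊔ Subgroup.zpowers a := lt_of_le_of_ne le_sup_left fun he =>
      hna (Subgroup.mem_sup_right (he.symm ▸ Subgroup.mem_sup_right (Subgroup.mem_zpowers a)))
    have hzmem : z ∈ A ⊔ Subgroup.zpowers a := by
      by_contra hn
      exact hlt.not_ge (hA.le_of_ge ⟨sup_le hA.prop.1 (Subgroup.zpowers_le.2 ha), hn⟩ le_sup_left)
    rw [← SetLike.mem_coe, Subgroup.coe_mul_of_right_le_normalizer_left] at hzmem
    · obtain ⟨b, hb, _, ⟨i, rfl⟩, hbe⟩ := hzmem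
      simp only at hbe
      have hi : IsCoprime i (p : ℤ) := by
        rw [Int.isCoprime_iff_nat_coprime, Int.natAbs_natCast, Nat.coprime_comm,
          hp.out.coprime_iff_not_dvd]
        intro hd
        obtain ⟨k, hk⟩ := Int.natCast_dvd.mpr hd
        apply hA.prop.2
        rw [← hbe, hk, zpow_mul, zpow_natCast, h.exp a (hZmem.1 ha).1, one_zpow, mul_one]
        exact hb
      obtain ⟨u, v, huv⟩ := hi
      apply hna
      rw [← zpow_one a, ← huv, zpow_add, mul_comm u, zpow_mul, mul_comm v, zpow_mul a (p : ℤ),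
        zpow_natCast, h.exp a (hZmem.1 ha).1, one_zpow, mul_one]
      refine zpow_mem ?_ u
      rw [show a ^ i = b⁻¹ * z by rw [← hbe]; group]
      exact Subgroup.mul_mem _ (inv_mem (Subgroup.mem_sup_right hb))
        (Subgroup.mem_sup_left (Subgroup.mem_zpowers z))
    · intro g hg
      obtain ⟨i, rfl⟩ := Subgroup.mem_zpowers_iff.1 hg
      refine zpow_mem (Subgroup.mem_normalizer_iff.2 fun b => ⟨fun hb => ?_, fun hb => ?_⟩) i
      · rw [h.comm a b (hZmem.1 ha).1 (hAc b hb), mul_inv_cancel_right]; exact hb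
      · have := h.comm a (a * b * a⁻¹) (hZmem.1 ha).1 (hAc _ hb)
        simp only [← mul_assoc] at this
        rw [show b = a * b * a⁻¹ by
          apply mul_left_cancel (a := a)
          rw [← mul_assoc, ← mul_assoc, this, inv_mul_cancel_right]]
        exact hb
  set E := Subgroup.closure ({t, y} : Set G) with hE
  have htE : t ∈ E := Subgroup.subset_closure (by simp)
  have hyE : y ∈ E := Subgroup.subset_closure (by simp)
  have hzE : z ∈ E := by
    rw [hz, commutatorElement_def]
    exact E.mul_mem (E.mul_mem (E.mul_mem htE hyE) (E.inv_mem htE)) (E.inv_mem hyE)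
  have hEA : ∀ a ∈ A, ∀ e ∈ E, e * a = a * e := by
    intro a ha e he
    have : E ≤ Subgroup.centralizer ({a} : Set G) := by
      rw [hE, Subgroup.closure_le]
      rintro x (rfl | rfl) <;>
        simp only [SetLike.mem_coe, Subgroup.mem_centralizer_iff, Set.mem_singleton_iff, forall_eq]
      · exact (hZmem.1 (hA.prop.1 ha)).1
      · exact (hZmem.1 (hA.prop.1 ha)).2
    exact (Subgroup.mem_centralizer_iff.1 (this he) a rfl).symm
  let m : E × A →* G := MonoidHom.noncommCoprod E.subtype A.subtype fun e a => hEA a a.2 e e.2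
  have hfac : ∀ g : G, ∃ i j l : ℤ, ∃ a ∈ A, g = z ^ i * t ^ j * y ^ l * a := by
    intro g
    obtain ⟨l, hl⟩ := Subgroup.mem_zpowers_iff.1 (hZ.ge
      (Subgroup.commutator_mem_commutator (Subgroup.mem_top t) (Subgroup.mem_top g)))
    have hpr : ∀ (x : G) (n : ℤ), ⁅t, x ^ n⁆ = ⁅t, x⁆ ^ n := fun x n =>
      map_zpow (MonoidHom.mk' (fun x => (⟨⁅t, x⁆, hcent t x⟩ : Subgroup.center G))
        fun a b => Subtype.ext (PGroup.commutatorElement_mul_right (hcent t b))) x n |> congrArg Subtype.val
    have hpl : ∀ (x : G) (n : ℤ), ⁅x ^ n, y⁆ = ⁅x, y⁆ ^ n := fun x n =>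
      map_zpow (MonoidHom.mk' (fun x => (⟨⁅x, y⁆, hcent x y⟩ : Subgroup.center G))
        fun a b => Subtype.ext (PGroup.commutatorElement_mul_left (hcent b y))) x n |> congrArg Subtype.val
    -- `c := g y^{-l}` centralizes `t`
    have hc : g * y ^ (-l) * t = t * (g * y ^ (-l)) := by
      refine (commutatorElement_eq_one_iff_mul_comm.1 ?_).symm
      rw [PGroup.commutatorElement_mul_right (hcent _ _), hpr, ← hz, ← hl, zpow_neg,
        mul_inv_cancel]
    obtain ⟨j, hj⟩ := Subgroup.mem_zpowers_iff.1 (hZ.ge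
      (Subgroup.commutator_mem_commutator (Subgroup.mem_top (g * y ^ (-l))) (Subgroup.mem_top y)))
    have hd : g * y ^ (-l) * t ^ (-j) ∈ Z := by
      refine hZmem.2 ⟨?_, commutatorElement_eq_one_iff_mul_comm.1 ?_⟩
      · rw [mul_assoc, ← (Commute.zpow_right (Commute.refl t) (-j)).eq, ← mul_assoc, hc,
          mul_assoc]
      · rw [PGroup.commutatorElement_mul_left (hcent _ _), hpl, ← hz, ← hj, zpow_neg,
          mul_inv_cancel]
    have hd' := hZA _ hd
    rw [← SetLike.mem_coe, Subgroup.coe_mul_of_left_le_normalizer_right] at hd'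
    · obtain ⟨_, ⟨i, rfl⟩, a, ha, hae⟩ := hd'
      simp only at hae
      refine ⟨i, j, l, a, ha, ?_⟩
      have hat : a * t ^ j = t ^ j * a := (Commute.zpow_right (hAc a ha) j).eq
      have hay : a * y ^ l = y ^ l * a := (Commute.zpow_right (hZmem.1 (hA.prop.1 ha)).2 l).eq
      calc g = g * y ^ (-l) * t ^ (-j) * (t ^ j * y ^ l) := by group
        _ = z ^ i * a * (t ^ j * y ^ l) := by rw [hae]
        _ = z ^ i * t ^ j * y ^ l * a := by
          simp only [mul_assoc]
          rw [← mul_assoc a, hat, mul_assoc, hay]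
    · intro w hw
      obtain ⟨i, rfl⟩ := Subgroup.mem_zpowers_iff.1 hw
      refine zpow_mem (Subgroup.mem_normalizer_iff.2 fun b => ?_) i
      rw [← Subgroup.mem_center_iff.1 hzc b, mul_inv_cancel_right]
  refine ⟨A, fun a ha b hb => h.comm a b (hAc a ha) (hAc b hb), fun a ha => h.exp a (hAc a ha),
    ⟨(MulEquiv.ofBijective m ⟨?_, ?_⟩).symm⟩⟩
  · rw [injective_iff_map_eq_one]
    rintro ⟨⟨e, he⟩, ⟨a, ha⟩⟩ hea
    change e * a = 1 at hea
    have hae : a ∈ E := by
      rw [← inv_inv a, ← eq_inv_of_mul_eq_one_left hea]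
      exact E.inv_mem he
    -- an element of `E ∩ A` is central in `E`
    have hzen : a ∈ Subgroup.zpowers z := by
      obtain ⟨i, j, l, hijl⟩ : ∃ i j l : ℤ, a = z ^ i * t ^ j * y ^ l := by
        have hmem : E ≤ (Subgroup.zpowers z ⊔ Subgroup.zpowers t) ⊔ Subgroup.zpowers y := by
          rw [hE, Subgroup.closure_le]
          rintro x (rfl | rfl)
          · exact Subgroup.mem_sup_left (Subgroup.mem_sup_right (Subgroup.mem_zpowers x))
          · exact Subgroup.mem_sup_right (Subgroup.mem_zpowers x)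
        have hn : ∀ g : G, g ∈ Subgroup.normalizer
            ((Subgroup.zpowers z ⊔ Subgroup.zpowers t : Subgroup G) : Set G) := by
          intro g
          have key : ∀ x ∈ Subgroup.zpowers z ⊔ Subgroup.zpowers t, ∀ g : G,
              g * x * g⁻¹ ∈ Subgroup.zpowers z ⊔ Subgroup.zpowers t := fun x hx g => by
            rw [show g * x * g⁻¹ = ⁅g, x⁆ * x by simp [commutatorElement_def]]
            exact Subgroup.mul_mem _ (Subgroup.mem_sup_left (hZ.ge
              (Subgroup.commutator_mem_commutator (Subgroup.mem_top g) (Subgroup.mem_top x)))) hx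
          refine Subgroup.mem_normalizer_iff.2 fun x => ⟨fun hx => key x hx g, fun hx => ?_⟩
          simpa [mul_assoc] using key _ hx g⁻¹
        have h2 := hmem hae
        rw [← SetLike.mem_coe, Subgroup.coe_mul_of_right_le_normalizer_left _ _
          (fun g _ => hn g)] at h2
        obtain ⟨b, hb, _, ⟨l, rfl⟩, hbe⟩ := h2
        rw [Subgroup.coe_mul_of_left_le_normalizer_right _ _ (fun w hw => ?_)] at hb
        · obtain ⟨_, ⟨i, rfl⟩, _, ⟨j, rfl⟩, rfl⟩ := hb
          exact ⟨i, j, l, hbe.symm⟩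
        · obtain ⟨i, rfl⟩ := Subgroup.mem_zpowers_iff.1 hw
          refine zpow_mem (Subgroup.mem_normalizer_iff.2 fun b => ?_) i
          rw [← Subgroup.mem_center_iff.1 hzc b, mul_inv_cancel_right]
      obtain ⟨hat, hay⟩ := hZmem.1 (hA.prop.1 ha)
      have hzero : ∀ n : ℤ, z ^ n = 1 → t ^ n = 1 := fun n hn => by
        have hd := orderOf_dvd_iff_zpow_eq_one.2 hn
        rw [orderOf_eq_prime hzp h.ne] at hd
        exact orderOf_dvd_iff_zpow_eq_one.1 ((Int.natCast_dvd_natCast.2
          (orderOf_dvd_of_pow_eq_one h.t_pow)).trans hd)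
      have hl : z ^ l = 1 := by
        have h0 : ⁅t, a⁆ = 1 := commutatorElement_eq_one_iff_mul_comm.2 hat.symm
        have hcom : ⁅t, z ^ i * t ^ j⁆ = 1 := commutatorElement_eq_one_iff_mul_comm.2
          ((Commute.zpow_right hzcomm.symm i).mul_right (Commute.zpow_right (Commute.refl t) j)).eq
        rw [hijl, PGroup.commutatorElement_mul_right (hcent _ _), hcom, one_mul] at h0
        rwa [show ⁅t, y ^ l⁆ = z ^ l from map_zpow (MonoidHom.mk'
          (fun x => (⟨⁅t, x⁆, hcent t x⟩ : Subgroup.center G)) fun a b => Subtype.ext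
            (PGroup.commutatorElement_mul_right (hcent t b))) y l |> congrArg Subtype.val] at h0
      have hyl : y ^ l ∈ Subgroup.zpowers z := by
        have hd := orderOf_dvd_iff_zpow_eq_one.2 hl
        rw [orderOf_eq_prime hzp h.ne] at hd
        obtain ⟨k, rfl⟩ := hd
        rw [zpow_mul, zpow_natCast, hZ]
        exact zpow_mem (h.pow_mem y) k
      have hj : z ^ j = 1 := by
        have h0 : ⁅a, y⁆ = 1 := commutatorElement_eq_one_iff_mul_comm.2 hay
        have hcom : ⁅y ^ l, y⁆ = 1 :=
          commutatorElement_eq_one_iff_mul_comm.2 ((Commute.refl y).zpow_left l).eq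
        have hcom' : ⁅z ^ i, y⁆ = 1 := commutatorElement_eq_one_iff_mul_comm.2
          (Commute.zpow_left (Subgroup.mem_center_iff.1 hzc y).symm i).eq
        rw [hijl, PGroup.commutatorElement_mul_left (hcent _ _), hcom, mul_one,
          PGroup.commutatorElement_mul_left (hcent _ _), hcom', one_mul] at h0
        rwa [show ⁅t ^ j, y⁆ = z ^ j from map_zpow (MonoidHom.mk'
          (fun x => (⟨⁅x, y⁆, hcent x y⟩ : Subgroup.center G)) fun a b => Subtype.ext
            (PGroup.commutatorElement_mul_left (hcent b y))) t j |> congrArg Subtype.val] at h0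
      rw [hijl, hzero j hj, mul_one]
      exact Subgroup.mul_mem _ (zpow_mem (Subgroup.mem_zpowers z) i) hyl
    have ha1 : a = 1 := by
      by_contra hne'
      refine hA.prop.2 ((Subgroup.zpowers_le.2 ha : Subgroup.zpowers a ≤ A) ?_)
      have heq : Subgroup.zpowers a = Subgroup.zpowers z := by
        refine Subgroup.eq_of_le_of_card_ge (Subgroup.zpowers_le.2 hzen) ?_
        rw [Nat.card_zpowers, Nat.card_zpowers, orderOf_eq_prime hzp h.ne,
          orderOf_eq_prime (h.exp a (hAc a ha)) hne']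
      exact heq ▸ Subgroup.mem_zpowers z
    have he1 : e = 1 := by simpa [ha1] using hea
    exact Prod.ext (Subtype.ext he1) (Subtype.ext ha1)
  · intro g
    obtain ⟨i, j, l, a, ha, rfl⟩ := hfac g
    refine ⟨(⟨z ^ i * t ^ j * y ^ l, E.mul_mem (E.mul_mem (zpow_mem hzE i) (zpow_mem htE j))
      (zpow_mem hyE l)⟩, ⟨a, ha⟩), rfl⟩

omit hp in
/-- Transport of an abelian subgroup of exponent `p` to a group in `Type`. -/
theorem exists_small_comm {A : Subgroup G} (hA : ∀ a ∈ A, ∀ b ∈ A, a * b = b * a)
    (hexp : ∀ a ∈ A, a ^ p = 1) :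
    ∃ (A' : Type) (_ : CommGroup A'), (∀ a : A', a ^ p = 1) ∧ Nonempty (A ≃* A') := by
  let e : A ≃* Shrink.{0} A := Shrink.mulEquiv.symm
  refine ⟨Shrink.{0} A, { (inferInstance : Group (Shrink.{0} A)) with
    mul_comm := fun a b => ?_ }, fun a => ?_, ⟨e⟩⟩
  · apply e.symm.injective
    rw [map_mul, map_mul]
    exact Subtype.ext (hA _ (e.symm a).2 _ (e.symm b).2)
  · apply e.symm.injective
    show e.symm (a ^ p) = e.symm 1
    rw [map_pow, map_one]
    exact Subtype.ext (hexp _ (e.symm a).2)

theorem Split.odd_model {t y : G} (h : Split G p t y) (hexp : ∀ g : G, g ^ p = 1) :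
    ∃ (E : Type) (_ : Group E) (A : Type) (_ : CommGroup A), Cfsg.IsExtraspecial p E ∧
      Nat.card E = p ^ 3 ∧ Monoid.exponent E = p ∧ (∀ a : A, a ^ p = 1) ∧
      Nonempty (G ≃* E × A) := by
  obtain ⟨A, hAc, hAe, ⟨e⟩⟩ := h.exists_decomposition
  obtain ⟨A', iA, hA', ⟨eA⟩⟩ := exists_small_comm hAc hAe
  set E := Subgroup.closure ({t, y} : Set G) with hE
  let eE : E ≃* Shrink.{0} E := Shrink.mulEquiv.symm
  let t' := eE ⟨t, Subgroup.subset_closure (by simp)⟩
  let y' := eE ⟨y, Subgroup.subset_closure (by simp)⟩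
  have hcomm : ⁅t', y'⁆ = eE ⁅(⟨t, Subgroup.subset_closure (by simp)⟩ : E),
      ⟨y, Subgroup.subset_closure (by simp)⟩⁆ := (map_commutatorElement eE _ _).symm
  have htop : Subgroup.closure ({t', y'} : Set (Shrink.{0} E)) = ⊤ := by
    refine eq_top_iff.2 fun x hx => ?_
    clear hx
    obtain ⟨⟨w, hw⟩, rfl⟩ := eE.surjective x
    induction hw using Subgroup.closure_induction with
    | mem w hw =>
      rcases hw with rfl | rfl
      · exact Subgroup.subset_closure (by simp [t'])
      · exact Subgroup.subset_closure (by simp [y'])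
    | one => exact (map_one eE).symm ▸ one_mem _
    | mul a b ha hb iha ihb => exact (map_mul eE ⟨a, ha⟩ ⟨b, hb⟩).symm ▸ mul_mem iha ihb
    | inv a ha iha => exact (map_inv eE ⟨a, ha⟩).symm ▸ inv_mem iha
  have : Finite (Shrink.{0} E) := Finite.of_equiv E eE.toEquiv
  obtain ⟨h1, h2, h3⟩ := extraspecial_of_generators (G := Shrink.{0} E) (p := p)
    (fun g => by
      apply eE.symm.injective
      rw [map_pow, map_one]
      exact Subtype.ext (hexp _)) htop (by
    rw [hcomm, Subgroup.mem_center_iff]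
    intro g
    apply eE.symm.injective
    rw [map_mul, map_mul, MulEquiv.symm_apply_apply]
    exact Subtype.ext (Subgroup.mem_center_iff.1
      (PGroup.commutatorElement_mem_center h.central t y) _)) (by
    rw [hcomm]
    intro h0
    rw [EmbeddingLike.map_eq_one_iff] at h0
    exact h.ne (congrArg Subtype.val h0))
  exact ⟨Shrink.{0} E, inferInstance, A', iA, h1, h2, h3, hA',
      ⟨e.trans (MulEquiv.prodCongr eE eA)⟩⟩

theorem Split.two_model {t y : G} (h : Split G 2 t y) :
    ∃ (A : Type) (_ : CommGroup A), (∀ a : A, a ^ 2 = 1) ∧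
      Nonempty (G ≃* DihedralGroup 4 × A) := by
  have : Fact (Nat.Prime 2) := ⟨Nat.prime_two⟩
  obtain ⟨A, hAc, hAe, ⟨e⟩⟩ := h.exists_decomposition
  obtain ⟨A', iA, hA', ⟨eA⟩⟩ := exists_small_comm hAc hAe
  refine ⟨A', iA, hA', ?_⟩
  set z := ⁅t, y⁆ with hz
  have hc : z ∈ Subgroup.center G := PGroup.commutatorElement_mem_center h.central t y
  have hzz : z ∈ commutator G :=
    Subgroup.commutator_mem_commutator (Subgroup.mem_top t) (Subgroup.mem_top y)
  have hz2 : z * z = 1 := by
    have := congrArg Subtype.val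
      (h.card ▸ pow_card_eq_one' : (⟨z, hzz⟩ : commutator G) ^ 2 = 1)
    simpa [pow_two] using this
  have htt : t * t = 1 := by simpa [pow_two] using h.t_pow
  have hti : t⁻¹ = t := inv_eq_of_mul_eq_one_left htt
  have hsq : ∀ g : G, g * g = 1 ∨ g * g = z := by
    intro g
    have h1 : Subgroup.zpowers z = commutator G := by
      refine Subgroup.eq_of_le_of_card_ge (Subgroup.zpowers_le.2 hzz) ?_
      rw [h.card, Nat.card_zpowers,
        orderOf_eq_prime (by rw [pow_two]; exact hz2) h.ne]
    have h2 := h.pow_mem g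
    rw [← h1, pow_two] at h2
    obtain ⟨i, hi⟩ := Subgroup.mem_zpowers_iff.1 h2
    rcases Int.even_or_odd i with ⟨k, rfl⟩ | ⟨k, rfl⟩
    · exact Or.inl (by rw [← hi, zpow_add, ← (Commute.refl z).mul_zpow, hz2, one_zpow])
    · exact Or.inr (by rw [← hi, zpow_add, two_mul, zpow_add, ← (Commute.refl z).mul_zpow, hz2,
        one_zpow, one_mul, zpow_one])
  obtain ⟨r, hr, hrE⟩ : ∃ r, r * r = z ∧ Subgroup.closure ({r, t} : Set G) =
      Subgroup.closure ({t, y} : Set G) := by
    rcases hsq y with hy | hy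
    · refine ⟨y * t, ?_, le_antisymm ((Subgroup.closure_le _).2 ?_) ((Subgroup.closure_le _).2 ?_)⟩
      · have hyi : y⁻¹ = y := inv_eq_of_mul_eq_one_left hy
        rw [hz, commutatorElement_def, hti, hyi]
        have := congrArg (fun w => t * (y * (t * y)) * w) (show (1 : G) = 1 from rfl)
        have h' : (y * t * (y * t))⁻¹ = t * y * t * y := by
          simp only [mul_inv_rev, hti, hyi, mul_assoc]
        have h'' : t * y * t * y = z := by
          rw [hz, commutatorElement_def, hti, hyi]
        have hzi : z⁻¹ = z := inv_eq_of_mul_eq_one_left hz2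
        rw [← inv_inv (y * t * (y * t)), h', h'', hzi, ← h'']
      · rintro x (rfl | rfl)
        · exact mul_mem (Subgroup.subset_closure (by simp)) (Subgroup.subset_closure (by simp))
        · exact Subgroup.subset_closure (by simp)
      · rintro x (rfl | rfl)
        · exact Subgroup.subset_closure (by simp)
        · have h1 : x * t ∈ Subgroup.closure ({x * t, t} : Set G) :=
            Subgroup.subset_closure (by simp)
          have h2 : t ∈ Subgroup.closure ({x * t, t} : Set G) := Subgroup.subset_closure (by simp)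
          simpa using mul_mem h1 (inv_mem h2)
    · exact ⟨y, hy, by rw [Set.pair_comm]⟩
  have hr4 : r ^ 4 = 1 := by
    rw [show (4 : ℕ) = 2 + 2 from rfl, pow_add, pow_two, hr, hz2]
  have hord : orderOf r = 4 := orderOf_eq_prime_pow (p := 2) (n := 1)
    (by rw [pow_one, pow_two, hr]; exact h.ne) hr4
  have htr : t * r ≠ r * t := by
    intro hcom
    refine h.ne (commutatorElement_eq_one_iff_mul_comm.2 ?_)
    have hy : y ∈ Subgroup.closure ({r, t} : Set G) := hrE ▸ Subgroup.subset_closure (by simp)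
    have hle : Subgroup.closure ({r, t} : Set G) ≤ Subgroup.centralizer ({t} : Set G) := by
      rw [Subgroup.closure_le]
      rintro x (rfl | rfl) <;>
        simp only [SetLike.mem_coe, Subgroup.mem_centralizer_iff, Set.mem_singleton_iff, forall_eq]
      exact hcom
    exact Subgroup.mem_centralizer_iff.1 (hle hy) t rfl
  have hconj : t * r * t⁻¹ = r⁻¹ := by
    have h1 : ⁅t, r⁆ = z := by
      have hmem := Subgroup.commutator_mem_commutator (Subgroup.mem_top t) (Subgroup.mem_top r)
      rcases hsq r with _ | _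
      all_goals
        have h1 : Subgroup.zpowers z = commutator G := by
          refine Subgroup.eq_of_le_of_card_ge (Subgroup.zpowers_le.2 hzz) ?_
          rw [h.card, Nat.card_zpowers,
            orderOf_eq_prime (by rw [pow_two]; exact hz2) h.ne]
        obtain ⟨i, hi⟩ := Subgroup.mem_zpowers_iff.1 (h1.ge hmem)
        rcases Int.even_or_odd i with ⟨k, rfl⟩ | ⟨k, rfl⟩
        · exact absurd (commutatorElement_eq_one_iff_mul_comm.1
            (by rw [← hi, zpow_add, ← (Commute.refl z).mul_zpow, hz2, one_zpow])) htr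
        · rw [← hi, zpow_add, two_mul, zpow_add, ← (Commute.refl z).mul_zpow, hz2, one_zpow,
            one_mul, zpow_one]
    rw [commutatorElement_def, mul_inv_eq_iff_eq_mul] at h1
    rw [h1, eq_inv_iff_mul_eq_one, mul_assoc, hr, hz2]
  have hnm : t ∉ Subgroup.zpowers r := by
    intro hmem
    obtain ⟨i, hi⟩ := Subgroup.mem_zpowers_iff.1 hmem
    exact htr (hi ▸ ((Commute.refl r).zpow_left i).eq)
  have heq := (MonoidHom.ofInjective
    (TwoGroups.dihedralLift_injective hr4 htt hconj hord hnm)).trans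
    (MulEquiv.subgroupCongr ((TwoGroups.dihedralLift_range hr4 htt hconj).trans hrE))
  exact ⟨e.trans (MulEquiv.prodCongr heq.symm eA)⟩

end Cfsg.Agent.FusionAux.GenExtraspecial
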