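import Cfsg.Agent.FusionAux.Tate
import Cfsg.Agent.FusionAux.NormSys
import Cfsg.Agent.FusionAlperin.SurjImage
import Cfsg.Agent.FusionAlperin.Hyperfocal
import Cfsg.Agent.PGroup.Frattini
import Cfsg.Agent.S5128
import Cfsg.Agent.S5256

/-!
Fusion systems in which all subgroups of one given order `p ^ k` are weakly embedded and have
inner normalizer systems.
-/
set_option autoImplicit false

open Cfsg Cfsg.FusionSystem Cfsg.Agent.FusionSys Cfsg.Agent.FusionAux
open scoped Pointwise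
open Cfsg.Agent.FusionAlperin (sc_map_mem sc_inf sc_le_normalizer sc_self factorSystem
  factorSystem_isFactorSystem isSurjectiveMorphism_factor saturated_of_surjective)

namespace Cfsg.Agent.FusionAux.WeakEmb

variable {Ω : Type*} [Group Ω] {S : Subgroup Ω} {p : ℕ}

/-- Between a subgroup and a `p`-subgroup containing it there are subgroups of every order. -/
theorem exists_between [hp : Fact p.Prime] {L U : Subgroup Ω} [Finite U] (hU : IsPGroup p U)
    (hLU : L ≤ U) {b : ℕ} (hL : Nat.card L ≤ p ^ b) (hb : p ^ b ≤ Nat.card U) :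
    ∃ Q : Subgroup Ω, L ≤ Q ∧ Q ≤ U ∧ Nat.card Q = p ^ b := by
  obtain ⟨n, hn⟩ := IsPGroup.iff_card.1 hU
  obtain ⟨a, ha⟩ := IsPGroup.iff_card.1 (hU.to_subgroup (L.subgroupOf U))
  have hcL : Nat.card (L.subgroupOf U) = Nat.card L :=
    Nat.card_congr (Subgroup.subgroupOfEquivOfLe hLU).toEquiv
  rw [hn] at hb
  rw [← hcL, ha] at hL
  obtain ⟨K, hK, hLK⟩ := Sylow.exists_subgroup_card_pow_prime_le p
    (hn ▸ pow_dvd_pow p ((Nat.pow_le_pow_iff_right hp.out.one_lt).1 hb)) (L.subgroupOf U) ha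
    ((Nat.pow_le_pow_iff_right hp.out.one_lt).1 hL)
  refine ⟨K.map U.subtype, ?_, Subgroup.map_subtype_le K, ?_⟩
  · rw [← Subgroup.map_subgroupOf_eq_of_le hLU]
    exact Subgroup.map_mono hLK
  · rw [Subgroup.card_map_of_injective U.subtype_injective, hK]

/-- The weak embedding hypothesis at order `p ^ k`. -/
def WE (F : FusionSystem S) (p k : ℕ) : Prop :=
  ∀ Q : Subgroup Ω, Q ≤ S → Nat.card Q = p ^ k →
    ∃ P : Subgroup Ω, F.StronglyClosed P ∧ F.StronglyClosed (Q ⊔ P) ∧ F.StronglyClosed (Q ⊓ P)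

section

variable [Finite S] [hp : Fact p.Prime] {F : FusionSystem S} {k : ℕ}

omit hp [Finite S] in
/-- The trace on `T` of a strongly closed subgroup is normal and invariant. -/
theorem sc_subgroupOf {X T : Subgroup Ω} (hT : T ≤ S) (hX : F.StronglyClosed X) {β : MulAut T}
    (hβ : β ∈ F.autGroup T) :
    (X.subgroupOf T).Normal ∧ ∀ x ∈ X.subgroupOf T, β x ∈ X.subgroupOf T := by
  refine ⟨⟨fun x hx g => ?_⟩, fun x hx => sc_map_mem hX (autGroup_mem_hom F hT hβ) hx⟩
  exact (Subgroup.mem_normalizer_iff.1 (sc_le_normalizer hX (hT g.2)) _).1 hx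

/-- An automorphism of a subgroup of order at least `p ^ k` stabilises a normal subgroup of order
`p ^ k`. -/
theorem exists_invariant (hS : IsPGroup p S) (hW : WE F p k) {T : Subgroup Ω} (hT : T ≤ S)
    (hcard : p ^ k ≤ Nat.card T) {β : MulAut T} (hβ : β ∈ F.autGroup T) :
    ∃ H : Subgroup T, H.Normal ∧ (∀ x ∈ H, β x ∈ H) ∧ Nat.card H = p ^ k := by
  classical
  have : Finite T := finite_of_le ‹_› hT
  let good : Subgroup T → Prop := fun L =>
    L.Normal ∧ (∀ x ∈ L, β x ∈ L) ∧ Nat.card L ≤ p ^ k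
  have hbot : good ⊥ := ⟨inferInstance, fun x hx => by
    rw [Subgroup.mem_bot] at hx ⊢; rw [hx, map_one],
    by rw [Subgroup.card_bot]; exact Nat.one_le_pow _ _ hp.out.pos⟩
  obtain ⟨L, -, hLmax⟩ := Finite.exists_le_maximal (p := good) hbot
  obtain ⟨hLn, hLi, hLc⟩ := hLmax.prop
  rcases hLc.eq_or_lt with heq | hlt
  · exact ⟨L, hLn, hLi, heq⟩
  exfalso
  let big : Subgroup T → Prop := fun U => U.Normal ∧ (∀ x ∈ U, β x ∈ U) ∧ L < U
  have htop : big ⊤ := ⟨inferInstance, fun x _ => Subgroup.mem_top _, lt_top_iff_ne_top.2 fun h =>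
    hlt.not_ge (by rw [h, Subgroup.card_top]; exact hcard)⟩
  obtain ⟨U, -, hUmin⟩ := Finite.exists_le_minimal (p := big) htop
  obtain ⟨hUn, hUi, hLU⟩ := hUmin.prop
  have hUc : p ^ k ≤ Nat.card U := by
    by_contra h
    exact hLU.not_ge (hLmax.le_of_ge ⟨hUn, hUi, (not_le.1 h).le⟩ hLU.le)
  obtain ⟨Q₀, hLQ, hQU, hQc⟩ := exists_between ((hS.to_le hT).to_subgroup U) hLU.le hLc hUc
  set Q : Subgroup Ω := Q₀.map T.subtype with hQdef
  have hQ₀ : Q.subgroupOf T = Q₀ := Subgroup.comap_map_eq_self_of_injective T.subtype_injective Q₀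
  obtain ⟨P, hP, hQP, hQi⟩ := hW Q ((Subgroup.map_subtype_le _).trans hT)
    (by rw [Subgroup.card_map_of_injective T.subtype_injective, hQc])
  obtain ⟨hPn, hPi⟩ := sc_subgroupOf hT hP hβ
  obtain ⟨hIn, hIi⟩ := sc_subgroupOf hT hQi hβ
  obtain ⟨hJn, hJi⟩ := sc_subgroupOf hT hQP hβ
  have sup_inv : ∀ A B : Subgroup T, (∀ x ∈ A, β x ∈ A) → (∀ x ∈ B, β x ∈ B) →
      ∀ x ∈ A ⊔ B, β x ∈ A ⊔ B := by
    intro A B hA hB x hx
    have h : A ⊔ B ≤ (A ⊔ B).comap β.toMonoidHom :=
      sup_le (fun a ha => Subgroup.mem_sup_left (hA a ha))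
        (fun b hb => Subgroup.mem_sup_right (hB b hb))
    exact h hx
  -- `Q ⊓ P` lies in `L`
  have hI : Q₀ ⊓ P.subgroupOf T ≤ L := by
    intro x hx
    have hle : L ⊔ (Q ⊓ P).subgroupOf T ≤ Q₀ := sup_le hLQ fun y hy => hQ₀.le hy.1
    have hg : good (L ⊔ (Q ⊓ P).subgroupOf T) :=
      ⟨inferInstance, sup_inv _ _ hLi hIi, (Subgroup.card_le_of_le hle).trans hQc.le⟩
    exact hLmax.le_of_ge hg le_sup_left (Subgroup.mem_sup_right ⟨hQ₀.ge hx.1, hx.2⟩)
  have hPU : P.subgroupOf T ⊓ U ≤ L := by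
    by_contra hne
    have hle : L ⊔ (P.subgroupOf T ⊓ U) ≤ U := sup_le hLU.le inf_le_right
    have hb : big (L ⊔ (P.subgroupOf T ⊓ U)) := ⟨inferInstance, sup_inv _ _ hLi
      fun x hx => ⟨hPi x hx.1, hUi x hx.2⟩, lt_of_le_of_ne le_sup_left fun he =>
        hne (le_sup_right.trans he.ge)⟩
    have hU' := hUmin.le_of_le hb hle
    refine hlt.not_ge (hQc.ge.trans (Subgroup.card_le_of_le fun x hx => ?_))
    obtain ⟨l, hl, y, hy, rfl⟩ := Subgroup.mem_sup_of_normal_left.1 (hU' (hQU hx))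
    have hyQ : y ∈ Q₀ := by simpa using Q₀.mul_mem (Q₀.inv_mem (hLQ hl)) hx
    exact L.mul_mem hl (hI ⟨hyQ, hy.1⟩)
  -- hence `Q` is normal and invariant
  have hX : (Q ⊔ P).subgroupOf T ⊓ U = Q₀ := by
    refine le_antisymm ?_ (le_inf (fun x hx => Subgroup.mem_sup_left (hQ₀.ge hx)) hQU)
    rintro x ⟨hx, hxU⟩
    have hx' : (x : Ω) ∈ (Q : Set Ω) * (P : Set Ω) := by
      rw [← Subgroup.coe_mul_of_left_le_normalizer_right Q P
        (((Subgroup.map_subtype_le _).trans hT).trans (sc_le_normalizer hP))]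
      exact hx
    obtain ⟨_, ⟨q, hq, rfl⟩, y, hy, hxy⟩ := hx'
    have hqx : ((q⁻¹ * x : T) : Ω) = y := by
      rw [Subgroup.coe_mul, ← hxy]
      simp
    have hmem : q⁻¹ * x ∈ P.subgroupOf T ⊓ U :=
      ⟨show ((q⁻¹ * x : T) : Ω) ∈ P from hqx ▸ hy, U.mul_mem (U.inv_mem (hQU hq)) hxU⟩
    simpa using Q₀.mul_mem hq (hLQ (hPU hmem))
  have hg : good Q₀ := ⟨hX ▸ inferInstance, fun x hx => hX.le ⟨hJi x (hX.ge hx).1,
    hUi x (hX.ge hx).2⟩, hQc.le⟩
  exact hlt.not_ge (hQc.ge.trans (Subgroup.card_le_of_le (hLmax.le_of_ge hg hLQ)))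

/-- The normalizer hypothesis kills every `p'`-automorphism of a subgroup of order at least
`p ^ k`. -/
theorem aut_eq_one (hS : IsPGroup p S) (hF : F.IsSaturated p) (hW : WE F p k)
    (hN : ∀ H : Subgroup Ω, F.IsFullyNormalized H → Nat.card H = p ^ k →
      ∀ N : FusionSystem (normalizerIn S H), F.IsNormalizerSystem H N →
        ∀ P : Subgroup Ω, N.Hom P = (innerFusionSystem (normalizerIn S H)).Hom P)
    {T : Subgroup Ω} (hT : T ≤ S) (hcard : p ^ k ≤ Nat.card T) {β : MulAut T}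
    (hβ : β ∈ F.autGroup T) (hco : (orderOf β).Coprime p) : β = 1 := by
  obtain ⟨H, hHn, hHi, hHc⟩ := exists_invariant hS hW hT hcard hβ
  have : Finite T := finite_of_le ‹_› hT
  set H' : Subgroup Ω := H.map T.subtype with hH'
  have hH'S : H' ≤ S := (Subgroup.map_subtype_le _).trans hT
  have hTN : T ≤ normalizerIn S H' := le_inf hT fun t ht => by
    refine Subgroup.mem_normalizer_iff.2 fun y => ⟨?_, fun hy => ?_⟩
    · rintro ⟨z, hz, rfl⟩
      exact ⟨_, hHn.conj_mem z hz ⟨t, ht⟩, rfl⟩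
    · obtain ⟨z, hz, hzy⟩ := hy
      refine ⟨_, hHn.conj_mem z hz ⟨t, ht⟩⁻¹, ?_⟩
      show t⁻¹ * (z : Ω) * t⁻¹⁻¹ = y
      rw [show (z : Ω) = t * y * t⁻¹ from hzy]
      simp [mul_assoc]
  obtain ⟨H₀, hconj, hH₀⟩ := exists_fullyNormalized F hH'S
  obtain ⟨φ, hφ, hφN, hφH⟩ := exists_normalizer_map_fullyNormalized hS hF hH₀ hconj
  set θ := restr hTN φ with hθdef
  have hθ : θ ∈ F.Hom T := restr_mem F hTN hφ
  set e := toIso F hθ rfl with hedef
  set β' : MulAut θ.range := MulAut.congr e β with hβ'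
  have hT'S : θ.range ≤ S := range_le_S F hθ
  have hT'N : θ.range ≤ normalizerIn S H₀ := by
    rintro _ ⟨x, rfl⟩
    exact hφN _
  have hH₀T : H₀ ≤ θ.range := by
    rw [← hφH]
    rintro _ ⟨x, hx, rfl⟩
    obtain ⟨z, hz, hzx⟩ := hx
    refine ⟨z, congrArg φ (Subtype.ext ?_)⟩
    exact hzx
  have hco' : (orderOf β').Coprime p := by
    rw [hβ', MulEquiv.orderOf_eq]
    exact hco
  have hβ'F : β' ∈ F.autGroup θ.range := autCongr_mem F (toIso_isIso F hθ rfl) hβ
  have hmemN : (θ.range.subtype.comp β'.toMonoidHom) ∈ F.normalizerHom H₀ θ.range := by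
    have hle : θ.range ⊔ H₀ ≤ θ.range := sup_le le_rfl hH₀T
    refine ⟨autGroup_mem_hom F hT'S hβ'F, hT'N, fun x => hT'N (β' x).2,
      restr hle (θ.range.subtype.comp β'.toMonoidHom),
      restr_mem F hle (autGroup_mem_hom F hT'S hβ'F), fun x => rfl, ?_⟩
    have hstep : ∀ x : T, (θ x ∈ H₀ ↔ x ∈ H) := by
      intro x
      rw [← hφH, mem_map_subgroupOf]
      constructor
      · rintro ⟨y, ⟨z, hz, hzy⟩, hy⟩
        have h1 : y = Subgroup.inclusion hTN x := F.injective_of_mem hφ hy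
        obtain rfl : z = x := Subtype.ext (hzy.trans (congrArg Subtype.val h1))
        exact hz
      · intro hx
        exact ⟨Subgroup.inclusion hTN x, ⟨x, hx, rfl⟩, rfl⟩
    ext y
    rw [mem_map_subgroupOf]
    constructor
    · rintro ⟨x, hx, rfl⟩
      show (β' ⟨(x : Ω), hle x.2⟩ : Ω) ∈ H₀
      rw [hβ', autCongr_apply, hedef, toIso_coe]
      refine (hstep _).2 (hHi _ ((hstep _).1 ?_))
      rw [← toIso_coe F hθ rfl, MulEquiv.apply_symm_apply]
      exact hx
    · intro hy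
      obtain ⟨z, rfl⟩ := hH₀T hy
      have hsurj : Function.Bijective (fun h : H => (⟨β h, hHi _ h.2⟩ : H)) :=
        Finite.injective_iff_bijective.1 fun a b hab =>
          Subtype.ext (β.injective (congrArg Subtype.val hab) : _)
      obtain ⟨⟨w, hw⟩, hwz⟩ := hsurj.2 ⟨z, (hstep z).1 hy⟩
      refine ⟨⟨θ w, Subgroup.mem_sup_left ⟨w, rfl⟩⟩, (hstep w).2 hw, ?_⟩
      show (β' (e w) : Ω) = θ z
      rw [hβ', autCongr_apply, MulEquiv.symm_apply_apply, hedef, toIso_coe]
      exact congrArg θ (congrArg Subtype.val hwz)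
  have h := hN H₀ hH₀ ((isConj_card_eq hconj).symm.trans
    ((Subgroup.card_map_of_injective T.subtype_injective).trans hHc))
    (normSys F H₀ hH₀.1) (normSys_spec F H₀ hH₀.1) θ.range
  obtain ⟨-, g, hg, hgx⟩ := (h.le hmemN :)
  obtain ⟨j, hj⟩ := (hS.to_le (normalizerIn_le H₀)) ⟨g, hg⟩
  have hpow : ∀ (n : ℕ) (x : θ.range), (((β' ^ n) x : θ.range) : Ω) = g ^ n * x * (g ^ n)⁻¹ := by
    intro n
    induction n with
    | zero => intro x; simp
    | succ n ih =>
      intro x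
      rw [pow_succ', pow_succ', MulAut.mul_apply]
      refine (hgx _).trans ?_
      rw [ih]
      simp [mul_assoc]
  have h1 : β' ^ p ^ j = 1 := by
    ext x
    rw [hpow, show g ^ p ^ j = 1 from congrArg Subtype.val hj]
    simp
  have h2 : β' = 1 := orderOf_eq_one_iff.1
    (Nat.eq_one_of_dvd_coprimes hco' dvd_rfl (by
      obtain ⟨i, -, hi⟩ := (Nat.dvd_prime_pow hp.out).1 (orderOf_dvd_of_pow_eq_one h1)
      rcases Nat.eq_zero_or_pos i with rfl | hpos
      · simp [hi]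
      · exfalso
        rw [hi] at hco'
        exact hp.out.one_lt.ne' ((Nat.coprime_self p).1
          (hco'.coprime_dvd_left (dvd_pow_self p hpos.ne')))))
  exact (MulEquiv.map_eq_one_iff (MulAut.congr e)).1 h2

omit hp [Finite S] in
/-- It suffices that every `p'`-automorphism stabilises a strongly closed `L` to bound the
hyperfocal subgroup by `L`. -/
theorem hyperfocal_le_of_aut {L : Subgroup Ω} (hL : F.StronglyClosed L)
    (h : ∀ P : Subgroup Ω, P ≤ S → ∀ β ∈ F.autGroup P, (orderOf β).Coprime p →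
      ∀ x : P, (x : Ω)⁻¹ * (β x : P) ∈ L) : F.hyperfocalSubgroup p ≤ L := by
  refine (Subgroup.closure_le _).2 ?_
  rintro _ ⟨P, α, x, hP, hα, rfl⟩
  have hK : pResidual p (F.autGroup P) ≤ stabMod hL P hP := by
    refine (Subgroup.closure_le _).2 fun g hg y => h P hP g g.2 ?_ y
    rw [Subgroup.orderOf_coe]
    exact hg
  exact hK hα x

/-- Tate's theorem modulo a strongly closed subgroup. -/
theorem hyperfocal_le_of_le_frattini_sc (hS : IsPGroup p S) (hF : F.IsSaturated p)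
    {L : Subgroup Ω} (hL : F.StronglyClosed L)
    (h : (F.hyperfocalSubgroup p).subgroupOf S ≤ frattini S ⊔ L.subgroupOf S) :
    F.hyperfocalSubgroup p ≤ L := by
  have : (L.subgroupOf S).Normal :=
    Subgroup.normal_subgroupOf_iff_le_normalizer hL.1 |>.2 (sc_le_normalizer hL)
  set θ := QuotientGroup.mk' (L.subgroupOf S) with hθ
  have hker : ∀ s : S, θ s = 1 ↔ (s : Ω) ∈ L := fun s => QuotientGroup.eq_one_iff s
  have hrange : θ.range = ⊤ := MonoidHom.range_eq_top.2 (QuotientGroup.mk'_surjective _)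
  set E := factorSystem F hL θ hker hrange
  have hE := factorSystem_isFactorSystem F hL θ hker hrange
  have hEsat : E.IsSaturated p :=
    saturated_of_surjective hS hF (isSurjectiveMorphism_factor hS hF hL hE)
  have hS' : IsPGroup p (⊤ : Subgroup (S ⧸ L.subgroupOf S)) := (hS.to_quotient _).to_subgroup _
  have hbot : E.hyperfocalSubgroup p ≤ ⊥ := by
    refine hyperfocal_le_of_le_frattini_sup hS' hEsat bot_le
      (le_top.trans (Subgroup.normalizer_eq_top (⊥ : Subgroup (S ⧸ L.subgroupOf S))).ge) ?_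
    rw [sup_bot_eq, Cfsg.Agent.S5256.result p hS F hF L hL θ E hE,
      Cfsg.Agent.PGroup.map_frattini hS' (⊤ : Subgroup (S ⧸ L.subgroupOf S)).subtype
        (fun y => ⟨⟨y, Subgroup.mem_top y⟩, rfl⟩),
      ← Cfsg.Agent.PGroup.map_frattini hS θ (QuotientGroup.mk'_surjective _)]
    refine (Subgroup.map_mono h).trans ?_
    rw [Subgroup.map_sup, hθ, QuotientGroup.map_mk'_self, sup_bot_eq]
  intro y hy
  have hyS : y ∈ S := hyperfocal_le F hy
  refine (hker ⟨y, hyS⟩).1 (hbot ?_)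
  rw [Cfsg.Agent.S5256.result p hS F hF L hL θ E hE]
  exact ⟨⟨y, hyS⟩, hy, rfl⟩

/-- The main induction: the hyperfocal subgroup lies in every strongly closed subgroup. -/
theorem hyperfocal_le_sc (hS : IsPGroup p S) (hF : F.IsSaturated p) (hW : WE F p k)
    (hN : ∀ H : Subgroup Ω, F.IsFullyNormalized H → Nat.card H = p ^ k →
      ∀ N : FusionSystem (normalizerIn S H), F.IsNormalizerSystem H N →
        ∀ P : Subgroup Ω, N.Hom P = (innerFusionSystem (normalizerIn S H)).Hom P)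
    (hk : p ^ k < Nat.card S) :
    ∀ (n : ℕ) (L : Subgroup Ω), F.StronglyClosed L → Nat.card S - Nat.card L = n →
      F.hyperfocalSubgroup p ≤ L := by
  intro n
  induction n using Nat.strong_induction_on with
  | _ n ih =>
  intro L hL hn
  have hLS := hL.1
  have hLfin : Finite L := finite_of_le ‹_› hLS
  by_cases hbig : p ^ k ≤ Nat.card L
  · refine hyperfocal_le_of_aut hL fun P hP β hβ hco x => ?_
    obtain ⟨φ, hφ, hφc⟩ := exists_extend_mod hS hF hL P P β ((mem_autGroup F hP).1 hβ)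
    have hr := range_eq_sup hL hφ hφc
    set γ : MulAut ↥(P ⊔ L) := toIso F hφ hr with hγ
    have hγF : γ ∈ F.autGroup (P ⊔ L) := toIso_mem_autGroup F hφ hr
    have hPLS : P ⊔ L ≤ S := sup_le hP hLS
    have : Finite ↥(P ⊔ L) := finite_of_le ‹_› hPLS
    obtain ⟨m, c, hc, hm, hdvd⟩ := exists_pprime_exponent (orderOf_pos γ) hco
    have hγm : γ ^ m = 1 := by
      refine aut_eq_one hS hF hW hN hPLS (hbig.trans (Subgroup.card_le_of_le le_sup_right))
        (pow_mem hγF m) (hc.coprime_dvd_left (orderOf_dvd_of_pow_eq_one ?_))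
      rw [← pow_mul, ← orderOf_dvd_iff_pow_eq_one]
      exact hdvd
    have hβm : β ^ m = β := by
      conv_rhs => rw [← pow_one β]
      exact pow_eq_pow_iff_modEq.2 hm
    have hcong : ∀ (i : ℕ) (y : P),
        (((β ^ i) y : P) : Ω)⁻¹ * ((γ ^ i) (Subgroup.inclusion le_sup_left y) : ↥(P ⊔ L)) ∈ L := by
      intro i
      induction i with
      | zero => intro y; simp
      | succ i ihi =>
        intro y
        rw [pow_succ', pow_succ', MulAut.mul_apply, MulAut.mul_apply]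
        set z : P := (β ^ i) y
        set w : ↥(P ⊔ L) := (γ ^ i) (Subgroup.inclusion le_sup_left y)
        have h1 : ((Subgroup.inclusion le_sup_left z)⁻¹ * w : ↥(P ⊔ L)).1 ∈ L := by
          simpa using ihi y
        have h2 := L.mul_mem (hφc z)
          (sc_map_mem hL hφ (x := (Subgroup.inclusion le_sup_left z)⁻¹ * w) h1)
        rw [mul_assoc, ← map_mul, mul_inv_cancel_left] at h2
        exact h2
    have h := L.inv_mem (hcong m x)
    rw [hγm, hβm] at h
    simpa using h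
  rw [not_le] at hbig
  by_contra hne
  set M := F.hyperfocalSubgroup p ⊔ L with hMdef
  have hM : F.StronglyClosed M :=
    Cfsg.Agent.S5128.result p hS F hF _ _ (FusionAlperin.hyperfocal_stronglyClosed hS hF) hL
  have hLM : L < M := lt_of_le_of_ne le_sup_right fun h => hne (le_sup_left.trans h.ge)
  have hIH : ∀ X, F.StronglyClosed X → L < X → M ≤ X := fun X hX hlt => by
    refine sup_le (ih _ ?_ X hX rfl) hlt.le
    have h1 := card_lt_card_of_lt hX.1 hlt
    have h2 := Subgroup.card_le_of_le hX.1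
    omega
  have hHM : (F.hyperfocalSubgroup p).subgroupOf S ≤ M.subgroupOf S :=
    Subgroup.comap_mono le_sup_left
  have : (L.subgroupOf S).Normal :=
    Subgroup.normal_subgroupOf_iff_le_normalizer hLS |>.2 (sc_le_normalizer hL)
  obtain ⟨m₀, hm₀, hm₀N⟩ : ∃ m ∈ M.subgroupOf S, m ∉ frattini S ⊔ L.subgroupOf S :=
    SetLike.not_le_iff_exists.1 fun h => hne (hyperfocal_le_of_le_frattini_sc hS hF hL (hHM.trans h))
  obtain ⟨Q₀, hQ₀, hNQ₀, hm₀Q⟩ := Cfsg.Agent.PGroup.exists_isCoatom_not_mem hp.out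
    ((Cfsg.Agent.PGroup.commutator_le_frattini hS).trans le_sup_left)
    (fun y => Subgroup.mem_sup_left (Cfsg.Agent.PGroup.pow_mem_frattini hS y)) hm₀N
  have hQ₀n : Q₀.Normal := Cfsg.Agent.PGroup.normal_of_isCoatom hS hQ₀
  set X₀ : Subgroup Ω := Q₀.map S.subtype with hX₀
  have hX₀S : X₀ ≤ S := Subgroup.map_subtype_le _
  have hLX₀ : L ≤ X₀ := fun l hl => ⟨⟨l, hLS hl⟩, hNQ₀ (Subgroup.mem_sup_right hl), rfl⟩
  have hMX₀ : ¬ M ≤ X₀ := fun h => hm₀Q (by
    obtain ⟨z, hz, hze⟩ := h hm₀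
    rwa [← show z = m₀ from Subtype.ext hze])
  have hX₀c : p ^ k ≤ Nat.card X₀ := by
    obtain ⟨i, hi⟩ := IsPGroup.iff_card.1 hS
    rw [hi] at hk
    have h := Q₀.card_mul_index
    rw [Cfsg.Agent.PGroup.index_of_isCoatom hS hQ₀, hi] at h
    rw [hX₀, Subgroup.card_map_of_injective S.subtype_injective]
    have hlt := (Nat.pow_lt_pow_iff_right hp.out.one_lt).1 hk
    refine Nat.le_of_mul_le_mul_right ?_ hp.out.pos
    rw [h, ← pow_succ]
    exact Nat.pow_le_pow_right hp.out.pos hlt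
  have : Finite X₀ := finite_of_le ‹_› hX₀S
  by_cases hsmall : X₀ ⊓ M ≤ L
  · -- `M / L` is central
    have hcent : ∀ g ∈ S, ∀ y ∈ M, y⁻¹ * (g * y * g⁻¹) ∈ L := by
      intro g hg y hy
      refine hsmall ⟨?_, M.mul_mem (M.inv_mem hy) (FusionAlperin.sc_conj_mem hM hg hy)⟩
      refine ⟨⟨y, hM.1 hy⟩⁻¹ * (⟨g, hg⟩ * ⟨y, hM.1 hy⟩ * ⟨g, hg⟩⁻¹), hNQ₀ (Subgroup.mem_sup_left ?_),
        rfl⟩
      have := Cfsg.Agent.PGroup.commutatorElement_mem_frattini hS (⟨y, hM.1 hy⟩ : S)⁻¹ ⟨g, hg⟩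
      simpa [commutatorElement_def, mul_assoc] using this
    have key : ∀ (P Q : Subgroup Ω) (e : P ≃* Q), IsIso F e →
        ∀ x : P, (x : Ω) ∈ M → (x : Ω)⁻¹ * (e x : Ω) ∈ L := by
      refine iso_induction hS hF (fun P Q e => ∀ x : P, (x : Ω) ∈ M → (x : Ω)⁻¹ * (e x : Ω) ∈ L)
        ?_ ?_ ?_ ?_
      · intro P Q R e e' he _ h h' x hx
        have h2 := L.mul_mem (h x hx) (h' (e x) (sc_map_mem hM he hx))
        simpa [mul_assoc] using h2
      · intro P Q e he h y hy
        have h2 := L.inv_mem (h (e.symm y) (sc_map_mem hM he.symm hy))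
        simpa using h2
      · intro P Q R R' e e' _ hle hag h x hx
        rw [hag x]
        exact h ⟨x, hle x.2⟩ hx
      intro Q hQ IH α hα
      let K : Subgroup (F.autGroup Q) :=
        { carrier := {a | ∀ x : Q, (x : Ω) ∈ M → (x : Ω)⁻¹ * ((a : MulAut Q) x : Ω) ∈ L}
          one_mem' := fun x _ => by simp
          mul_mem' := fun {a b} ha hb x hx => by
            have h2 := L.mul_mem (hb x hx)
              (ha ((b : MulAut Q) x) (sc_map_mem hM (autGroup_mem_hom F hQ.1 b.2) hx))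
            simpa [mul_assoc] using h2
          inv_mem' := fun {a} ha x hx => by
            have h2 := L.inv_mem (ha ((a : MulAut Q).symm x)
              (sc_map_mem hM (autGroup_mem_hom F hQ.1 (a⁻¹).2) hx))
            simpa [mul_assoc] using h2 }
      have : K.Normal := ⟨fun a ha g x hx => by
        have hx' := sc_map_mem hM (autGroup_mem_hom F hQ.1 (g⁻¹).2) hx
        have hmem : (((g : MulAut Q).symm x)⁻¹ * (a : MulAut Q) ((g : MulAut Q).symm x) : Q).1 ∈ L :=
          by simpa using ha ((g : MulAut Q).symm x) hx'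
        have h2 := sc_map_mem hL (autGroup_mem_hom F hQ.1 g.2) hmem
        simpa [mul_assoc] using h2⟩
      have hind : ∀ g ∈ normalizerIn S Q, ∃ β ∈ K, ∀ x : Q, ((β : MulAut Q) x : Ω) = g * x * g⁻¹ :=
        fun g hg => ⟨⟨Q.normalizerMonoidHom ⟨g, hg.2⟩, autInducedBy_le_autGroup F hQ.1
          (mem_autInducedBy.2 ⟨g, hg.1, fun y => rfl⟩)⟩, fun x hx => hcent g hg.1 x hx, fun y => rfl⟩
      by_cases hQS : Q = S
      · subst hQS
        obtain ⟨-, R, hR⟩ := (saturated_fullyNormalized hS hF hQ).2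
        have hpg : IsPGroup p (⊤ : Subgroup (F.autGroup Q)) := by
          intro γ
          refine ⟨(orderOf γ).factorization p, ?_⟩
          have hco : (orderOf (γ ^ p ^ (orderOf γ).factorization p)).Coprime p := by
            rw [orderOf_pow' γ (pow_ne_zero _ hp.out.ne_zero),
              Nat.gcd_eq_right (Nat.ordProj_dvd _ _)]
            exact (Nat.coprime_ordCompl hp.out (orderOf_pos γ).ne').symm
          rw [← Subgroup.orderOf_coe, ← Subgroup.orderOf_coe] at hco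
          apply Subtype.ext
          apply Subtype.ext
          exact aut_eq_one hS hF hW hN le_rfl hk.le
            ((γ ^ p ^ (orderOf γ).factorization p).1.2) hco
        have hαR : (⟨α, hα⟩ : F.autGroup Q) ∈ (R : Subgroup (F.autGroup Q)) :=
          (R.3 hpg le_top).le (Subgroup.mem_top _)
        rw [hR, Subgroup.mem_subgroupOf] at hαR
        obtain ⟨g, hg, hgα⟩ := mem_autInducedBy.1 hαR
        intro x hx
        rw [hgα x]
        exact hcent g hg x hx
      obtain ⟨h, k', N, N', e, hQN, hαe, hk', he, -, hNn, hag, hext⟩ :=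
        exists_frattini_extend hS hF hQ K ⟨α, hα⟩
      have hNeq : N = normalizerIn S Q := le_antisymm hNn fun g hg => hext g hg (hind g hg)
      have hlt : Nat.card Q < Nat.card N :=
        hNeq ▸ card_lt_card_of_lt (normalizerIn_le Q) (lt_normalizerIn hS hQ.1 hQS)
      have hh : h ∈ K := fun x hx => by
        have h2 := IH N N' e he hlt ⟨x, hQN x.2⟩ hx
        rwa [hag x] at h2
      intro x hx
      exact (hαe ▸ K.mul_mem hh hk' : (⟨α, hα⟩ : F.autGroup Q) ∈ K) x hx
    refine hne (hyperfocal_le_of_aut hL fun P hP β hβ hco x => ?_)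
    have hHsc := FusionAlperin.hyperfocal_stronglyClosed hS hF (F := F)
    set y : P := x⁻¹ * β x with hy
    have hyM : (y : Ω) ∈ M := by
      refine Subgroup.mem_sup_left ?_
      rw [hy, Subgroup.coe_mul, Subgroup.coe_inv]
      exact focal_gen_mem_hyperfocal F hP (α := ⟨β, hβ⟩)
        (Subgroup.subset_closure (by show Nat.Coprime _ p; rw [← Subgroup.orderOf_coe]; exact hco)) x
    have hsame : ∀ i : ℕ, ((x * y ^ i : P) : Ω)⁻¹ * ((β ^ i) x : P) ∈ L := by
      intro i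
      induction i with
      | zero => simp
      | succ i ihi =>
        have hyi : ((y ^ i : P) : Ω) ∈ M := by
          rw [SubgroupClass.coe_pow]; exact pow_mem hyM i
        have h1 := key P P β ((mem_autGroup F hP).1 hβ) (y ^ i) hyi
        have h2 := sc_map_mem hL (autGroup_mem_hom F hP hβ)
          (x := (x * y ^ i)⁻¹ * (β ^ i) x) (by simpa using ihi)
        have h3 := L.mul_mem h1 h2
        show ((x * y ^ (i + 1) : P) : Ω)⁻¹ * ((β ^ (i + 1)) x : P) ∈ L
        simp only [MonoidHom.coe_comp, MulEquiv.coe_toMonoidHom, Subgroup.coe_subtype,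
          Function.comp_apply, map_mul, map_inv] at h3
        rw [pow_succ' β, MulAut.mul_apply, pow_succ', ← mul_assoc, Subgroup.coe_mul, mul_inv_rev]
        rw [show ((β x : P) : Ω) = (x : Ω) * y by simp [hy]] at h3
        simpa [mul_assoc] using h3
    have hord := L.inv_mem (hsame (orderOf β))
    rw [pow_orderOf_eq_one] at hord
    have hyn : ((y : Ω)) ^ orderOf β ∈ L := by simpa [mul_assoc] using hord
    obtain ⟨j, hj⟩ := hS ⟨y, hP y.2⟩
    obtain ⟨a, ha⟩ := exists_pow_eq_self_of_coprime (x := (y : Ω))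
      ((hco.pow_right j).coprime_dvd_right
        (orderOf_dvd_of_pow_eq_one (congrArg Subtype.val hj :)))
    have := pow_mem hyn a
    rw [ha] at this
    rw [hy, Subgroup.coe_mul, Subgroup.coe_inv] at this
    exact this
  obtain ⟨z, hz, hzL⟩ := SetLike.not_le_iff_exists.1 hsmall
  -- a subgroup `U` with `L < U ≤ X₀ ⊓ M` of order at most `p ^ k`
  have hcLU : Nat.card L < Nat.card ↥(X₀ ⊓ M) := card_lt_card_of_lt (inf_le_left.trans hX₀S)
    (lt_of_le_of_ne (le_inf hLX₀ hLM.le) fun h => hzL (h ▸ hz))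
  obtain ⟨a, ha⟩ := IsPGroup.iff_card.1 (hS.to_le hLS)
  have hak : a + 1 ≤ k := (Nat.pow_lt_pow_iff_right hp.out.one_lt).1 (ha ▸ hbig)
  have : Finite ↥(X₀ ⊓ M) := finite_of_le ‹_› (inf_le_left.trans hX₀S)
  obtain ⟨U, hLU, hUX, hUc⟩ := exists_between (b := a + 1)
    (hS.to_le (inf_le_left.trans hX₀S)) (le_inf hLX₀ hLM.le)
    (ha ▸ Nat.pow_le_pow_right hp.out.pos (Nat.le_succ a)) (by
      obtain ⟨c, hc⟩ := IsPGroup.iff_card.1 (hS.to_le (inf_le_left.trans hX₀S : X₀ ⊓ M ≤ S))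
      rw [ha, hc] at hcLU
      rw [hc]
      exact Nat.pow_le_pow_right hp.out.pos ((Nat.pow_lt_pow_iff_right hp.out.one_lt).1 hcLU))
  obtain ⟨Q, hUQ, hQX, hQc⟩ := exists_between (hS.to_le hX₀S) (hUX.trans inf_le_left)
    (hUc ▸ Nat.pow_le_pow_right hp.out.pos hak) hX₀c
  have hLQ := hLU.trans hUQ
  have hQS := hQX.trans hX₀S
  obtain ⟨P, hP, hQP, hQi⟩ := hW Q hQS hQc
  have hMQ : ¬ M ≤ Q := fun h => hMX₀ (h.trans hQX)
  have hI : Q ⊓ P ≤ L := by
    by_contra h
    refine hMQ ((hIH _ (Cfsg.Agent.S5128.result p hS F hF _ _ hQi hL)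
      (lt_of_le_of_ne le_sup_right fun he => h (le_sup_left.trans he.ge))).trans
      (sup_le inf_le_left hLQ))
  have hUL : U ≠ L := fun he => by
    rw [he, ha] at hUc
    exact (Nat.pow_lt_pow_right hp.out.one_lt (Nat.lt_succ_self a)).ne hUc
  by_cases hPL : P ≤ L
  · refine hMQ ((hIH _ hQP (lt_of_le_of_ne (hLQ.trans le_sup_left) fun he => hUL ?_)).trans
      (sup_le le_rfl (hPL.trans hLQ)))
    exact le_antisymm (hUQ.trans (le_sup_left.trans he.ge)) hLU
  · have hMP : M ≤ P ⊔ L := hIH _ (Cfsg.Agent.S5128.result p hS F hF _ _ hP hL)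
      (lt_of_le_of_ne le_sup_right fun he => hPL (le_sup_left.trans he.ge))
    refine hUL (le_antisymm (fun u hu => ?_) hLU)
    have hu' : u ∈ (P : Set Ω) * (L : Set Ω) := by
      rw [← Subgroup.coe_mul_of_left_le_normalizer_right P L (hP.1.trans (sc_le_normalizer hL))]
      exact hMP (hUX hu).2
    obtain ⟨y, hy, l, hl, rfl⟩ := hu'
    refine L.mul_mem (hI ⟨?_, hy⟩) hl
    simpa using Q.mul_mem (hUQ hu) (Q.inv_mem (hLQ hl))

end

end Cfsg.Agent.FusionAux.WeakEmb
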