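import Cfsg.Agent.FusionAux.CenterIndexSq
import Cfsg.Agent.FusionAux.GenExtraspecial
import Cfsg.Agent.FusionAux.WeaklyEmbedded
import Cfsg.Agent.PGroup.Frattini

/-!
Determination of the `p`-group in the core free situation with centre of index `p ^ 2`.
-/

set_option autoImplicit false

open Cfsg Cfsg.FusionSystem Cfsg.Agent.FusionSys Cfsg.Agent.FusionAux
open Cfsg.Agent.FusionAlperin (alperin_le)
open Cfsg.Agent.FusionAux.GenExtraspecial (extraspecial_of_generators Split)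
open scoped commutatorElement

namespace Cfsg.Agent.FusionAux.CenterIndexSq

variable {Ω : Type*} [Group Ω] {S : Subgroup Ω}

theorem zpow_cases {G : Type*} [Group G] {a : G} (h : a ^ 2 = 1) (m : ℤ) :
    a ^ m = 1 ∨ a ^ m = a := by
  have h' : a ^ (2 : ℤ) = 1 := by exact_mod_cast h
  rcases Int.even_or_odd m with ⟨k, rfl⟩ | ⟨k, rfl⟩
  · left; rw [← two_mul, zpow_mul, h', one_zpow]
  · right; rw [zpow_add, zpow_mul, h', one_zpow, one_mul, zpow_one]

theorem card_le_two {C : Subgroup Ω} (h : ∀ a ∈ C, ∀ b ∈ C, a ≠ 1 → b ≠ 1 → a = b) (a b : C)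
    (ha : a ≠ 1) (hb : b ≠ 1) : a = b :=
  Subtype.ext (h a a.2 b b.2 (fun e => ha (Subtype.ext e)) (fun e => hb (Subtype.ext e)))

section

variable [Finite S] {p : ℕ} [hp : Fact p.Prime] {F : FusionSystem S}

/-- A bad subgroup is generated by the centre and any of its other elements. -/
theorem Data.mem_decomp (d : Data F p) {A : Subgroup Ω} (hA : Bad F A) {t : Ω} (ht : t ∈ A)
    (htZ : t ∉ zCenter S) {a : Ω} (ha : a ∈ A) :
    ∃ m : ℤ, ∃ w ∈ zCenter S, a = t ^ m * w := by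
  set K := Subgroup.zpowers t ⊔ zCenter S with hK
  have hKA : K ≤ A := sup_le (Subgroup.zpowers_le.2 ht) hA.center_le
  have h3 := Subgroup.relIndex_mul_relIndex (zCenter S) A S hA.center_le hA.le
  rw [show (zCenter S).relIndex S = p ^ 2 from d.index, show A.relIndex S = p from d.index_eq hA,
    pow_two] at h3
  have h4 := Nat.eq_of_mul_eq_mul_right hp.out.pos h3
  have h5 := Subgroup.relIndex_mul_relIndex (zCenter S) K A le_sup_right hKA
  rw [h4] at h5
  have hKeq : A ≤ K := by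
    rcases hp.out.eq_one_or_self_of_dvd _ (Dvd.intro _ h5) with h | h
    · exact absurd (Subgroup.relIndex_eq_one.1 h (le_sup_left (b := zCenter S)
        (Subgroup.mem_zpowers t))) htZ
    · refine Subgroup.relIndex_eq_one.1 (Nat.eq_of_mul_eq_mul_left hp.out.pos ?_)
      rw [mul_one]
      rw [h] at h5
      exact h5
  obtain ⟨v, hv, w, hw, rfl⟩ := eq_mul_of_mem_sup
    (fun x hx y hy => hA.comm x (hKA hx) y (hKA hy)) (le_sup_left : Subgroup.zpowers t ≤ K) rfl
    (hKeq ha)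
  obtain ⟨m, rfl⟩ := Subgroup.mem_zpowers_iff.1 hv
  exact ⟨m, w, hw, rfl⟩

/-- Two different bad subgroups meet in the centre. -/
theorem Data.inf_le_center (d : Data F p) {A B : Subgroup Ω} (hA : Bad F A) (hB : Bad F B)
    (hne : A ≠ B) {x : Ω} (hxA : x ∈ A) (hxB : x ∈ B) : x ∈ zCenter S := by
  by_contra hx
  refine hne (le_antisymm (fun a ha => ?_) fun b hb => ?_)
  · obtain ⟨m, w, hw, rfl⟩ := d.mem_decomp hA hxA hx ha
    exact B.mul_mem (B.zpow_mem hxB m) (hB.center_le hw)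
  · obtain ⟨m, w, hw, rfl⟩ := d.mem_decomp hB hxB hx hb
    exact A.mul_mem (A.zpow_mem hxA m) (hA.center_le hw)

/-- Elements of different bad subgroups outside the centre do not commute. -/
theorem Data.noncomm (d : Data F p) {A B : Subgroup Ω} (hA : Bad F A) (hB : Bad F B)
    (hne : A ≠ B) {a b : Ω} (ha : a ∈ A) (haZ : a ∉ zCenter S) (hb : b ∈ B)
    (hbZ : b ∉ zCenter S) : a * b ≠ b * a := by
  intro hab
  refine hbZ ⟨hB.le hb, Subgroup.mem_centralizer_iff.2 fun g hg => ?_⟩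
  obtain ⟨u, hu, n, rfl⟩ :=
    d.sup_zpowers hA (hB.le hb) (fun h => hbZ (d.inf_le_center hA hB hne h hb)) g hg
  obtain ⟨m, w, hw, rfl⟩ := d.mem_decomp hA ha haZ hu
  have h1 : Commute a b := hab
  have h2 : Commute w b := (hw.2 b (hB.le hb)).symm
  exact (((h1.zpow_left m).mul_left h2).mul_left ((Commute.refl b).pow_left n)).eq

/-- An element outside the centre in the moved part. -/
theorem exists_out {V : Subgroup Ω} {z : Ω} (hzo : orderOf z = p) (hVc : Nat.card V = p ^ 2)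
    (hVZ : V ⊓ zCenter S ≤ Subgroup.zpowers z) : ∃ t ∈ V, t ∉ zCenter S := by
  by_contra h
  push Not at h
  have hle : V ≤ Subgroup.zpowers z := fun v hv => hVZ ⟨hv, h v hv⟩
  have := Subgroup.card_dvd_of_le hle
  rw [hVc, Nat.card_zpowers, hzo] at this
  exact Nat.lt_irrefl _ ((lt_self_pow₀ hp.out.one_lt one_lt_two).trans_le
    (Nat.le_of_dvd hp.out.pos this))

/-- If some fixed subgroups vanish, the centre has order `p` and `S` order `p ^ 3`. -/
theorem Data.card_eq (d : Data F p) {A V : Subgroup Ω} (hA : Bad F A) (hVc : Nat.card V = p ^ 2)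
    {C : Subgroup Ω} (hsup : V ⊔ C = A) (hC : C = ⊥) :
    V = A ∧ Nat.card S = p ^ 3 ∧ Nat.card (zCenter S) = p := by
  subst hC
  rw [sup_bot_eq] at hsup
  subst hsup
  have h1 : Nat.card S = p ^ 3 := by
    rw [← Subgroup.card_mul_index (V.subgroupOf S), d.index_eq hA,
      Nat.card_congr (Subgroup.subgroupOfEquivOfLe hA.le).toEquiv, hVc]
    ring
  refine ⟨rfl, h1, ?_⟩
  have h2 := Subgroup.card_mul_index ((zCenter S).subgroupOf S)
  rw [d.index, h1, Nat.card_congr (Subgroup.subgroupOfEquivOfLe inf_le_left).toEquiv] at h2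
  exact Nat.eq_of_mul_eq_mul_right (pow_pos hp.out.pos 2) (h2.trans (by ring))

/-- Core free systems have trivial common fixed subgroup. -/
theorem Data.fix_inter (d : Data F p) (hcore : ∀ N, F.IsNormal N → N = ⊥) {x : Ω}
    (hxZ : x ∈ zCenter S) (hx : ∀ A, Bad F A → x ∈ fixSub F A) : x = 1 :=
  Subgroup.mem_bot.1 ((hcore _ d.commonFix_normal).le (mem_commonFix.2 ⟨hxZ, hx⟩))

/-- The odd case. -/
theorem Data.odd_case (d : Data F p) (hp2 : p ≠ 2) (hcore : ∀ N, F.IsNormal N → N = ⊥)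
    (hS1 : S ≠ ⊥) :
    Cfsg.IsExtraspecial p S ∧ Nat.card S = p ^ 3 ∧ Monoid.exponent S = p := by
  obtain ⟨A, B, hA, hB, hne⟩ := d.exists_two hcore hS1
  obtain ⟨z, hz, hzo, hcomm⟩ := d.exists_gen hA
  obtain ⟨hCA, V, hzV, hVA, hVc, hVp, hVZ, -, hsupA, -, -⟩ := d.structureOf hA hz hzo hcomm
  obtain ⟨-, W, hzW, hWB, hWc, hWp, hWZ, -, hsupB, -, -⟩ := d.structureOf hB hz hzo hcomm
  have hfix : ∀ {C : Subgroup Ω}, Bad F C → fixSub F C = ⊥ := by
    intro C hC
    obtain ⟨hCC, -⟩ := d.structureOf hC hz hzo hcomm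
    refine (Subgroup.eq_bot_iff_forall _).2 fun x hx => d.fix_inter hcore (hCC hx) fun D hD => ?_
    exact d.fixSub_eq hp2 hD hC hz hzo hcomm hx
  obtain ⟨rfl, hcard, hZc⟩ := d.card_eq hA hVc hsupA (hfix hA)
  obtain ⟨rfl, -, -⟩ := d.card_eq hB hWc hsupB (hfix hB)
  obtain ⟨t, ht, htZ⟩ := exists_out hzo hVc hVZ
  obtain ⟨y, hy, hyZ⟩ := exists_out hzo hWc hWZ
  have htS := hA.le ht
  have hyS := hB.le hy
  set T : S := ⟨t, htS⟩ with hT
  set Y : S := ⟨y, hyS⟩ with hY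
  have hyA : y ∉ V := fun h => hyZ (d.inf_le_center hA hB hne h hy)
  have hclass : commutator S ≤ Subgroup.center S := by
    rw [commutator_def, Subgroup.commutator_le]
    intro a _ b _
    refine subgroupOf_zCenter.le (?_ : ((⁅a, b⁆ : S) : Ω) ∈ zCenter S)
    exact Subgroup.zpowers_le.2 hz (by
      simpa [commutatorElement_def] using hcomm a a.2 b b.2)
  have hZz : zCenter S = Subgroup.zpowers z := by
    have : Finite (zCenter S) := finite_of_le ‹_› inf_le_left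
    exact (Subgroup.eq_of_le_of_card_ge (Subgroup.zpowers_le.2 hz)
      (by rw [hZc, Nat.card_zpowers, hzo])).symm
  have hzpow : ∀ w ∈ zCenter S, w ^ p = 1 := by
    intro w hw
    rw [hZz] at hw
    obtain ⟨i, rfl⟩ := Subgroup.mem_zpowers_iff.1 hw
    rw [← zpow_natCast, ← zpow_mul, mul_comm, zpow_mul, zpow_natCast, ← hzo, pow_orderOf_eq_one,
      one_zpow]
  have hexp : ∀ g : S, g ^ p = 1 := by
    intro g
    obtain ⟨u, hu, n, hn⟩ := d.sup_zpowers hA hyS hyA g g.2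
    have e : g = (⟨u, hA.le hu⟩ : S) * Y ^ n := Subtype.ext hn
    rw [e, PGroup.mul_pow_of_classTwo hclass (hp.out.odd_of_ne_two hp2)]
    · refine Subtype.ext ?_
      show u ^ p * (y ^ n) ^ p = 1
      rw [hVp u hu, ← pow_mul, mul_comm n, pow_mul, hWp y hy, one_pow, one_mul]
    · rw [show (⟨u, hA.le hu⟩ : S) ^ p = 1 from Subtype.ext (hVp u hu)]
      exact one_mem _
  have hTY : ⁅T, Y⁆ ≠ 1 := fun h => d.noncomm hA hB hne ht htZ hy hyZ
    (congrArg Subtype.val (commutatorElement_eq_one_iff_mul_comm.1 h))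
  have hgen : Subgroup.closure {T, Y} = ⊤ := by
    set K := Subgroup.closure ({T, Y} : Set S) with hK
    have hTK : T ∈ K := Subgroup.subset_closure (by simp)
    have hYK : Y ∈ K := Subgroup.subset_closure (by simp)
    have hcK : ⁅T, Y⁆ ∈ K := by
      rw [commutatorElement_def]
      exact K.mul_mem (K.mul_mem (K.mul_mem hTK hYK) (K.inv_mem hTK)) (K.inv_mem hYK)
    have hZK : ∀ w : S, (w : Ω) ∈ zCenter S → w ∈ K := by
      intro w hw
      have h1 : Subgroup.zpowers ((⁅T, Y⁆ : S) : Ω) = zCenter S := by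
        have : Finite (zCenter S) := finite_of_le ‹_› inf_le_left
        have hm := subgroupOf_zCenter.ge (PGroup.commutatorElement_mem_center hclass T Y)
        refine Subgroup.eq_of_le_of_card_ge (Subgroup.zpowers_le.2 hm) ?_
        rw [hZc, Nat.card_zpowers, Subgroup.orderOf_coe]
        exact (orderOf_eq_prime (hexp _) hTY).ge
      rw [← h1] at hw
      obtain ⟨i, hi⟩ := Subgroup.mem_zpowers_iff.1 hw
      rw [show w = ⁅T, Y⁆ ^ i from Subtype.ext (by rw [← hi]; rfl)]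
      exact K.zpow_mem hcK i
    refine eq_top_iff.2 fun g _ => ?_
    obtain ⟨u, hu, n, hn⟩ := d.sup_zpowers hA hyS hyA g g.2
    obtain ⟨m, w, hw, rfl⟩ := d.mem_decomp hA ht htZ hu
    rw [show g = T ^ m * ⟨w, hw.1⟩ * Y ^ n from Subtype.ext (by simpa using hn)]
    exact K.mul_mem (K.mul_mem (K.zpow_mem hTK m) (hZK _ hw)) (K.pow_mem hYK n)
  exact extraspecial_of_generators hexp hgen (PGroup.commutatorElement_mem_center hclass T Y) hTY

end

section Two

variable [Finite S] {F : FusionSystem S}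

/-- For `p = 2` there are at most two bad subgroups. -/
theorem Data.eq_or_eq (d : Data F 2) {A B : Subgroup Ω} (hA : Bad F A) (hB : Bad F B)
    (hne : A ≠ B) {C : Subgroup Ω} (hC : Bad F C) : C = A ∨ C = B := by
  have : Fact (Nat.Prime 2) := ⟨Nat.prime_two⟩
  by_contra hcon
  push Not at hcon
  obtain ⟨z, hz, hzo, hcomm⟩ := d.exists_gen hA
  obtain ⟨hCA, V, hzV, hVA, hVc, hVp, hVZ, hVC, hsupA, -, -⟩ := d.structureOf hA hz hzo hcomm
  obtain ⟨-, W, -, hWB, hWc, hWp, hWZ, -, -, -, -⟩ := d.structureOf hB hz hzo hcomm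
  obtain ⟨-, U, -, hUC, hUc, hUp, hUZ, -, -, -, -⟩ := d.structureOf hC hz hzo hcomm
  obtain ⟨a, haV, haZ⟩ := exists_out hzo hVc hVZ
  obtain ⟨b, hbW, hbZ⟩ := exists_out hzo hWc hWZ
  obtain ⟨c, hcU, hcZ⟩ := exists_out hzo hUc hUZ
  have ha := hVA haV
  have hb := hWB hbW
  have hc := hUC hcU
  have hbA : b ∉ A := fun h => hbZ (d.inf_le_center hA hB hne h hb)
  obtain ⟨u, hu, n, hcu⟩ := d.sup_zpowers hA (hB.le hb) hbA c (hC.le hc)
  obtain ⟨m, w, hw, rfl⟩ := d.mem_decomp hA ha haZ hu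
  rw [← zpow_natCast] at hcu
  have hwa : ∀ g ∈ S, Commute g w := fun g hg => hw.2 g hg
  rcases zpow_cases (hVp a haV) m with hm | hm <;>
    rcases zpow_cases (hWp b hbW) n with hn | hn <;> rw [hm, hn] at hcu
  · exact hcZ (by rw [hcu, one_mul, mul_one]; exact hw)
  · refine hbZ (d.inf_le_center hC hB hcon.2 ?_ hb)
    rw [show b = w⁻¹ * c by rw [hcu, one_mul, inv_mul_cancel_left]]
    exact C.mul_mem (C.inv_mem (hC.center_le hw)) hc
  · refine haZ (d.inf_le_center hC hA hcon.1 ?_ ha)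
    rw [show a = c * w⁻¹ by rw [hcu, mul_one, mul_inv_cancel_right]]
    exact C.mul_mem hc (C.inv_mem (hC.center_le hw))
  · -- `c = a w b` is an involution, so `z` is a square in the centre
    have hab : ⁅a, b⁆ = z := by
      obtain ⟨i, hi⟩ := Subgroup.mem_zpowers_iff.1 (hcomm a (hA.le ha) b (hB.le hb))
      rcases zpow_cases (hzo ▸ pow_orderOf_eq_one z) i with h | h
      · exact absurd (commutatorElement_eq_one_iff_mul_comm.1 (hi ▸ h))
          (d.noncomm hA hB hne ha haZ hb hbZ)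
      · rw [← hi, h]
    have hai : a⁻¹ = a := inv_eq_of_mul_eq_one_left (by rw [← pow_two]; exact hVp a haV)
    have hbi : b⁻¹ = b := inv_eq_of_mul_eq_one_left (by rw [← pow_two]; exact hWp b hbW)
    rw [commutatorElement_def, hai, hbi] at hab
    have h1 : c = a * b * w := by rw [hcu, mul_assoc, ← (hwa b (hB.le hb)).eq, ← mul_assoc]
    have h2 : z * w ^ 2 = 1 := by
      have hcw : Commute (a * b) w := hwa _ (S.mul_mem (hA.le ha) (hB.le hb))
      rw [← hUp c hcU, h1, hcw.mul_pow, ← hab]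
      simp [pow_two, mul_assoc]
    obtain ⟨v, hv, f, hf, hvf⟩ := eq_mul_of_mem_sup hA.comm hVA hsupA
      (A.inv_mem (hA.center_le hw))
    have h3 : z = f ^ 2 := by
      have hvf' : Commute v f := hA.comm v (hVA hv) f (fixSub_le F A hf)
      rw [eq_inv_of_mul_eq_one_left h2, ← inv_pow, hvf, hvf'.mul_pow, hVp v hv, one_mul]
    have h4 : z = 1 := Subgroup.mem_bot.1 (hVC.le ⟨hzV, h3 ▸ (fixSub F A).pow_mem hf 2⟩)
    rw [h4, orderOf_one] at hzo
    omega

/-- For `p = 2` the automorphisms of `S` fix both bad subgroups. -/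
theorem Data.aut_stab (d : Data F 2) {A B : Subgroup Ω} (hA : Bad F A) (hB : Bad F B)
    (hne : A ≠ B) {α : MulAut S} (hα : α ∈ F.autGroup S) (x : S) :
    ((α x : S) : Ω) ∈ A ↔ (x : Ω) ∈ A := by
  have : Fact (Nat.Prime 2) := ⟨Nat.prime_two⟩
  let T : Subgroup (F.autGroup S) :=
    { carrier := {β | ∀ x : S, (((β : MulAut S) x : S) : Ω) ∈ A ↔ (x : Ω) ∈ A}
      one_mem' := fun x => Iff.rfl
      mul_mem' := fun {β γ} hβ hγ x => by
        show (((β : MulAut S) ((γ : MulAut S) x) : S) : Ω) ∈ A ↔ _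
        rw [hβ, hγ]
      inv_mem' := fun {β} hβ x => by
        show (((β : MulAut S).symm x : S) : Ω) ∈ A ↔ _
        conv_rhs => rw [← (β : MulAut S).apply_symm_apply x]
        exact (hβ _).symm }
  suffices h : T = ⊤ from (h.ge (Subgroup.mem_top (⟨α, hα⟩ : F.autGroup S))) x
  have key : ∀ β : F.autGroup S, β ∉ T → ∀ x : S,
      ((((β : MulAut S) x : S) : Ω) ∈ B ↔ (x : Ω) ∈ A) ∧
      ((((β : MulAut S) x : S) : Ω) ∈ A ↔ (x : Ω) ∈ B) := by
    intro β hβ x
    have hmem : ∀ (D : Subgroup Ω) (x : S), (((β : MulAut S) x : S) : Ω) ∈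
        (D.subgroupOf S).map (S.subtype.comp (β : MulAut S).toMonoidHom) ↔ (x : Ω) ∈ D := by
      intro D x
      rw [mem_map_subgroupOf]
      constructor
      · rintro ⟨w, hw, hwe⟩
        obtain rfl : w = x := (β : MulAut S).injective (Subtype.ext hwe)
        exact hw
      · exact fun h => ⟨x, h, rfl⟩
    rcases d.eq_or_eq hA hB hne (bad_map hA β.2).1 with e | e
    · exact absurd (fun y => by rw [← hmem A y, e]) hβ
    · rcases d.eq_or_eq hA hB hne (bad_map hB β.2).1 with e' | e'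
      · exact ⟨by rw [← hmem A x, e], by rw [← hmem B x, e']⟩
      · refine absurd (le_antisymm (fun a ha => ?_) fun b hb => ?_) hne
        · exact (hmem B ⟨a, hA.le ha⟩).1 (e'.ge (e.le ((hmem A ⟨a, hA.le ha⟩).2 ha)))
        · exact (hmem A ⟨b, hB.le hb⟩).1 (e.ge (e'.le ((hmem B ⟨b, hB.le hb⟩).2 hb)))
  by_contra hT
  obtain ⟨β, -, hβ⟩ := SetLike.exists_of_lt (lt_top_iff_ne_top.2 hT)
  have h2 : T.index = 2 := by
    refine Subgroup.index_eq_two_iff.2 ⟨β, fun γ => ?_⟩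
    by_cases hγ : γ ∈ T
    · exact Or.inr ⟨hγ, fun h => hβ ((Subgroup.mul_mem_cancel_left T hγ).1 h)⟩
    · refine Or.inl ⟨fun x => ?_, hγ⟩
      show (((γ : MulAut S) ((β : MulAut S) x) : S) : Ω) ∈ A ↔ _
      rw [(key γ hγ _).2, (key β hβ x).1]
  obtain ⟨-, R, hR⟩ := (saturated_fullyNormalized d.hS d.hF (self_fullyNormalized F)).2
  have hRT : (R : Subgroup (F.autGroup S)) ≤ T := by
    rw [hR]
    intro γ hγ x
    obtain ⟨g, hg, hgγ⟩ := mem_autInducedBy.1 hγ
    rw [show ((((γ : F.autGroup S) : MulAut S) x : S) : Ω) = g * x * g⁻¹ from hgγ x]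
    exact (Subgroup.mem_normalizer_iff.1 (hA.normal hg) _).symm
  have h4 : T.index ∣ (R : Subgroup (F.autGroup S)).index := Subgroup.index_dvd_of_le hRT
  rw [h2] at h4
  exact R.not_dvd_index h4

/-- For `p = 2` a nontrivial fixed subgroup bounds the hyperfocal subgroup. -/
theorem Data.two_fix_eq_bot (d : Data F 2) (hcore : ∀ N, F.IsNormal N → N = ⊥)
    (hhyp : F.hyperfocalSubgroup 2 = S) {A B : Subgroup Ω} (hA : Bad F A) (hB : Bad F B)
    (hne : A ≠ B) : fixSub F A = ⊥ := by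
  have : Fact (Nat.Prime 2) := ⟨Nat.prime_two⟩
  obtain ⟨z, hz, hzo, hcomm⟩ := d.exists_gen hA
  have hz2 : z ^ 2 = 1 := hzo ▸ pow_orderOf_eq_one z
  obtain ⟨hCA, V, hzV, hVA, hVc, hVp, hVZ, hVC, hsupA, hinvA, -⟩ := d.structureOf hA hz hzo hcomm
  obtain ⟨hCB, W, hzW, hWB, hWc, hWp, hWZ, hWC, hsupB, hinvB, -⟩ := d.structureOf hB hz hzo hcomm
  have hinter : ∀ x ∈ fixSub F A, x ∈ fixSub F B → x = 1 := fun x hxA hxB =>
    d.fix_inter hcore (hCA hxA) fun C hC => by
      rcases d.eq_or_eq hA hB hne hC with rfl | rfl <;> assumption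
  -- a fixed subgroup has at most two elements
  have small : ∀ {A B W : Subgroup Ω}, Bad F B → fixSub F A ≤ zCenter S →
      fixSub F B ≤ zCenter S → W ≤ B → W ⊓ zCenter S ≤ Subgroup.zpowers z →
      W ⊔ fixSub F B = B → (∀ x ∈ fixSub F A, x ∈ fixSub F B → x = 1) →
      ∀ a ∈ fixSub F A, ∀ b ∈ fixSub F A, a ≠ 1 → b ≠ 1 → a = b := by
    intro A B W hB hCA hCB hWB hWZ hsup hinter a ha b hb ha1 hb1
    have dec : ∀ x ∈ fixSub F A, x ≠ 1 → ∃ f ∈ fixSub F B, x = z * f := by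
      intro x hx hx1
      obtain ⟨v, hv, f, hf, rfl⟩ := eq_mul_of_mem_sup hB.comm hWB hsup (hB.center_le (hCA hx))
      have hvZ : v ∈ zCenter S := by
        simpa using (zCenter S).mul_mem (hCA hx) ((zCenter S).inv_mem (hCB hf))
      obtain ⟨i, rfl⟩ := Subgroup.mem_zpowers_iff.1 (hWZ ⟨hv, hvZ⟩)
      rcases zpow_cases hz2 i with h | h
      · rw [h, one_mul] at hx hx1
        exact absurd (hinter f hx hf) hx1
      · exact ⟨f, hf, by rw [h]⟩
    obtain ⟨f, hf, rfl⟩ := dec a ha ha1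
    obtain ⟨g, hg, rfl⟩ := dec b hb hb1
    have h1 : (z * f) * (z * g)⁻¹ = f * g⁻¹ := by
      have : Commute z f := ((hCB hf).2 z hz.1)
      rw [this.eq, mul_inv_rev, mul_assoc]
      have : Commute z g := ((hCB hg).2 z hz.1)
      rw [← (this.inv_inv).eq, mul_inv_cancel_left]
    have h2 := hinter _ (h1 ▸ (fixSub F A).mul_mem ha ((fixSub F A).inv_mem hb))
      ((fixSub F B).mul_mem hf ((fixSub F B).inv_mem hg))
    rw [mul_inv_eq_one.1 h2]
  have hsmallA := small hB hCA hCB hWB hWZ hsupB hinter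
  have hsmallB := small hA hCB hCA hVA hVZ hsupA fun x hxB hxA => hinter x hxA hxB
  by_contra hbot
  obtain ⟨c, hc, hc1⟩ := (Subgroup.bot_or_exists_ne_one _).resolve_left hbot
  set D := V ⊔ W with hD
  have hnorm : ∀ {A V : Subgroup Ω}, Bad F A → V ≤ A →
      (∀ α ∈ F.autGroup A, ∀ a : A, ((a : Ω) ∈ V → ((α a : A) : Ω) ∈ V) ∧
        ((a : Ω) ∈ fixSub F A → ((α a : A) : Ω) ∈ fixSub F A)) →
      S ≤ Subgroup.normalizer (V : Set Ω) := by
    intro A V hA hVA hinv
    have key : ∀ g ∈ S, ∀ x ∈ V, g * x * g⁻¹ ∈ V := fun g hg x hx =>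
      (hinv _ (autInducedBy_le_autGroup F hA.le (mem_autInducedBy.2 ⟨g, hg, fun _ => rfl⟩ :
        A.normalizerMonoidHom ⟨g, hA.normal hg⟩ ∈ autInducedBy S A)) ⟨x, hVA hx⟩).1 hx
    intro g hg
    exact Subgroup.mem_normalizer_iff.2 fun x => ⟨key g hg x, fun hx => by
      simpa [mul_assoc] using key g⁻¹ (S.inv_mem hg) _ hx⟩
  have hVn := hnorm hA hVA hinvA
  have hWn := hnorm hB hWB hinvB
  have hVS : V ≤ S := hVA.trans hA.le
  have hWS : W ≤ S := hWB.trans hB.le
  have hDn : ∀ g ∈ S, ∀ x ∈ D, g * x * g⁻¹ ∈ D := by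
    intro g hg
    suffices h : D ≤ D.comap (MulAut.conj g).toMonoidHom from fun x hx => h hx
    refine sup_le (fun x hx => ?_) fun x hx => ?_
    · exact le_sup_left (b := W) ((Subgroup.mem_normalizer_iff.1 (hVn hg) x).1 hx)
    · exact le_sup_right (a := V) ((Subgroup.mem_normalizer_iff.1 (hWn hg) x).1 hx)
  have hzD : Subgroup.zpowers z ≤ D := Subgroup.zpowers_le.2 (le_sup_left (b := W) hzV)
  have hcD : c ∉ D := by
    intro hc'
    rw [hD, ← SetLike.mem_coe, Subgroup.coe_mul_of_left_le_normalizer_right _ _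
      (hVS.trans hWn)] at hc'
    obtain ⟨v, hv, w, hw, he⟩ := hc'
    have hwA : w ∈ A := by
      rw [show w = v⁻¹ * c by rw [← he]; simp]
      exact A.mul_mem (A.inv_mem (hVA hv)) (hA.center_le (hCA hc))
    have hwV : w ∈ V := Subgroup.zpowers_le.2 hzV
      (hWZ ⟨hw, d.inf_le_center hA hB hne hwA (hWB hw)⟩)
    exact hc1 (Subgroup.mem_bot.1 (hVC.le ⟨he ▸ V.mul_mem hv hwV, hc⟩))
  -- the automorphisms of the bad subgroups act trivially modulo `D`
  have hdispA : ∀ {A V : Subgroup Ω}, Bad F A → V ≤ D → V ⊔ fixSub F A = A → V ≤ A →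
      (∀ α ∈ F.autGroup A, ∀ a : A, ((a : Ω) ∈ V → ((α a : A) : Ω) ∈ V) ∧
        ((a : Ω) ∈ fixSub F A → ((α a : A) : Ω) ∈ fixSub F A)) →
      (∀ a ∈ fixSub F A, ∀ b ∈ fixSub F A, a ≠ 1 → b ≠ 1 → a = b) →
      ∀ α ∈ F.autGroup A, ∀ x : A, ((α x : A) : Ω) * (x : Ω)⁻¹ ∈ D := by
    intro A V hA hVD hsup hVA hinv hsmall α hα x
    obtain ⟨v, hv, f, hf, hx⟩ := eq_mul_of_mem_sup hA.comm hVA hsup x.2
    set v' : A := ⟨v, hVA hv⟩
    set f' : A := ⟨f, fixSub_le F A hf⟩
    have hxe : x = v' * f' := Subtype.ext hx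
    have hαf : α f' = f' := by
      by_cases hf1 : f' = 1
      · rw [hf1, map_one]
      refine Subtype.ext (hsmall _ ((hinv α hα f').2 hf) _ hf (fun e => hf1 ?_)
        fun e => hf1 (Subtype.ext e))
      exact α.injective ((Subtype.ext e : α f' = 1).trans (map_one α).symm)
    rw [hxe, map_mul, hαf, Subgroup.coe_mul, Subgroup.coe_mul, mul_inv_rev]
    rw [show ((α v' : A) : Ω) * (f' : Ω) * ((f' : Ω)⁻¹ * (v' : Ω)⁻¹) =
      ((α v' : A) : Ω) * (v' : Ω)⁻¹ by simp [mul_assoc]]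
    exact D.mul_mem (hVD ((hinv α hα v').1 hv)) (D.inv_mem (hVD hv))
  have hdispS : ∀ α ∈ F.autGroup S, ∀ x : S, ((α x : S) : Ω) * (x : Ω)⁻¹ ∈ D := by
    intro α hα
    have hres : ∀ {A V : Subgroup Ω}, Bad F A → V ≤ D → V ⊔ fixSub F A = A → V ≤ A →
        (∀ α ∈ F.autGroup A, ∀ a : A, ((a : Ω) ∈ V → ((α a : A) : Ω) ∈ V) ∧
          ((a : Ω) ∈ fixSub F A → ((α a : A) : Ω) ∈ fixSub F A)) →
        (∀ a ∈ fixSub F A, ∀ b ∈ fixSub F A, a ≠ 1 → b ≠ 1 → a = b) →
        (∀ x : S, ((α x : S) : Ω) ∈ A ↔ (x : Ω) ∈ A) →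
        ∀ x : S, (x : Ω) ∈ A → ((α x : S) : Ω) * (x : Ω)⁻¹ ∈ D := by
      intro A V hA h1 h2 h3 h4 h5 hst x hx
      have hres := restr_mem F hA.le (autGroup_mem_hom F le_rfl hα)
      have hr : (restr hA.le (S.subtype.comp α.toMonoidHom)).range = A := by
        rw [range_restr]
        ext y
        rw [mem_map_subgroupOf]
        constructor
        · rintro ⟨w, hw, rfl⟩
          exact (hst w).2 hw
        · intro hy
          refine ⟨α.symm ⟨y, hA.le hy⟩, (hst _).1 ?_, ?_⟩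
          · rw [MulEquiv.apply_symm_apply]; exact hy
          · show ((α (α.symm ⟨y, hA.le hy⟩) : S) : Ω) = y
            rw [MulEquiv.apply_symm_apply]
      exact hdispA hA h1 h2 h3 h4 h5 _ (toIso_mem_autGroup F hres hr) ⟨x, hx⟩
    have hA' := hres hA le_sup_left hsupA hVA hinvA hsmallA (d.aut_stab hA hB hne hα)
    have hB' := hres hB le_sup_right hsupB hWB hinvB hsmallB (d.aut_stab hB hA hne.symm hα)
    obtain ⟨b, hbW, hbZ⟩ := exists_out hzo hWc hWZ
    have hbB := hWB hbW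
    intro x
    obtain ⟨u, hu, n, hxu⟩ := d.sup_zpowers hA (hB.le hbB)
      (fun h => hbZ (d.inf_le_center hA hB hne h hbB)) x x.2
    set u' : S := ⟨u, hA.le hu⟩
    set b' : S := ⟨b, hB.le hbB⟩
    have hxe : x = u' * b' ^ n := Subtype.ext hxu
    have h1 := hA' u' hu
    have h2 := hB' (b' ^ n) (B.pow_mem hbB n)
    have h3 := D.mul_mem h1 (hDn u' u'.2 _ h2)
    rw [hxe, map_mul, Subgroup.coe_mul, Subgroup.coe_mul]
    simpa [mul_assoc] using h3
  -- hence all maps are conjugations modulo `D`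
  have hDN : S ≤ Subgroup.normalizer (D : Set Ω) := fun g hg =>
    Subgroup.mem_normalizer_iff.2 fun x => ⟨hDn g hg x, fun hx => by
      simpa [mul_assoc] using hDn g⁻¹ (S.inv_mem hg) _ hx⟩
  have mk : ∀ {Q : Subgroup Ω} (hQ : Q ≤ S) {α : MulAut Q}, α ∈ F.autGroup Q →
      (∀ x : Q, ((α x : Q) : Ω) * (x : Ω)⁻¹ ∈ D) → α ∈ (modConjSystem F D hDN).autGroup Q := by
    intro Q hQ α hα h
    refine (mem_autGroup _ hQ).2 ⟨autGroup_mem_hom F hQ hα, 1, S.one_mem, fun x => ?_⟩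
    have := hDn (x : Ω)⁻¹ (S.inv_mem (hQ x.2)) _ (h x)
    simpa [mul_assoc] using this
  have hle : F ≤ modConjSystem F D hDN := by
    refine alperin_le d.hS d.hF _ fun Q hQ α hα => ?_
    rcases hQ with rfl | hQ
    · exact mk le_rfl hα (hdispS α hα)
    · have hbad := d.bad_of_essential hQ
      refine mk hbad.le hα ?_
      rcases d.eq_or_eq hA hB hne hbad with rfl | rfl
      · exact hdispA hA le_sup_left hsupA hVA hinvA hsmallA α hα
      · exact hdispA hB le_sup_right hsupB hWB hinvB hsmallB α hα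
  have hfoc : F.hyperfocalSubgroup 2 ≤ D := by
    rw [hyperfocalSubgroup, Subgroup.closure_le]
    rintro _ ⟨P, α, x, hP, -, rfl⟩
    obtain ⟨-, t, ht, h⟩ := hle P (autGroup_mem_hom F hP α.2)
    obtain ⟨i, hi⟩ := Subgroup.mem_zpowers_iff.1 (hcomm (x : Ω)⁻¹ (S.inv_mem (hP x.2)) t ht)
    have h1 : ⁅(x : Ω)⁻¹, t⁆ ∈ D := hzD (Subgroup.mem_zpowers_iff.2 ⟨i, hi⟩)
    have := D.mul_mem h1 (h x)
    simpa [commutatorElement_def, mul_assoc] using this
  exact hcD (hfoc (hhyp.ge (hA.le (fixSub_le F A hc))))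

/-- The case `p = 2`. -/
theorem Data.two_case (d : Data F 2) (hcore : ∀ N, F.IsNormal N → N = ⊥)
    (hhyp : F.hyperfocalSubgroup 2 = S) (hS1 : S ≠ ⊥) :
    Cfsg.IsExtraspecial 2 S ∧ Nat.card S = 2 ^ 3 ∧ Nonempty (S ≃* DihedralGroup 4) := by
  have : Fact (Nat.Prime 2) := ⟨Nat.prime_two⟩
  obtain ⟨A, B, hA, hB, hne⟩ := d.exists_two hcore hS1
  obtain ⟨z, hz, hzo, hcomm⟩ := d.exists_gen hA
  obtain ⟨-, V, hzV, hVA, hVc, hVp, hVZ, -, hsupA, -, -⟩ := d.structureOf hA hz hzo hcomm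
  obtain ⟨-, W, -, hWB, hWc, hWp, hWZ, -, hsupB, -, -⟩ := d.structureOf hB hz hzo hcomm
  obtain ⟨rfl, hcard, hZc⟩ := d.card_eq hA hVc hsupA (d.two_fix_eq_bot hcore hhyp hA hB hne)
  obtain ⟨rfl, -, -⟩ := d.card_eq hB hWc hsupB (d.two_fix_eq_bot hcore hhyp hB hA hne.symm)
  obtain ⟨a, ha, haZ⟩ := exists_out hzo hVc hVZ
  obtain ⟨b, hb, hbZ⟩ := exists_out hzo hWc hWZ
  have hbA : b ∉ V := fun h => hbZ (d.inf_le_center hA hB hne h hb)
  set T : S := ⟨a, hA.le ha⟩
  set Y : S := ⟨b, hB.le hb⟩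
  have hZS : Nat.card (Subgroup.center S) = 2 := by
    rw [← subgroupOf_zCenter, Nat.card_congr (Subgroup.subgroupOfEquivOfLe inf_le_left).toEquiv,
      hZc]
  have hTY : ⁅T, Y⁆ ≠ 1 := fun h => d.noncomm hA hB hne ha haZ hb hbZ
    (congrArg Subtype.val (commutatorElement_eq_one_iff_mul_comm.1 h))
  have hle : commutator S ≤ Subgroup.center S := by
    rw [commutator_def, Subgroup.commutator_le]
    intro u _ v _
    refine subgroupOf_zCenter.le (?_ : ((⁅u, v⁆ : S) : Ω) ∈ zCenter S)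
    exact Subgroup.zpowers_le.2 hz (by
      simpa [commutatorElement_def] using hcomm u u.2 v v.2)
  have hcen : commutator S = Subgroup.center S := by
    refine Subgroup.eq_of_le_of_card_ge hle ?_
    rw [hZS]
    exact Finite.one_lt_card_iff_nontrivial.2 ((Subgroup.nontrivial_iff_ne_bot _).2 fun h =>
      hTY (Subgroup.mem_bot.1 (h.le (Subgroup.commutator_mem_commutator (Subgroup.mem_top T)
        (Subgroup.mem_top Y)))))
  have hpow : ∀ g : S, g ^ 2 ∈ commutator S := fun g => by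
    rw [hcen]
    exact subgroupOf_zCenter.le (d.pow_mem g.2)
  have hfr : frattini S = Subgroup.center S := by
    refine le_antisymm ((PGroup.frattini_le_iff d.hS).2 ⟨hle, fun g => hcen ▸ hpow g⟩) ?_
    rw [← hcen]
    exact PGroup.commutator_le_frattini d.hS
  have hY2 : Y ^ 2 = 1 := Subtype.ext (hWp b hb)
  have hcent : ∀ x : S, x * T = T * x → (x : Ω) ∈ V := by
    intro x hx
    obtain ⟨u, hu, n, hn⟩ := d.sup_zpowers hA (hB.le hb) hbA x x.2
    rw [← zpow_natCast] at hn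
    rcases zpow_cases (hWp b hb) n with h | h <;> rw [h] at hn
    · rw [hn, mul_one]; exact hu
    · exfalso
      have h1 : Commute (x : Ω) a := congrArg Subtype.val hx
      have h2 : Commute u a := hA.comm u hu a ha
      have h3 : Commute (u⁻¹ * x) a := h2.inv_left.mul_left h1
      rw [hn, inv_mul_cancel_left] at h3
      exact d.noncomm hA hB hne ha haZ hb hbZ h3.eq.symm
  have hsplit : Split S 2 T Y := ⟨hle, by rw [hcen, hZS], hpow, Subtype.ext (hVp a ha), hTY,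
    fun x y hx hy => Subtype.ext (hA.comm _ (hcent x hx) _ (hcent y hy)),
    fun x hx => Subtype.ext (hVp _ (hcent x hx))⟩
  obtain ⟨K, iK, -, ⟨e⟩⟩ := hsplit.two_model
  have hK : Nat.card K = 1 := by
    have h := Nat.card_congr e.toEquiv
    rw [hcard, Nat.card_prod, DihedralGroup.nat_card] at h
    omega
  have : Subsingleton K := (Nat.card_eq_one_iff_unique.1 hK).1
  let e' : DihedralGroup 4 × K ≃* DihedralGroup 4 :=
    { toFun := Prod.fst
      invFun := fun x => (x, 1)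
      left_inv := fun x => Prod.ext rfl (Subsingleton.elim _ _)
      right_inv := fun _ => rfl
      map_mul' := fun _ _ => rfl }
  exact ⟨⟨⟨d.hS, hfr, hcen⟩, hZS⟩, hcard, ⟨e.trans e'⟩⟩

end Two

end Cfsg.Agent.FusionAux.CenterIndexSq
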