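import Cfsg.Agent.FusionAux.SeriesStab
import Cfsg.Agent.FusionAux.ModStronglyClosed

/-!
A strongly closed subgroup contained in every centric radical subgroup is normal in the system.
-/
set_option autoImplicit false

open Cfsg Cfsg.FusionSystem Cfsg.Agent.FusionSys Cfsg.Agent.FusionAlperin

namespace Cfsg.Agent.FusionAux

variable {Ω : Type*} [Group Ω] {S : Subgroup Ω}

theorem isNormal_of_sc_radical [Finite S] {p : ℕ} [Fact p.Prime] (hS : IsPGroup p S)
    {F : FusionSystem S} (hF : F.IsSaturated p) {Q : Subgroup Ω} (hQ : F.StronglyClosed Q)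
    (hrad : ∀ R, F.IsFullyNormalized R → F.IsCentric R → F.IsRadical p R → Q ≤ R) :
    F.IsNormal Q := by
  suffices h : ∀ (P P' : Subgroup Ω) (e : P ≃* P'), IsIso F e →
      ∃ φ ∈ F.Hom (P ⊔ Q), ∀ x : P, φ (Subgroup.inclusion le_sup_left x) = e x by
    refine ⟨hQ.1, fun P φ hφ => ?_⟩
    obtain ⟨ψ, hψ, hψe⟩ := h P φ.range (toIso F hφ rfl) (toIso_isIso F hφ rfl)
    refine ⟨ψ, hψ, hψe, le_antisymm ?_ fun y hy => ?_⟩
    · intro y hy
      obtain ⟨x, hx, rfl⟩ := (mem_map_subgroupOf ψ).1 hy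
      exact sc_map_mem hQ hψ hx
    · obtain ⟨u, hu, rfl⟩ := sc_exists_preimage hQ hψ le_sup_right hy
      exact Subgroup.mem_map_of_mem ψ hu
  refine iso_induction hS hF (fun P P' e => ∃ φ ∈ F.Hom (P ⊔ Q),
    ∀ x : P, φ (Subgroup.inclusion le_sup_left x) = e x) ?_ ?_ ?_ ?_
  · rintro P P' P'' e e' _ - ⟨φ, hφ, hφe⟩ ⟨ψ, hψ, hψe⟩
    have hr := range_eq_sup hQ (e := e) hφ fun x => by rw [hφe]; simp
    have hval : ∀ x, φ x ∈ P' ⊔ Q := fun x => hr ▸ ⟨x, rfl⟩
    refine ⟨_, F.comp_mem hφ hψ hval, fun x => ?_⟩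
    show ψ ⟨φ (Subgroup.inclusion le_sup_left x), hval _⟩ = e' (e x)
    rw [← hψe]
    exact congrArg ψ (Subtype.ext (hφe x))
  · rintro P P' e - ⟨φ, hφ, hφe⟩
    have hr := range_eq_sup hQ (e := e) hφ fun x => by rw [hφe]; simp
    refine ⟨_, (toIso_isIso F hφ hr).symm, fun y => ?_⟩
    have : (toIso F hφ hr).symm (Subgroup.inclusion le_sup_left y) =
        Subgroup.inclusion le_sup_left (e.symm y) := by
      rw [MulEquiv.symm_apply_eq]
      exact Subtype.ext (by rw [toIso_coe, hφe]; simp)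
    exact congrArg Subtype.val this
  · rintro P P' R R' e e' - hle hag ⟨φ, hφ, hφe⟩
    refine ⟨_, restr_mem F (sup_le_sup_right hle Q) hφ, fun x => ?_⟩
    rw [hag x]
    exact hφe ⟨x, hle x.2⟩
  intro R hR IH α hα
  have hRS := hR.1
  -- an automorphism extending to a larger subgroup is fine
  have hbig : ∀ (N N' : Subgroup Ω) (e : N ≃* N') (hRN : R ≤ N), IsIso F e → R < N → N ≤ S →
      ∀ β : MulAut R, (∀ x : R, (e ⟨x, hRN x.2⟩ : Ω) = β x) →
      ∃ φ ∈ F.Hom (R ⊔ Q), ∀ x : R, φ (Subgroup.inclusion le_sup_left x) = (β x : Ω) := by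
    intro N N' e hRN he hlt hNS β hag
    obtain ⟨φ, hφ, hφe⟩ := IH N N' e he (card_lt_card_of_lt hNS hlt)
    refine ⟨_, restr_mem F (sup_le_sup_right hRN Q) hφ, fun x => ?_⟩
    rw [← hag x]
    exact hφe ⟨x, hRN x.2⟩
  by_cases hC : centralizerIn S R ≤ R
  swap
  · obtain ⟨N, N', e, hle, he, hCN, hNn, hag, -⟩ := exists_extend_aut hS hF hR hα
    exact hbig N N' e hle he (lt_of_le_of_ne hle fun h => hC (h ▸ hCN)) (hNn.trans inf_le_left) α hag
  have hcent := centric_of_fullyCentralized (saturated_fullyNormalized hS hF hR).1 hC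
  by_cases hQR : Q ≤ R
  · have hle : R ⊔ Q ≤ R := sup_le le_rfl hQR
    exact ⟨_, restr_mem F hle (autGroup_mem_hom F hRS hα), fun x => rfl⟩
  have hnrad : ¬ F.IsRadical p R := fun h => hQR (hrad R hR hcent h)
  have hfin : Finite R := finite_of_le ‹_› hRS
  let K : Subgroup (F.autGroup R) := pCore p (F.autGroup R)
  obtain ⟨T, hT⟩ := (saturated_fullyNormalized hS hF hR).2.2
  have hKS : ∀ a ∈ K, (a : MulAut R) ∈ autInducedBy S R := by
    intro a ha
    have h1 : a ∈ (T : Subgroup (F.autGroup R)) := Cores.pCore_le_sylow T ha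
    rw [hT] at h1
    exact h1
  obtain ⟨a, haK, haI⟩ : ∃ a ∈ K, (a : MulAut R) ∉ Inn R := by
    by_contra hc
    push Not at hc
    refine hnrad ⟨hRS, le_antisymm (Subgroup.map_le_iff_le_comap.2 hc) fun b hb => ?_⟩
    refine ⟨⟨b, inn_le_autGroup F hRS hb⟩, Cores.le_pCore ?_ ?_ (show (⟨b, inn_le_autGroup F hRS hb⟩ :
      F.autGroup R) ∈ (Inn R).subgroupOf (F.autGroup R) from hb), rfl⟩
    · refine ⟨fun c hc' g => ?_⟩
      obtain ⟨r, hr⟩ := (hc' : (c : MulAut R) ∈ Inn R)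
      refine ⟨(g : MulAut R) r, ?_⟩
      show MulAut.conj ((g : MulAut R) r) = (g : MulAut R) * (c : MulAut R) * (g : MulAut R)⁻¹
      rw [show (c : MulAut R) = MulAut.conj r from hr.symm]
      ext y
      simp
    · exact ((isPGroup_autInducedBy hS R).to_le (inn_le_autInducedBy hRS)).of_equiv
        (Subgroup.subgroupOfEquivOfLe (inn_le_autGroup F hRS)).symm
  obtain ⟨g, hgS, hge⟩ := mem_autInducedBy.1 (hKS a haK)
  have hgN : g ∈ normalizerIn S R := ⟨hgS, mem_normalizer_of_conj_eq _ hge⟩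
  have hgR : g ∉ R := fun h => haI ⟨⟨g, h⟩, MulEquiv.ext fun x => Subtype.ext (hge x).symm⟩
  obtain ⟨h, k, N, N', e, hRN, hαeq, hk, he, -, hNn, hag, hext⟩ :=
    exists_frattini_extend hS hF hR K ⟨α, hα⟩
  obtain ⟨φ, hφ, hφe⟩ := hbig N N' e hRN he
    (lt_of_le_of_ne hRN fun h' => hgR (h'.ge (hext g hgN ⟨a, haK, hge⟩)))
    (hNn.trans inf_le_left) _ hag
  obtain ⟨g', hg'S, hg'e⟩ := mem_autInducedBy.1 (hKS k hk)
  have hg'N : g' ∈ normalizerIn S R := ⟨hg'S, mem_normalizer_of_conj_eq _ hg'e⟩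
  -- compose with conjugation by `g'` on `R ⊔ Q`
  have hcj := F.conj_mem (sup_le hRS hQ.1) hg'S
  have hval : ∀ x, conjHom (R ⊔ Q) g' x ∈ R ⊔ Q := fun x => hom_sup_mem (conjHom (R ⊔ Q) g')
    (fun y hy => Subgroup.mem_sup_left ((Subgroup.mem_normalizer_iff.1 hg'N.2 y).1 hy))
    (fun y hy => Subgroup.mem_sup_right (sc_map_mem hQ hcj (x := ⟨y, Subgroup.mem_sup_right hy⟩) hy)) x
  refine ⟨_, F.comp_mem hcj hφ hval, fun x => ?_⟩
  show φ ⟨g' * (x : Ω) * g'⁻¹, _⟩ = (α x : Ω)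
  have hαx : α x = (h : MulAut R) ((k : MulAut R) x) := by
    rw [show α = (h : MulAut R) * (k : MulAut R) from congrArg Subtype.val hαeq]; rfl
  rw [hαx, ← hφe]
  exact congrArg φ (Subtype.ext (hg'e x).symm)

end Cfsg.Agent.FusionAux
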