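import Cfsg.Agent.FusionAux.TransvectionPair
import Cfsg.Agent.FusionAux.Tate
import Cfsg.Agent.FusionAlperin.NormalCriteria
import Cfsg.Agent.PGroup.ClassTwo
import Cfsg.Agent.S5233

/-!
Saturated systems without nontrivial normal subgroup over a `p`-group whose centre has index at
most `p ^ 2`.
-/

set_option autoImplicit false

open Cfsg Cfsg.FusionSystem Cfsg.Agent.FusionSys Cfsg.Agent.FusionAux
open Cfsg.Agent.FusionAlperin (isNormal_of_autGroups sc_self exists_ext_aut eq_of_isConj_self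
  inn_normal_autGroup isRadical_of_essential alperin_le)
open scoped commutatorElement IsMulCommutative

namespace Cfsg.Agent.FusionAux.CenterIndexSq

variable {Ω : Type*} [Group Ω] {S : Subgroup Ω}

/-- The centre of `S`, in the ambient group. -/
abbrev zCenter (S : Subgroup Ω) : Subgroup Ω := S ⊓ Subgroup.centralizer (S : Set Ω)

/-- Candidates for the essential subgroups. -/
structure Bad (F : FusionSystem S) (A : Subgroup Ω) : Prop where
  /-- inside `S` -/
  le : A ≤ S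
  /-- abelian -/
  comm : ∀ a ∈ A, ∀ b ∈ A, a * b = b * a
  /-- contains the centre -/
  center_le : zCenter S ≤ A
  /-- not the centre -/
  ne_center : ¬ A ≤ zCenter S
  /-- proper -/
  ne : A ≠ S
  /-- normal in `S` -/
  normal : S ≤ Subgroup.normalizer (A : Set Ω)
  /-- `Aut_S(A)` is not normal in `Aut_F(A)` -/
  moved : ∃ β ∈ F.autGroup A, ∃ γ ∈ autInducedBy S A, β * γ * β⁻¹ ∉ autInducedBy S A

/-- The elements of `A` fixed by all conjugates of `Aut_S(A)`. -/
def fixSub (F : FusionSystem S) (A : Subgroup Ω) : Subgroup Ω where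
  carrier := {c | ∃ h : c ∈ A, ∀ β ∈ F.autGroup A, ∀ γ ∈ autInducedBy S A,
    (β * γ * β⁻¹) ⟨c, h⟩ = ⟨c, h⟩}
  one_mem' := ⟨A.one_mem, fun β _ γ _ => map_one _⟩
  mul_mem' := by
    rintro a b ⟨ha, ha'⟩ ⟨hb, hb'⟩
    refine ⟨A.mul_mem ha hb, fun β hβ γ hγ => ?_⟩
    rw [show (⟨a * b, A.mul_mem ha hb⟩ : A) = ⟨a, ha⟩ * ⟨b, hb⟩ from rfl, map_mul, ha' β hβ γ hγ,
      hb' β hβ γ hγ]
  inv_mem' := by
    rintro a ⟨ha, ha'⟩
    refine ⟨A.inv_mem ha, fun β hβ γ hγ => ?_⟩
    rw [show (⟨a⁻¹, A.inv_mem ha⟩ : A) = ⟨a, ha⟩⁻¹ from rfl, map_inv, ha' β hβ γ hγ]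

theorem fixSub_le (F : FusionSystem S) (A : Subgroup Ω) : fixSub F A ≤ A := fun _ h => h.1

section

variable [Finite S] {p : ℕ} [hp : Fact p.Prime] {F : FusionSystem S}

/-- The data of the hypothesis. -/
structure Data (F : FusionSystem S) (p : ℕ) : Prop where
  /-- `S` is a `p`-group -/
  hS : IsPGroup p S
  /-- the system is saturated -/
  hF : F.IsSaturated p
  /-- the centre has index `p ^ 2` -/
  index : ((zCenter S).subgroupOf S).index = p ^ 2
  /-- `S` is not abelian -/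
  nonab : ∃ a ∈ S, ∃ b ∈ S, a * b ≠ b * a

omit [Finite S] hp in
theorem subgroupOf_zCenter : (zCenter S).subgroupOf S = Subgroup.center S := by
  ext x
  simp only [Subgroup.mem_subgroupOf, Subgroup.mem_inf, Subgroup.mem_centralizer_iff,
    Subgroup.mem_center_iff, SetLike.mem_coe]
  exact ⟨fun h g => Subtype.ext (h.2 g g.2),
    fun h => ⟨x.2, fun g hg => congrArg Subtype.val (h ⟨g, hg⟩)⟩⟩

theorem Data.pow_mem (d : Data F p) {x : Ω} (hx : x ∈ S) : x ^ p ∈ zCenter S := by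
  have hq : Nat.card (S ⧸ Subgroup.center S) = p ^ 2 := by
    rw [← Subgroup.index_eq_card, ← subgroupOf_zCenter]
    exact d.index
  obtain ⟨k, hk2, hk⟩ := (Nat.dvd_prime_pow hp.out).1
    (hq ▸ orderOf_dvd_natCard ((⟨x, hx⟩ : S) : S ⧸ Subgroup.center S))
  have hk1 : k ≤ 1 := by
    by_contra hk1
    obtain rfl : k = 2 := by omega
    have : IsCyclic (S ⧸ Subgroup.center S) :=
      isCyclic_of_orderOf_eq_card _ (hk.trans hq.symm)
    obtain ⟨a, ha, b, hb, hne⟩ := d.nonab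
    have hab := commutative_of_cyclic_center_quotient (QuotientGroup.mk' (Subgroup.center S))
      (QuotientGroup.ker_mk' _).le
    exact hne (congrArg Subtype.val (hab ⟨a, ha⟩ ⟨b, hb⟩))
  have h1 : ((⟨x, hx⟩ : S) : S ⧸ Subgroup.center S) ^ p = 1 := by
    refine orderOf_dvd_iff_pow_eq_one.1 (hk ▸ ?_)
    exact (pow_dvd_pow p hk1).trans (pow_one p).dvd
  rw [← QuotientGroup.mk_pow, QuotientGroup.eq_one_iff, ← subgroupOf_zCenter] at h1
  exact h1

theorem Data.index_eq (d : Data F p) {A : Subgroup Ω} (hA : Bad F A) :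
    (A.subgroupOf S).index = p := by
  have h1 : (zCenter S).subgroupOf S < A.subgroupOf S := by
    refine lt_of_le_of_ne (Subgroup.comap_mono hA.center_le) fun h => hA.ne_center fun a ha => ?_
    exact h.ge (show (⟨a, hA.le ha⟩ : S) ∈ A.subgroupOf S from ha)
  have h2 : A.subgroupOf S ≠ ⊤ := fun h => hA.ne (le_antisymm hA.le (Subgroup.subgroupOf_eq_top.1 h))
  have h3 := Subgroup.relIndex_mul_index h1.le
  rw [d.index] at h3
  obtain ⟨k, hk2, hk⟩ := (Nat.dvd_prime_pow hp.out).1 ⟨_, h3.symm.trans (mul_comm _ _)⟩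
  rw [hk] at h3 ⊢
  interval_cases k
  · exact absurd (Subgroup.index_eq_one.1 (hk.trans (pow_zero p))) h2
  · exact pow_one p
  · exfalso
    have : ((zCenter S).subgroupOf S).relIndex (A.subgroupOf S) = 1 :=
      Nat.eq_of_mul_eq_mul_right (pow_pos hp.out.pos 2) (h3.trans (one_mul _).symm)
    exact h1.not_ge (Subgroup.relIndex_eq_one.1 this)

theorem Data.sup_zpowers (d : Data F p) {A : Subgroup Ω} (hA : Bad F A) {y : Ω} (hy : y ∈ S)
    (hyA : y ∉ A) : ∀ g ∈ S, ∃ a ∈ A, ∃ n : ℕ, g = a * y ^ n := by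
  have hn : (A.subgroupOf S).Normal :=
    Subgroup.normal_subgroupOf_iff_le_normalizer hA.le |>.2 hA.normal
  have hq : Nat.card (S ⧸ A.subgroupOf S) = p := by rw [← Subgroup.index_eq_card, d.index_eq hA]
  intro g hg
  have hy1 : ((⟨y, hy⟩ : S) : S ⧸ A.subgroupOf S) ≠ 1 := fun h =>
    hyA ((QuotientGroup.eq_one_iff (N := A.subgroupOf S) _).1 h)
  have hyo : orderOf ((⟨y, hy⟩ : S) : S ⧸ A.subgroupOf S) = Nat.card (S ⧸ A.subgroupOf S) := by
    rcases hp.out.eq_one_or_self_of_dvd _ (hq ▸ orderOf_dvd_natCard _) with h | h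
    · exact absurd (orderOf_eq_one_iff.1 h) hy1
    · rw [hq]; exact h
  have hmem : ((⟨g, hg⟩ : S) : S ⧸ A.subgroupOf S) ∈
      Subgroup.zpowers ((⟨y, hy⟩ : S) : S ⧸ A.subgroupOf S) := by
    rw [(Subgroup.card_eq_iff_eq_top _).1 ((Nat.card_zpowers _).trans hyo)]
    trivial
  obtain ⟨n, hn'⟩ := (isOfFinOrder_of_finite _).mem_powers_iff_mem_zpowers.2 hmem
  refine ⟨g * (y ^ n)⁻¹, ?_, n, (inv_mul_cancel_right _ _).symm⟩
  have h1 : (((⟨g, hg⟩ : S) * (⟨y, hy⟩ ^ n)⁻¹ : S) : S ⧸ A.subgroupOf S) = 1 := by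
    rw [QuotientGroup.mk_mul, QuotientGroup.mk_inv, QuotientGroup.mk_pow, mul_inv_eq_one]
    exact hn'.symm
  exact (QuotientGroup.eq_one_iff (N := A.subgroupOf S) _).1 h1

/-- The centre of the commutator structure: one element generates all commutators. -/
theorem Data.exists_gen (d : Data F p) {A : Subgroup Ω} (hA : Bad F A) :
    ∃ z ∈ zCenter S, orderOf z = p ∧ ∀ a ∈ S, ∀ b ∈ S, ⁅a, b⁆ ∈ Subgroup.zpowers z := by
  obtain ⟨t, ht, htZ⟩ := SetLike.not_le_iff_exists.1 hA.ne_center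
  obtain ⟨y, hy, hyA⟩ := SetLike.exists_of_lt (lt_of_le_of_ne hA.le hA.ne)
  have hclass : commutator S ≤ Subgroup.center S := by
    have hcomm : ∀ a b : S ⧸ Subgroup.center S, a * b = b * a := by
      have hq : Nat.card (S ⧸ Subgroup.center S) = p ^ 2 := by
        rw [← Subgroup.index_eq_card, ← subgroupOf_zCenter]
        exact d.index
      have := IsPGroup.commutative_of_card_eq_prime_sq (hG := hq)
      exact fun a b => this a b
    rw [commutator_def, Subgroup.commutator_le]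
    intro a _ b _
    rw [← QuotientGroup.eq_one_iff]
    show (QuotientGroup.mk' _) ⁅a, b⁆ = 1
    rw [map_commutatorElement, commutatorElement_eq_one_iff_mul_comm]
    exact hcomm _ _
  set T : S := ⟨t, hA.le ht⟩
  set Y : S := ⟨y, hy⟩
  have hc : ∀ a b : S, ⁅a, b⁆ ∈ Subgroup.center S := fun a b =>
    PGroup.commutatorElement_mem_center hclass a b
  set z : S := ⁅T, Y⁆
  have hzp : z ^ p = 1 := by
    rw [← PGroup.commutatorElement_pow_left (hc T Y), commutatorElement_eq_one_iff_mul_comm]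
    have h1 : T ^ p ∈ Subgroup.center S := by
      rw [← subgroupOf_zCenter]
      exact d.pow_mem T.2
    exact (Subgroup.mem_center_iff.1 h1 Y).symm
  have hz1 : z ≠ 1 := by
    intro h
    refine htZ ⟨hA.le ht, Subgroup.mem_centralizer_iff.2 fun g hg => ?_⟩
    obtain ⟨a, ha, n, rfl⟩ := d.sup_zpowers hA hy hyA g hg
    have h1 : Commute t y :=
      congrArg Subtype.val (commutatorElement_eq_one_iff_mul_comm.1 h)
    have h2 : Commute t a := hA.comm t ht a ha
    exact (h2.mul_right (h1.pow_right n)).eq.symm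
  refine ⟨(z : Ω), ?_, ?_, fun a ha b hb => ?_⟩
  · have h1 := hc T Y
    rw [← subgroupOf_zCenter] at h1
    exact h1
  · rw [Subgroup.orderOf_coe]
    exact orderOf_eq_prime hzp hz1
  · have key : ∀ a b : S, ⁅a, b⁆ ∈ Subgroup.zpowers z := by
      -- `S` is generated by `Y` and `A`; commutation with `Y` on `A` factors through `T`
      have hA' : ∀ u : S, (u : Ω) ∈ A → ∃ m : ℕ, ⁅u, Y⁆ = z ^ m := by
        intro u hu
        have hn : ((zCenter S).subgroupOf A).index = p := by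
          have h3 := Subgroup.relIndex_mul_relIndex (zCenter S) A S hA.center_le hA.le
          rw [show (zCenter S).relIndex S = p ^ 2 from d.index,
            show A.relIndex S = p from d.index_eq hA, pow_two] at h3
          exact Nat.eq_of_mul_eq_mul_right hp.out.pos h3
        have hnor : ((zCenter S).subgroupOf A).Normal := ⟨fun x hx g => by
          show (g : Ω) * x * (g : Ω)⁻¹ ∈ zCenter S
          rw [hA.comm g g.2 x x.2, mul_inv_cancel_right]
          exact hx⟩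
        have hq : Nat.card (A ⧸ (zCenter S).subgroupOf A) = p := by
          rw [← Subgroup.index_eq_card, hn]
        have ht1 : ((⟨t, ht⟩ : A) : A ⧸ (zCenter S).subgroupOf A) ≠ 1 := fun h =>
          htZ ((QuotientGroup.eq_one_iff (N := (zCenter S).subgroupOf A) _).1 h)
        have : Finite A := finite_of_le ‹_› hA.le
        have hto : orderOf ((⟨t, ht⟩ : A) : A ⧸ (zCenter S).subgroupOf A) =
            Nat.card (A ⧸ (zCenter S).subgroupOf A) := by
          rcases hp.out.eq_one_or_self_of_dvd _ (hq ▸ orderOf_dvd_natCard _) with h | h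
          · exact absurd (orderOf_eq_one_iff.1 h) ht1
          · rw [hq]; exact h
        have hmem : ((⟨u, hu⟩ : A) : A ⧸ (zCenter S).subgroupOf A) ∈
            Subgroup.zpowers ((⟨t, ht⟩ : A) : A ⧸ (zCenter S).subgroupOf A) := by
          rw [(Subgroup.card_eq_iff_eq_top _).1 ((Nat.card_zpowers _).trans hto)]
          trivial
        obtain ⟨m, hm⟩ := (isOfFinOrder_of_finite _).mem_powers_iff_mem_zpowers.2 hmem
        refine ⟨m, ?_⟩
        have h1 : u * (T ^ m)⁻¹ ∈ Subgroup.center S := by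
          rw [← subgroupOf_zCenter]
          have h2 : (((⟨u, hu⟩ : A) * (⟨t, ht⟩ ^ m)⁻¹ : A) : A ⧸ (zCenter S).subgroupOf A) = 1 := by
            rw [QuotientGroup.mk_mul, QuotientGroup.mk_inv, QuotientGroup.mk_pow, mul_inv_eq_one]
            exact hm.symm
          exact (QuotientGroup.eq_one_iff (N := (zCenter S).subgroupOf A) _).1 h2
        have h0 : ⁅u * (T ^ m)⁻¹, Y⁆ = 1 :=
          commutatorElement_eq_one_iff_mul_comm.2 (Subgroup.mem_center_iff.1 h1 Y).symm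
        rwa [PGroup.commutatorElement_mul_left (hc _ _), PGroup.commutatorElement_inv_left (hc _ _),
          PGroup.commutatorElement_pow_left (hc _ _), mul_inv_eq_one] at h0
      have hgen : ∀ u : S, ∃ a : S, (a : Ω) ∈ A ∧ ∃ n : ℕ, u = a * Y ^ n := by
        intro u
        obtain ⟨a, ha, n, hn⟩ := d.sup_zpowers hA hy hyA u u.2
        exact ⟨⟨a, hA.le ha⟩, ha, n, Subtype.ext hn⟩
      intro a b
      obtain ⟨a, ha, n, rfl⟩ := hgen a
      obtain ⟨b, hb, l, rfl⟩ := hgen b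
      obtain ⟨m, hm⟩ := hA' a ha
      obtain ⟨k, hk⟩ := hA' b hb
      rw [PGroup.commutatorElement_mul_left (hc _ _), PGroup.commutatorElement_mul_right (hc _ _),
        PGroup.commutatorElement_mul_right (hc _ _)]
      have e1 : ⁅a, b⁆ = 1 := commutatorElement_eq_one_iff_mul_comm.2 (Subtype.ext (hA.comm _ ha _ hb))
      have e2 : ⁅Y ^ n, Y ^ l⁆ = 1 :=
        commutatorElement_eq_one_iff_mul_comm.2 ((Commute.refl Y).pow_pow n l).eq
      rw [e1, e2, one_mul, mul_one, PGroup.commutatorElement_pow_right (hc _ _), hm,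
        PGroup.commutatorElement_pow_left (hc _ _), ← commutatorElement_inv b Y, hk]
      exact Subgroup.mul_mem _ (Subgroup.pow_mem _ (Subgroup.pow_mem _ (Subgroup.mem_zpowers z) m) l)
        (Subgroup.pow_mem _ (Subgroup.inv_mem _ (Subgroup.pow_mem _ (Subgroup.mem_zpowers z) k)) n)
    obtain ⟨i, hi⟩ := Subgroup.mem_zpowers_iff.1 (key ⟨a, ha⟩ ⟨b, hb⟩)
    exact Subgroup.mem_zpowers_iff.2 ⟨i, by
      rw [← SubgroupClass.coe_zpow, hi]
      exact map_commutatorElement S.subtype _ _⟩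

omit hp in
theorem aut_zCenter {α : MulAut S} {x : S} (hx : (x : Ω) ∈ zCenter S) :
    ((α x : S) : Ω) ∈ zCenter S := by
  have h1 : x ∈ Subgroup.center S := subgroupOf_zCenter.le hx
  have h2 : α x ∈ Subgroup.center S :=
    (Subgroup.characteristic_iff_le_comap.1 inferInstance α) h1
  exact subgroupOf_zCenter.ge h2

/-- Essential subgroups are bad. -/
theorem Data.bad_of_essential (d : Data F p) {P : Subgroup Ω} (hP : F.IsEssential p P) :
    Bad F P := by
  have hPS := hP.1.1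
  have hC : centralizerIn S P ≤ P := hP.1.2 P (isConj_refl F hPS)
  have hfn := hP.2.1
  have : Finite P := finite_of_le ‹_› hPS
  have hne : P ≠ S := by
    rintro rfl
    obtain ⟨-, -, hn, Y, hY, -⟩ := hP
    obtain ⟨-, R, hR⟩ := (saturated_fullyNormalized d.hS d.hF hfn).2
    have hdvd : p ∣ R.1.index := by
      rw [hR, ← inn_eq_autInducedBy, Subgroup.index_eq_card]
      exact hY
    exact R.not_dvd_index hdvd
  have hZC : zCenter S ≤ centralizerIn S P := fun z hz =>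
    ⟨hz.1, fun x hx => hz.2 x (hPS hx)⟩
  have hZP : zCenter S ≤ P := hZC.trans hC
  have hnZ : ¬ P ≤ zCenter S := by
    intro h
    refine hne (le_antisymm hPS fun s hs => hC ⟨hs, fun x hx => ?_⟩)
    exact ((h hx).2 s hs).symm
  have hcommS : ∀ a ∈ S, ∀ b ∈ S, a * b * a⁻¹ * b⁻¹ ∈ zCenter S := by
    intro a ha b hb
    have hq : Nat.card (S ⧸ Subgroup.center S) = p ^ 2 := by
      rw [← Subgroup.index_eq_card, ← subgroupOf_zCenter]
      exact d.index
    have hcom := IsPGroup.commutative_of_card_eq_prime_sq (hG := hq)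
    have h1 : (⁅(⟨a, ha⟩ : S), ⟨b, hb⟩⁆ : S) ∈ Subgroup.center S := by
      rw [← QuotientGroup.eq_one_iff]
      show (QuotientGroup.mk' _) ⁅(⟨a, ha⟩ : S), (⟨b, hb⟩ : S)⁆ = 1
      rw [map_commutatorElement, commutatorElement_eq_one_iff_mul_comm]
      exact hcom _ _
    rw [← subgroupOf_zCenter] at h1
    exact h1
  have hnor : S ≤ Subgroup.normalizer (P : Set Ω) := by
    intro g hg
    have key : ∀ g ∈ S, ∀ x ∈ P, g * x * g⁻¹ ∈ P := fun g hg x hx => by
      have := P.mul_mem (hZP (hcommS g hg x (hPS hx))) hx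
      simpa [mul_assoc] using this
    exact Subgroup.mem_normalizer_iff.2 fun x => ⟨key g hg x, fun hx => by
      simpa [mul_assoc] using key g⁻¹ (S.inv_mem hg) _ hx⟩
  have hab : ∀ a ∈ P, ∀ b ∈ P, a * b = b * a := by
    intro a ha b hb
    have hi : ((zCenter S).subgroupOf P).index = p := by
      have h3 := Subgroup.relIndex_mul_relIndex (zCenter S) P S hZP hPS
      rw [show (zCenter S).relIndex S = p ^ 2 from d.index] at h3
      obtain ⟨k, hk2, hk⟩ := (Nat.dvd_prime_pow hp.out).1 ⟨_, h3.symm⟩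
      rw [hk] at h3
      interval_cases k
      · exact absurd (Subgroup.relIndex_eq_one.1 (hk.trans (pow_zero p))) hnZ
      · exact hk.trans (pow_one p)
      · refine absurd (le_antisymm hPS (Subgroup.relIndex_eq_one.1 ?_)) hne
        exact Nat.eq_of_mul_eq_mul_left (pow_pos hp.out.pos 2) (h3.trans (mul_one _).symm)
    have hn : ((zCenter S).subgroupOf P).Normal := ⟨fun x hx g => by
      show (g : Ω) * x * (g : Ω)⁻¹ ∈ zCenter S
      rw [(Subgroup.mem_inf.1 (Subgroup.mem_subgroupOf.1 hx)).2 g (hPS g.2), mul_inv_cancel_right]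
      exact hx⟩
    have : IsCyclic (P ⧸ (zCenter S).subgroupOf P) :=
      isCyclic_of_prime_card (p := p) (by rw [← Subgroup.index_eq_card, hi])
    exact congrArg Subtype.val (commutative_of_cyclic_center_quotient
      (QuotientGroup.mk' ((zCenter S).subgroupOf P)) (by
        rw [QuotientGroup.ker_mk']
        exact fun x hx => Subgroup.mem_center_iff.2 fun g => Subtype.ext (hx.2 g (hPS g.2)))
      ⟨a, ha⟩ ⟨b, hb⟩)
  refine ⟨hPS, hab, hZP, hnZ, hne, hnor, ?_⟩
  by_contra hall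
  push Not at hall
  have hle := autInducedBy_le_autGroup F hPS
  have hRn : ((autInducedBy S P).subgroupOf (F.autGroup P)).Normal :=
    ⟨fun γ hγ β => hall β β.2 γ hγ⟩
  have h1 : (autInducedBy S P).subgroupOf (F.autGroup P) ≤ pCore p (F.autGroup P) :=
    le_sSup ⟨hRn, (isPGroup_autInducedBy d.hS P).of_equiv (Subgroup.subgroupOfEquivOfLe hle).symm⟩
  obtain ⟨y, hy, hyP⟩ := SetLike.exists_of_lt (lt_of_le_of_ne hPS hne)
  have hmem : P.normalizerMonoidHom ⟨y, hnor hy⟩ ∈ autInducedBy S P :=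
    mem_autInducedBy.2 ⟨y, hy, fun _ => rfl⟩
  have h2 : P.normalizerMonoidHom ⟨y, hnor hy⟩ ∈ Inn P :=
    (isRadical_of_essential d.hS hP).2.le ⟨⟨_, hle hmem⟩, h1 hmem, rfl⟩
  obtain ⟨q, hq⟩ := h2
  refine hyP (hC ⟨hy, fun x hx => ?_⟩)
  have h3 : (q : Ω) * x * (q : Ω)⁻¹ = y * x * y⁻¹ :=
    congrArg (fun e : MulAut P => ((e ⟨x, hx⟩ : P) : Ω)) hq
  rw [hab q q.2 x hx, mul_inv_cancel_right] at h3
  exact eq_mul_inv_iff_mul_eq.1 h3

/-- The structure of a bad subgroup. -/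
theorem Data.structureOf (d : Data F p) {A : Subgroup Ω} (hA : Bad F A) {z : Ω}
    (hz : z ∈ zCenter S) (hzo : orderOf z = p)
    (hcomm : ∀ a ∈ S, ∀ b ∈ S, ⁅a, b⁆ ∈ Subgroup.zpowers z) :
    fixSub F A ≤ zCenter S ∧
    ∃ V : Subgroup Ω, z ∈ V ∧ V ≤ A ∧ Nat.card V = p ^ 2 ∧ (∀ v ∈ V, v ^ p = 1) ∧
      (V ⊓ zCenter S ≤ Subgroup.zpowers z) ∧ V ⊓ fixSub F A = ⊥ ∧ V ⊔ fixSub F A = A ∧
      (∀ α ∈ F.autGroup A, ∀ a : A, ((a : Ω) ∈ V → ((α a : A) : Ω) ∈ V) ∧
        ((a : Ω) ∈ fixSub F A → ((α a : A) : Ω) ∈ fixSub F A)) ∧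
      ∃ ψ : MulAut S, ψ ∈ F.autGroup S ∧ (∀ x : S, (x : Ω) ∈ V → ψ x = x⁻¹) ∧
        ∀ x : S, (x : Ω) ∈ fixSub F A → ψ x = x := by
  classical
  have hAfin : Finite A := finite_of_le ‹_› hA.le
  have : IsMulCommutative A := ⟨⟨fun a b => Subtype.ext (hA.comm a a.2 b b.2)⟩⟩
  obtain ⟨y, hy, hyA⟩ := SetLike.exists_of_lt (lt_of_le_of_ne hA.le hA.ne)
  have hfn : F.IsFullyNormalized A := by
    refine ⟨hA.le, fun B _ => ?_⟩
    have : Finite (normalizerIn S A) := finite_of_le ‹_› (normalizerIn_le A)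
    exact Subgroup.card_le_of_le (le_inf (normalizerIn_le B) ((normalizerIn_le B).trans hA.normal))
  let τ₀ : MulAut A := A.normalizerMonoidHom ⟨y, hA.normal hy⟩
  have hτI : τ₀ ∈ autInducedBy S A := mem_autInducedBy.2 ⟨y, hy, fun _ => rfl⟩
  let τ : F.autGroup A := ⟨τ₀, autInducedBy_le_autGroup F hA.le hτI⟩
  have hτpow : ∀ (n : ℕ) (x : A), (((τ₀ ^ n) x : A) : Ω) = y ^ n * x * (y ^ n)⁻¹ := by
    intro n
    induction n with
    | zero => intro x; simp
    | succ n ih =>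
      intro x
      rw [pow_succ' τ₀, pow_succ' y, MulAut.mul_apply, mul_inv_rev]
      show y * (((τ₀ ^ n) x : A) : Ω) * y⁻¹ = _
      rw [ih]
      simp [mul_assoc]
  have hgen : ∀ γ ∈ autInducedBy S A, ∃ n : ℕ, γ = τ₀ ^ n := by
    intro γ hγ
    obtain ⟨g, hg, hgγ⟩ := mem_autInducedBy.1 hγ
    obtain ⟨a, ha, n, rfl⟩ := d.sup_zpowers hA hy hyA g hg
    refine ⟨n, MulEquiv.ext fun x => Subtype.ext ?_⟩
    rw [hgγ x, hτpow, mul_inv_rev]
    have h1 := hA.comm a ha _ (hτpow n x ▸ ((τ₀ ^ n) x).2)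
    calc a * y ^ n * x * ((y ^ n)⁻¹ * a⁻¹) = a * (y ^ n * x * (y ^ n)⁻¹) * a⁻¹ := by
          simp [mul_assoc]
      _ = _ := by rw [h1, mul_inv_cancel_right]
  have hzA : z ∈ A := hA.center_le hz
  set z' : A := ⟨z, hzA⟩ with hz'
  have hset : Transvection.Setting A p (F.autGroup A) τ z' := by
    refine ⟨d.hS.to_le hA.le, ?_, ?_, ?_, ?_, ?_, ?_, ?_⟩
    · apply Subtype.ext
      rw [SubgroupClass.coe_pow]
      refine MulEquiv.ext fun x => Subtype.ext ?_
      rw [hτpow]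
      show y ^ p * x * (y ^ p)⁻¹ = (x : Ω)
      rw [← ((d.pow_mem hy).2 x (hA.le x.2)), mul_inv_cancel_right]
    · intro h
      obtain ⟨t, ht, htZ⟩ := SetLike.not_le_iff_exists.1 hA.ne_center
      refine htZ ⟨hA.le ht, Subgroup.mem_centralizer_iff.2 fun g hg => ?_⟩
      obtain ⟨a, ha, n, rfl⟩ := d.sup_zpowers hA hy hyA g hg
      have h1 : (τ₀ ⟨t, ht⟩ : Ω) = t := by rw [show τ₀ = 1 from congrArg Subtype.val h]; rfl
      have h1' : Commute y t := eq_mul_inv_iff_mul_eq.1 (h1.symm : t = y * t * y⁻¹) |>.symm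
      have h2 : Commute a t := hA.comm a ha t ht
      exact (h2.mul_left (h1'.pow_left n)).eq
    · intro K hK hτK
      obtain ⟨-, R, hR⟩ := (saturated_fullyNormalized d.hS d.hF hfn).2
      have hReq : (R : Subgroup (F.autGroup A)) ≤ Subgroup.zpowers τ := by
        rw [hR]
        intro γ hγ
        obtain ⟨n, hn⟩ := hgen γ hγ
        exact Subgroup.mem_zpowers_iff.2 ⟨n, Subtype.ext (by simpa using hn.symm)⟩
      exact ((R.3 hK (hReq.trans (Subgroup.zpowers_le.2 hτK))).le).trans hReq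
    · rw [← Subgroup.orderOf_coe]; exact hzo
    · apply Subtype.ext
      show y * z * y⁻¹ = z
      rw [hz.2 y hy, mul_inv_cancel_right]
    · intro x
      obtain ⟨i, hi⟩ := Subgroup.mem_zpowers_iff.1 (hcomm y hy x (hA.le x.2))
      refine Subgroup.mem_zpowers_iff.2 ⟨i, Subtype.ext ?_⟩
      rw [SubgroupClass.coe_zpow]
      exact hi
    · obtain ⟨β, hβ, γ, hγ, hne⟩ := hA.moved
      refine ⟨⟨β, hβ⟩, fun hmem => hne ?_⟩
      obtain ⟨n, rfl⟩ := hgen γ hγ
      rw [← conj_pow]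
      refine Subgroup.pow_mem _ ?_ n
      obtain ⟨k, hk⟩ := Subgroup.mem_zpowers_iff.1 hmem
      rw [show β * τ₀ * β⁻¹ = τ₀ ^ k from (congrArg Subtype.val hk).symm]
      exact Subgroup.zpow_mem _ hτI k
  obtain ⟨V, C, hzV, hVc, hVp, hVC, hVCsup, hinv, hCτ, hCchar, ⟨t, htV, hτt⟩, g, hgτ, hgV, hgC⟩ :=
    Transvection.decomposition hset
  have hCfix : fixSub F A = C.map A.subtype := by
    ext c
    constructor
    · rintro ⟨hc, hc'⟩
      exact ⟨⟨c, hc⟩, hCchar _ fun β => hc' β β.2 τ₀ hτI, rfl⟩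
    · rintro ⟨c, hc, rfl⟩
      refine ⟨c.2, fun β hβ γ hγ => ?_⟩
      obtain ⟨n, rfl⟩ := hgen γ hγ
      have h1 : ∀ m : ℕ, (τ₀ ^ m) ((β⁻¹ : MulAut A) c) = (β⁻¹ : MulAut A) c := fun m =>
        Subgroup.pow_mem (MulAction.stabilizer (MulAut A) ((β⁻¹ : MulAut A) c))
          (hCτ _ ((hinv ⟨β⁻¹, inv_mem hβ⟩).2 c hc)) m
      show β ((τ₀ ^ n) ((β⁻¹ : MulAut A) c)) = c
      rw [h1]
      exact β.apply_symm_apply c
  have hCZ : ∀ c ∈ C, (c : Ω) ∈ zCenter S := fun c hc => by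
    refine ⟨hA.le c.2, Subgroup.mem_centralizer_iff.2 fun s hs => ?_⟩
    obtain ⟨a, ha, n, rfl⟩ := d.sup_zpowers hA hy hyA s hs
    have h1 : Commute y (c : Ω) := by
      have := congrArg Subtype.val (hCτ c hc)
      exact eq_mul_inv_iff_mul_eq.1 (this.symm : (c : Ω) = y * c * y⁻¹) |>.symm
    have h2 : Commute a (c : Ω) := hA.comm a ha c c.2
    exact (h2.mul_left (h1.pow_left n)).eq
  refine ⟨hCfix ▸ fun _ ⟨c, hc, e⟩ => e ▸ hCZ c hc, V.map A.subtype, ⟨z', hzV, rfl⟩,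
    Subgroup.map_subtype_le V, by rw [Subgroup.card_map_of_injective A.subtype_injective, hVc],
    fun v ⟨w, hw, e⟩ => e ▸ congrArg Subtype.val (hVp w hw), ?_, ?_, ?_, ?_, ?_⟩
  · -- the fixed points of `τ` on `V`
    rintro _ ⟨⟨v, hv, rfl⟩, hvZ⟩
    let W : Subgroup A := V ⊓ (zCenter S).subgroupOf A
    have hzW : Subgroup.zpowers z' ≤ W := Subgroup.zpowers_le.2 ⟨hzV, hz⟩
    have hWV : W < V := lt_of_le_of_ne inf_le_left fun he => hτt (Subtype.ext (by
      have htZ : (t : Ω) ∈ zCenter S := (he.ge htV).2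
      show y * (t : Ω) * y⁻¹ = t
      rw [htZ.2 y hy, mul_inv_cancel_right]))
    have hcW : Nat.card W < p ^ 2 := hVc ▸ Set.Finite.card_lt_card (Set.toFinite _)
      (SetLike.coe_ssubset_coe.2 hWV)
    obtain ⟨k, hk⟩ := IsPGroup.iff_card.1 ((d.hS.to_le hA.le).to_subgroup W)
    have hk1 : k ≤ 1 := by
      have := (Nat.pow_lt_pow_iff_right hp.out.one_lt).1 (hk ▸ hcW)
      omega
    have he : Subgroup.zpowers z' = W := by
      refine Subgroup.eq_of_le_of_card_ge hzW ?_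
      rw [hk, Nat.card_zpowers, hset.ord]
      exact (Nat.pow_le_pow_right hp.out.pos hk1).trans (pow_one p).le
    obtain ⟨i, hi⟩ := Subgroup.mem_zpowers_iff.1 (he.ge (show v ∈ W from ⟨hv, hvZ⟩))
    exact Subgroup.mem_zpowers_iff.2 ⟨i, by rw [← hi]; rfl⟩
  · rw [hCfix, ← Subgroup.map_inf V C A.subtype A.subtype_injective, hVC, Subgroup.map_bot]
  · rw [hCfix, ← Subgroup.map_sup, hVCsup, ← MonoidHom.range_eq_map, Subgroup.range_subtype]
  · intro α hα a
    refine ⟨fun ha => ?_, fun ha => ?_⟩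
    · obtain ⟨v, hv, hve⟩ := ha
      obtain rfl : v = a := Subtype.ext hve
      exact ⟨_, (hinv ⟨α, hα⟩).1 v hv, rfl⟩
    · rw [hCfix] at ha ⊢
      obtain ⟨v, hv, hve⟩ := ha
      obtain rfl : v = a := Subtype.ext hve
      exact ⟨_, (hinv ⟨α, hα⟩).2 v hv, rfl⟩
  · -- the extension of `-1`
    obtain ⟨ψ, hψ, hψe⟩ := exists_ext_aut (saturated_receptive_of_fullyNormalized d.hS d.hF hfn)
      g.2 hA.le (le_inf le_rfl hA.normal) (fun w hw => by
        obtain ⟨n, hn⟩ := hgen (A.normalizerMonoidHom ⟨w, hA.normal hw⟩)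
          (mem_autInducedBy.2 ⟨w, hw, fun _ => rfl⟩)
        rw [hn, ← conj_pow]
        refine Subgroup.pow_mem _ ?_ n
        rw [show (g : MulAut A) * τ₀ * (g : MulAut A)⁻¹ = τ₀ from congrArg Subtype.val hgτ]
        exact hτI)
    have hr : ψ.range = S :=
      range_eq_of_image_le (F.injective_of_mem hψ) (range_le_S F hψ) le_rfl
    refine ⟨toIso F hψ hr, toIso_mem_autGroup F hψ hr, ?_, ?_⟩
    · rintro x ⟨v, hv, hve⟩
      apply Subtype.ext
      rw [toIso_coe, show x = Subgroup.inclusion hA.le v from Subtype.ext hve.symm, hψe, hgV v hv]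
      rfl
    · intro x hx
      rw [hCfix] at hx
      obtain ⟨v, hv, hve⟩ := hx
      apply Subtype.ext
      rw [toIso_coe, show x = Subgroup.inclusion hA.le v from Subtype.ext hve.symm, hψe, hgC v hv]
      rfl

omit hp in
/-- Transport of bad subgroups and their fixed subgroups along automorphisms of `S`. -/
theorem bad_map {A : Subgroup Ω} (hA : Bad F A) {α : MulAut S} (hα : α ∈ F.autGroup S) :
    Bad F ((A.subgroupOf S).map (S.subtype.comp α.toMonoidHom)) ∧
      ∀ x : S, (x : Ω) ∈ fixSub F A →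
        ((α x : S) : Ω) ∈ fixSub F ((A.subgroupOf S).map (S.subtype.comp α.toMonoidHom)) := by
  set B := (A.subgroupOf S).map (S.subtype.comp α.toMonoidHom) with hB
  have hBmem : ∀ x : S, ((α x : S) : Ω) ∈ B ↔ (x : Ω) ∈ A := by
    intro x
    rw [hB, mem_map_subgroupOf]
    constructor
    · rintro ⟨w, hw, hwe⟩
      obtain rfl : w = x := α.injective (Subtype.ext hwe)
      exact hw
    · exact fun h => ⟨x, h, rfl⟩
  have hBS : B ≤ S := by
    rintro _ ⟨w, -, rfl⟩
    exact (α w).2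
  have hsurj : ∀ b ∈ B, ∃ x : S, (x : Ω) ∈ A ∧ ((α x : S) : Ω) = b := fun b hb =>
    (mem_map_subgroupOf _).1 hb
  have hαm := autGroup_mem_hom F le_rfl hα
  have hres := restr_mem F hA.le hαm
  have hr : (restr hA.le (S.subtype.comp α.toMonoidHom)).range = B := by rw [range_restr]
  set e := toIso F hres hr with he
  have hee : ∀ a : A, (e a : Ω) = ((α (Subgroup.inclusion hA.le a) : S) : Ω) := fun a => rfl
  have hind : ∀ γ ∈ autInducedBy S B, MulAut.congr e.symm γ ∈ autInducedBy S A := by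
    intro γ hγ
    obtain ⟨g, hg, hgγ⟩ := mem_autInducedBy.1 hγ
    refine mem_autInducedBy.2 ⟨(α.symm ⟨g, hg⟩ : S), (α.symm _).2, fun a => ?_⟩
    rw [autCongr_apply, MulEquiv.symm_symm]
    have h1 : ((α ((α.symm ⟨g, hg⟩) * Subgroup.inclusion hA.le a * (α.symm ⟨g, hg⟩)⁻¹) : S) : Ω)
        = g * (e a : Ω) * g⁻¹ := by
      simp [hee]
    rw [← hgγ] at h1
    obtain ⟨a', ha'⟩ := e.surjective (γ (e a))
    rw [← ha', MulEquiv.symm_apply_apply]
    rw [← ha', hee] at h1
    have h2 := congrArg Subtype.val (α.injective (Subtype.ext h1))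
    exact h2.symm
  refine ⟨⟨hBS, ?_, ?_, ?_, ?_, ?_, ?_⟩, ?_⟩
  · intro a ha b hb
    obtain ⟨x, hx, rfl⟩ := hsurj a ha
    obtain ⟨w, hw, rfl⟩ := hsurj b hb
    rw [← Subgroup.coe_mul, ← Subgroup.coe_mul, ← map_mul, ← map_mul,
      show x * w = w * x from Subtype.ext (hA.comm x hx w hw)]
  · intro c hc
    have hc' : ((α.symm ⟨c, hc.1⟩ : S) : Ω) ∈ A := hA.center_le (aut_zCenter (x := ⟨c, hc.1⟩) hc)
    have := (hBmem (α.symm ⟨c, hc.1⟩)).2 hc'
    rwa [MulEquiv.apply_symm_apply] at this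
  · intro hle
    refine hA.ne_center fun a ha => ?_
    have h1 := aut_zCenter (α := α.symm) (x := α ⟨a, hA.le ha⟩)
      (hle ((hBmem ⟨a, hA.le ha⟩).2 ha))
    rwa [MulEquiv.symm_apply_apply] at h1
  · intro hBeq
    refine hA.ne (le_antisymm hA.le fun s hs => ?_)
    exact (hBmem ⟨s, hs⟩).1 (hBeq.ge (α ⟨s, hs⟩).2)
  · intro g hg
    have key : ∀ g ∈ S, ∀ b ∈ B, g * b * g⁻¹ ∈ B := by
      intro g hg b hb
      obtain ⟨x, hx, rfl⟩ := hsurj b hb
      have h1 : ((α.symm ⟨g, hg⟩ * x * (α.symm ⟨g, hg⟩)⁻¹ : S) : Ω) ∈ A :=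
        (Subgroup.mem_normalizer_iff.1 (hA.normal (α.symm ⟨g, hg⟩).2) _).1 hx
      have h2 := (hBmem _).2 h1
      simpa using h2
    exact Subgroup.mem_normalizer_iff.2 fun x => ⟨key g hg x, fun hx => by
      simpa [mul_assoc] using key g⁻¹ (S.inv_mem hg) _ hx⟩
  · by_contra hall
    push Not at hall
    obtain ⟨β, hβ, γ, hγ, hne⟩ := hA.moved
    apply hne
    obtain ⟨g, hg, hgγ⟩ := mem_autInducedBy.1 hγ
    have hγB : MulAut.congr e γ ∈ autInducedBy S B := by
      refine mem_autInducedBy.2 ⟨(α ⟨g, hg⟩ : S), (α _).2, fun b => ?_⟩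
      obtain ⟨a, rfl⟩ := e.surjective b
      rw [autCongr_apply, MulEquiv.symm_apply_apply, hee, hee,
        show Subgroup.inclusion hA.le (γ a) = ⟨g, hg⟩ * Subgroup.inclusion hA.le a * ⟨g, hg⟩⁻¹ from
          Subtype.ext (hgγ a)]
      simp
    have h1 := hind _ (hall (MulAut.congr e β) (autCongr_mem F (toIso_isIso F hres hr) hβ) _ hγB)
    rw [← map_inv, ← map_mul, ← map_mul] at h1
    have h2 : MulAut.congr e.symm (MulAut.congr e (β * γ * β⁻¹)) = β * γ * β⁻¹ :=
      MulEquiv.ext fun a => by simp [autCongr_apply]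
    rwa [h2] at h1
  · rintro x ⟨hx, hx'⟩
    refine ⟨(hBmem x).2 hx, fun β hβ γ hγ => ?_⟩
    have hβ' : MulAut.congr e.symm β ∈ F.autGroup A :=
      autCongr_mem F (toIso_isIso F hres hr).symm hβ
    have h := congrArg e (hx' _ hβ' _ (hind γ hγ))
    have hex : e ⟨(x : Ω), hx⟩ = ⟨((α x : S) : Ω), (hBmem x).2 hx⟩ := Subtype.ext rfl
    rw [← map_inv, ← map_mul, ← map_mul, autCongr_apply, MulEquiv.symm_symm,
      MulEquiv.apply_symm_apply, hex] at h
    exact h

/-- The common fixed subgroup of all bad subgroups. -/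
def commonFix (F : FusionSystem S) : Subgroup Ω :=
  zCenter S ⊓ ⨅ A : {A : Subgroup Ω // Bad F A}, fixSub F A

omit [Finite S] hp in
theorem mem_commonFix {x : Ω} :
    x ∈ commonFix F ↔ x ∈ zCenter S ∧ ∀ A, Bad F A → x ∈ fixSub F A := by
  simp only [commonFix, Subgroup.mem_inf, Subgroup.mem_iInf, Subtype.forall]

/-- An automorphism of a bad subgroup is a product of a member of the normal subgroup generated by
`Aut_S(A)` and one extending to `S`. -/
theorem Data.exists_factor (d : Data F p) {A : Subgroup Ω} (hA : Bad F A) {α : MulAut A}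
    (hα : α ∈ F.autGroup A) :
    ∃ (k : F.autGroup A) (ψ : MulAut S), ψ ∈ F.autGroup S ∧
      k ∈ Subgroup.normalClosure (↑((autInducedBy S A).subgroupOf (F.autGroup A)) : Set (F.autGroup A)) ∧
      ∀ a : A, ∃ h : ((ψ (Subgroup.inclusion hA.le a) : S) : Ω) ∈ A,
        α a = (k : MulAut A) ⟨_, h⟩ := by
  have hfn : F.IsFullyNormalized A := by
    refine ⟨hA.le, fun B _ => ?_⟩
    have : Finite (normalizerIn S A) := finite_of_le ‹_› (normalizerIn_le A)
    exact Subgroup.card_le_of_le (le_inf (normalizerIn_le B) ((normalizerIn_le B).trans hA.normal))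
  set K := Subgroup.normalClosure (↑((autInducedBy S A).subgroupOf (F.autGroup A)) : Set (F.autGroup A)) with hK
  obtain ⟨h, k, N, N', e, hAN, hαe, hk, he, -, hNn, hag, hext⟩ :=
    exists_frattini_extend d.hS d.hF hfn K ⟨α, hα⟩
  have hN : N = S := by
    refine le_antisymm (hNn.trans inf_le_left) fun g hg => hext g ⟨hg, hA.normal hg⟩ ?_
    exact ⟨⟨A.normalizerMonoidHom ⟨g, hA.normal hg⟩, autInducedBy_le_autGroup F hA.le
      (mem_autInducedBy.2 ⟨g, hg, fun _ => rfl⟩)⟩,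
      Subgroup.subset_normalClosure (mem_autInducedBy.2 ⟨g, hg, fun _ => rfl⟩), fun _ => rfl⟩
  subst hN
  have hN' : N' = N := eq_of_le_of_card_le he.le_right (Nat.card_congr e.toEquiv).le
  subst hN'
  refine ⟨h * k * h⁻¹, e, (mem_autGroup F le_rfl).2 he,
    Subgroup.normalClosure_normal.conj_mem k hk h, fun a => ?_⟩
  have hea : ((e (Subgroup.inclusion hA.le a) : N') : Ω) = ((h : MulAut A) a : A) := hag a
  have hmem : ((e (Subgroup.inclusion hA.le a) : N') : Ω) ∈ A := hea.symm ▸ ((h : MulAut A) a).2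
  refine ⟨hmem, ?_⟩
  rw [show (⟨_, hmem⟩ : A) = (h : MulAut A) a from Subtype.ext hea,
    show α = (h : MulAut A) * (k : MulAut A) from congrArg Subtype.val hαe]
  simp [MulAut.mul_apply]

omit [Finite S] hp in
/-- Members of the normal subgroup generated by `Aut_S(A)` fix the fixed subgroup. -/
theorem normalClosure_fix {A : Subgroup Ω} {k : F.autGroup A}
    (hk : k ∈ Subgroup.normalClosure (↑((autInducedBy S A).subgroupOf (F.autGroup A)) : Set (F.autGroup A)))
    (a : A) (ha : (a : Ω) ∈ fixSub F A) : (k : MulAut A) a = a := by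
  have hle : Subgroup.normalClosure (↑((autInducedBy S A).subgroupOf (F.autGroup A)) : Set (F.autGroup A)) ≤
      (MulAction.stabilizer (MulAut A) a).comap (F.autGroup A).subtype := by
    rw [Subgroup.normalClosure, Subgroup.closure_le]
    intro b hb
    obtain ⟨γ, hγ, hc⟩ := Group.mem_conjugatesOfSet_iff.1 hb
    obtain ⟨β, rfl⟩ := isConj_iff.1 hc
    obtain ⟨h, h'⟩ := ha
    exact h' β β.2 γ hγ
  exact hle hk

theorem Data.commonFix_normal (d : Data F p) : F.IsNormal (commonFix F) := by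
  have hS' : ∀ (α : MulAut S), α ∈ F.autGroup S → ∀ x : S, (x : Ω) ∈ commonFix F →
      ((α x : S) : Ω) ∈ commonFix F := by
    intro α hα x hx
    rw [mem_commonFix] at hx ⊢
    refine ⟨aut_zCenter hx.1, fun A hA => ?_⟩
    obtain ⟨hB, -⟩ := bad_map hA (inv_mem hα)
    obtain ⟨-, hfix⟩ := bad_map hB hα
    have h := hfix x (hx.2 _ hB)
    convert h using 1
    refine congrArg (fixSub F) ?_
    ext y
    rw [mem_map_subgroupOf]
    constructor
    · intro hy
      refine ⟨α.symm ⟨y, hA.le hy⟩, (mem_map_subgroupOf _).2 ⟨⟨y, hA.le hy⟩, hy, rfl⟩, ?_⟩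
      show ((α (α.symm ⟨y, hA.le hy⟩) : S) : Ω) = y
      rw [MulEquiv.apply_symm_apply]
    · rintro ⟨w, hw, rfl⟩
      obtain ⟨v, hv, hvw⟩ := (mem_map_subgroupOf _).1 hw
      obtain rfl : α.symm v = w := Subtype.ext hvw
      show ((α (α.symm v) : S) : Ω) ∈ A
      rw [MulEquiv.apply_symm_apply]
      exact hv
  refine isNormal_of_autGroups d.hS d.hF fun P hP => ?_
  have hUS : commonFix F ≤ S := inf_le_left.trans inf_le_left
  rcases hP with rfl | hP
  · refine ⟨hUS, fun α hα => ?_⟩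
    ext x
    constructor
    · rintro ⟨w, hw, rfl⟩
      exact hS' α hα w hw
    · intro hx
      exact ⟨α.symm x, hS' α⁻¹ (inv_mem hα) x hx, α.apply_symm_apply x⟩
  · have hA := d.bad_of_essential hP
    have hUP : commonFix F ≤ P := fun x hx => fixSub_le F P ((mem_commonFix.1 hx).2 P hA)
    have key : ∀ α ∈ F.autGroup P, ∀ a : P, (a : Ω) ∈ commonFix F →
        ((α a : P) : Ω) ∈ commonFix F := by
      intro α hα a ha
      obtain ⟨k, ψ, hψ, hk, he⟩ := d.exists_factor hA hα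
      obtain ⟨hmem, he⟩ := he a
      have h1 := hS' ψ hψ (Subgroup.inclusion hA.le a) ha
      rw [he, normalClosure_fix hk _ ((mem_commonFix.1 h1).2 P hA)]
      exact h1
    refine ⟨hUP, fun α hα => ?_⟩
    ext x
    constructor
    · rintro ⟨w, hw, rfl⟩
      exact key α hα w hw
    · intro hx
      exact ⟨α.symm x, key α⁻¹ (inv_mem hα) x hx, α.apply_symm_apply x⟩

/-- Without nontrivial normal subgroups there are two different bad subgroups. -/
theorem Data.exists_two (d : Data F p) (hcore : ∀ N, F.IsNormal N → N = ⊥) (hS1 : S ≠ ⊥) :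
    ∃ A B, Bad F A ∧ Bad F B ∧ A ≠ B := by
  by_contra hall
  push Not at hall
  by_cases h : ∃ A, Bad F A
  · obtain ⟨A, hA⟩ := h
    have hN : F.IsNormal A := by
      refine isNormal_of_autGroups d.hS d.hF fun P hP => ?_
      rcases hP with rfl | hP
      · refine ⟨hA.le, fun α hα => ?_⟩
        have e := hall _ _ (bad_map hA hα).1 hA
        ext x
        constructor
        · rintro ⟨w, hw, rfl⟩
          exact e.le ((mem_map_subgroupOf _).2 ⟨w, hw, rfl⟩)
        · intro hx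
          obtain ⟨w, hw, hwx⟩ := (mem_map_subgroupOf _).1 (e.ge hx)
          exact ⟨w, hw, Subtype.ext hwx⟩
      · obtain rfl := hall _ _ (d.bad_of_essential hP) hA
        refine ⟨le_rfl, fun α _ => ?_⟩
        rw [Subgroup.subgroupOf_self]
        exact Subgroup.map_top_of_surjective _ α.surjective
    exact hA.ne_center ((hcore A hN).le.trans bot_le)
  · refine hS1 (hcore S (isNormal_of_autGroups d.hS d.hF fun P hP => ?_))
    rcases hP with rfl | hP
    · refine ⟨le_rfl, fun α _ => ?_⟩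
      rw [Subgroup.subgroupOf_self]
      exact Subgroup.map_top_of_surjective _ α.surjective
    · exact absurd ⟨_, d.bad_of_essential hP⟩ h

omit hp in
theorem eq_mul_of_mem_sup {A V C : Subgroup Ω} (hA : ∀ a ∈ A, ∀ b ∈ A, a * b = b * a)
    (hVA : V ≤ A) (hsup : V ⊔ C = A) {x : Ω} (hx : x ∈ A) : ∃ v ∈ V, ∃ c ∈ C, x = v * c := by
  have hn : V ≤ Subgroup.normalizer (C : Set Ω) := fun v hv =>
    Subgroup.mem_normalizer_iff.2 fun w => by
      have hCA : C ≤ A := le_sup_right.trans hsup.le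
      constructor
      · intro hw
        rw [hA v (hVA hv) w (hCA hw), mul_inv_cancel_right]
        exact hw
      · intro hw
        have hw' : w ∈ A := by
          have := A.mul_mem (A.mul_mem (A.inv_mem (hVA hv)) (hCA hw)) (hVA hv)
          simpa [mul_assoc] using this
        rwa [hA v (hVA hv) w hw', mul_inv_cancel_right] at hw
  rw [← hsup, ← SetLike.mem_coe, Subgroup.coe_mul_of_left_le_normalizer_right _ _ hn] at hx
  obtain ⟨v, hv, c, hc, rfl⟩ := hx
  exact ⟨v, hv, c, hc, rfl⟩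

/-- For odd `p` all bad subgroups have the same fixed subgroup. -/
theorem Data.fixSub_eq (d : Data F p) (hp2 : p ≠ 2) {A B : Subgroup Ω} (hA : Bad F A)
    (hB : Bad F B) {z : Ω} (hz : z ∈ zCenter S) (hzo : orderOf z = p)
    (hcomm : ∀ a ∈ S, ∀ b ∈ S, ⁅a, b⁆ ∈ Subgroup.zpowers z) : fixSub F B ≤ fixSub F A := by
  obtain ⟨hCA, V, hzV, hVA, -, -, hVZ, -, hsupA, -, ψ, hψ, hψV, hψC⟩ :=
    d.structureOf hA hz hzo hcomm
  obtain ⟨hCB, W, hzW, hWB, -, -, hWZ, -, hsupB, -, χ, hχ, hχW, hχC⟩ :=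
    d.structureOf hB hz hzo hcomm
  have hzdec : ∀ x ∈ zCenter S, ∃ i : ℤ, ∃ c ∈ fixSub F A, x = z ^ i * c := by
    intro x hx
    obtain ⟨v, hv, c, hc, rfl⟩ := eq_mul_of_mem_sup hA.comm hVA hsupA (hA.center_le hx)
    have : v ∈ zCenter S := by simpa using (zCenter S).mul_mem hx ((zCenter S).inv_mem (hCA hc))
    obtain ⟨i, rfl⟩ := Subgroup.mem_zpowers_iff.1 (hVZ ⟨hv, this⟩)
    exact ⟨i, c, hc, rfl⟩
  have hzdec' : ∀ x ∈ zCenter S, ∃ i : ℤ, ∃ c ∈ fixSub F B, x = z ^ i * c := by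
    intro x hx
    obtain ⟨v, hv, c, hc, rfl⟩ := eq_mul_of_mem_sup hB.comm hWB hsupB (hB.center_le hx)
    have : v ∈ zCenter S := by simpa using (zCenter S).mul_mem hx ((zCenter S).inv_mem (hCB hc))
    obtain ⟨i, rfl⟩ := Subgroup.mem_zpowers_iff.1 (hWZ ⟨hv, this⟩)
    exact ⟨i, c, hc, rfl⟩
  set z' : S := ⟨z, hz.1⟩ with hz'
  have hψz : ∀ i : ℤ, ψ (z' ^ i) = z' ^ (-i) := fun i => by
    rw [map_zpow, hψV z' hzV, inv_zpow, zpow_neg]
  have hχz : ∀ i : ℤ, χ (z' ^ i) = z' ^ (-i) := fun i => by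
    rw [map_zpow, hχW z' hzW, inv_zpow, zpow_neg]
  let K : Subgroup (F.autGroup S) :=
    { carrier := {a | ∀ x : S, (x : Ω) ∈ zCenter S → (a : MulAut S) x = x}
      one_mem' := fun x _ => rfl
      mul_mem' := fun {a b} ha hb x hx => by
        show (a : MulAut S) ((b : MulAut S) x) = x
        rw [hb x hx, ha x hx]
      inv_mem' := fun {a} ha x hx => by
        show (a : MulAut S).symm x = x
        rw [MulEquiv.symm_apply_eq, ha x hx] }
  have hKn : K.Normal := ⟨fun a ha b x hx => by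
    show (b : MulAut S) ((a : MulAut S) ((b : MulAut S).symm x)) = x
    rw [ha _ (aut_zCenter hx), MulEquiv.apply_symm_apply]⟩
  set δ : F.autGroup S := ⟨ψ, hψ⟩ * ⟨χ, hχ⟩⁻¹ with hδ
  have hδz : ∀ i : ℤ, (δ : MulAut S) (z' ^ i) = z' ^ i := by
    intro i
    show ψ (χ.symm (z' ^ i)) = z' ^ i
    rw [show χ.symm (z' ^ i) = z' ^ (-i) by rw [MulEquiv.symm_apply_eq, hχz, neg_neg], hψz, neg_neg]
  have hδd : ∀ x : S, (x : Ω) ∈ zCenter S → ∃ i : ℤ, (δ : MulAut S) x = z' ^ i * x := by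
    intro x hx
    show ∃ i : ℤ, ψ (χ.symm x) = z' ^ i * x
    obtain ⟨i, c, hc, he⟩ := hzdec' x hx
    have hx' : x = z' ^ i * ⟨c, (hCB hc).1⟩ := Subtype.ext (by simpa using he)
    have h1 : χ.symm x = z' ^ (-i) * ⟨c, (hCB hc).1⟩ := by
      rw [MulEquiv.symm_apply_eq, map_mul, hχz, neg_neg, hχC _ hc, hx']
    obtain ⟨j, c', hc', he'⟩ := hzdec c (hCB hc)
    have hc2 : (⟨c, (hCB hc).1⟩ : S) = z' ^ j * ⟨c', (hCA hc').1⟩ :=
      Subtype.ext (by simpa using he')
    refine ⟨-(2 * j), ?_⟩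
    rw [h1, hx', hc2, ← mul_assoc, ← mul_assoc, ← zpow_add, ← zpow_add, map_mul, hψz, hψC _ hc',
      ← mul_assoc, ← zpow_add]
    congr 2
    ring
  have hδp : δ ^ p ∈ K := by
    intro x hx
    obtain ⟨i, hi⟩ := hδd x hx
    have key : ∀ m : ℕ, ((δ : MulAut S) ^ m) x = (z' ^ i) ^ m * x := by
      intro m
      induction m with
      | zero => simp
      | succ m ih =>
        rw [pow_succ' (δ : MulAut S), MulAut.mul_apply, ih, map_mul, map_pow, hδz, hi, pow_succ,
          mul_assoc]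
    show ((δ : MulAut S) ^ p) x = x
    rw [key, ← zpow_natCast, ← zpow_mul, mul_comm, zpow_mul, zpow_natCast,
      show z' ^ p = 1 from Subtype.ext (show z ^ p = 1 from hzo ▸ pow_orderOf_eq_one z),
      one_zpow, one_mul]
  have hδK : δ ∈ K := by
    obtain ⟨-, R, hR⟩ := (saturated_fullyNormalized d.hS d.hF (self_fullyNormalized F)).2
    have hRK : (R : Subgroup (F.autGroup S)) ≤ K := by
      rw [hR]
      intro a ha x hx
      obtain ⟨g, hg, hga⟩ := mem_autInducedBy.1 ha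
      apply Subtype.ext
      rw [show (((a : MulAut S) x : S) : Ω) = g * x * g⁻¹ from hga x, hx.2 g hg,
        mul_inv_cancel_right]
    have hcop : ¬ p ∣ Nat.card (F.autGroup S ⧸ K) := fun hdvd =>
      R.not_dvd_index (hdvd.trans (Subgroup.index_eq_card K ▸ Subgroup.index_dvd_of_le hRK))
    rw [← QuotientGroup.eq_one_iff]
    have h1 : (δ : F.autGroup S ⧸ K) ^ p = 1 := by
      rw [← QuotientGroup.mk_pow]
      exact (QuotientGroup.eq_one_iff _).2 hδp
    have h2 := Nat.dvd_gcd (orderOf_dvd_of_pow_eq_one h1) (orderOf_dvd_natCard _)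
    rw [(hp.out.coprime_iff_not_dvd.2 hcop).gcd_eq_one, Nat.dvd_one, orderOf_eq_one_iff] at h2
    exact h2
  intro c hc
  have hδc := hδK ⟨c, (hCB hc).1⟩ (hCB hc)
  have hψc : ψ ⟨c, (hCB hc).1⟩ = ⟨c, (hCB hc).1⟩ := by
    have h1 : χ.symm ⟨c, (hCB hc).1⟩ = ⟨c, (hCB hc).1⟩ := by
      rw [MulEquiv.symm_apply_eq, hχC _ hc]
    have h2 : ψ (χ.symm ⟨c, (hCB hc).1⟩) = ⟨c, (hCB hc).1⟩ := hδc
    rwa [h1] at h2
  obtain ⟨j, c', hc', he⟩ := hzdec c (hCB hc)
  have hc2 : (⟨c, (hCB hc).1⟩ : S) = z' ^ j * ⟨c', (hCA hc').1⟩ := Subtype.ext (by simpa using he)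
  rw [hc2, map_mul, hψz, hψC _ hc', mul_left_inj] at hψc
  have h2j : z' ^ (2 * j) = 1 := by rw [two_mul, zpow_add]; nth_rw 1 [← hψc]; simp
  have hd : (p : ℤ) ∣ 2 * j := by
    rw [← hzo, show orderOf z = orderOf z' from (Subgroup.orderOf_coe z').trans rfl]
    exact orderOf_dvd_iff_zpow_eq_one.2 h2j
  have hdj : (p : ℤ) ∣ j := (Int.Prime.dvd_mul' hp.out hd).resolve_left fun h => hp2
    ((Nat.prime_dvd_prime_iff_eq hp.out Nat.prime_two).1 (Int.natCast_dvd_natCast.1 h))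
  have hzj : z ^ j = 1 := orderOf_dvd_iff_zpow_eq_one.1 (hzo ▸ hdj)
  rw [he, hzj, one_mul]
  exact hc'

end

end Cfsg.Agent.FusionAux.CenterIndexSq
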