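import Cfsg.Agent.FusionSys.Realized
import Mathlib.GroupTheory.SemidirectProduct
import Mathlib.GroupTheory.Index

/-!
The fusion system of the semidirect product of a finite `p`-group `T` by an automorphism of order
prime to `p`, as a system over `T` inside the ambient group.
-/

set_option autoImplicit false

open Cfsg Cfsg.FusionSystem Cfsg.Agent.FusionSys

namespace Cfsg.Agent.FusionAux

variable {Ω : Type*} [Group Ω] {T : Subgroup Ω}

/-- The maps `x ↦ g β^i(x) g⁻¹`, for `g ∈ T`. -/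
def cyclicExt (β : MulAut T) : FusionSystem T where
  Hom P := {φ | ∃ hP : P ≤ T, ∃ (g : T) (i : ℤ), ∀ x : P,
    φ x = ((g * (β ^ i) ⟨x, hP x.2⟩ * g⁻¹ : T) : Ω)}
  le_of_mem := by
    rintro P φ ⟨hP, g, i, h⟩
    exact ⟨hP, fun x => by rw [h]; exact SetLike.coe_mem _⟩
  injective_of_mem := by
    rintro P φ ⟨hP, g, i, h⟩ a b hab
    rw [h a, h b, Subtype.coe_inj, mul_left_inj, mul_right_inj, EmbeddingLike.apply_eq_iff_eq,
      Subtype.ext_iff] at hab
    exact Subtype.ext hab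
  conj_mem := fun {P g} hP hg => ⟨hP, ⟨g, hg⟩, 0, fun x => by simp⟩
  comp_mem := by
    rintro P Q φ ψ ⟨hP, g, i, hg⟩ ⟨hQ, k, j, hk⟩ h
    refine ⟨hP, k * (β ^ j) g, j + i, fun x => ?_⟩
    show ψ ⟨φ x, h x⟩ = _
    rw [hk]
    have e : (⟨φ x, hQ (h x)⟩ : T) = g * (β ^ i) ⟨x, hP x.2⟩ * g⁻¹ := Subtype.ext (hg x)
    rw [e, zpow_add, MulAut.mul_apply]
    simp only [map_mul, map_inv, mul_inv_rev, mul_assoc]
  inv_mem := by
    rintro P φ ⟨hP, g, i, hg⟩
    have hle : φ.range ≤ T := by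
      rintro _ ⟨x, rfl⟩
      rw [hg x]
      exact SetLike.coe_mem _
    refine ⟨T.subtype.comp (((MulAut.conj ((β ^ (-i)) g⁻¹) * β ^ (-i)).toMonoidHom).comp
      (Subgroup.inclusion hle)), ⟨hle, (β ^ (-i)) g⁻¹, -i, fun y => rfl⟩, fun x => ?_⟩
    have e : (Subgroup.inclusion hle ⟨φ x, ⟨x, rfl⟩⟩) = g * (β ^ i) ⟨x, hP x.2⟩ * g⁻¹ :=
      Subtype.ext (hg x)
    show (((MulAut.conj ((β ^ (-i)) g⁻¹) * β ^ (-i)) (Subgroup.inclusion hle ⟨φ x, _⟩) : T) : Ω) = x
    rw [e, MulAut.mul_apply, MulAut.conj_apply, map_inv, map_mul, map_mul, map_inv, ← MulAut.mul_apply,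
      ← zpow_add]
    simp [mul_assoc]

theorem cyclicExt_self (β : MulAut T) : T.subtype.comp β.toMonoidHom ∈ (cyclicExt β).Hom T :=
  ⟨le_rfl, 1, 1, fun x => by simp⟩

theorem cyclicExt_saturated [Finite T] {p : ℕ} [hp : Fact p.Prime] (hT : IsPGroup p T) (β : MulAut T)
    (hβ : ¬ p ∣ orderOf β) : (cyclicExt β).IsSaturated p := by
  let f : Subgroup.zpowers β →* MulAut T := (Subgroup.zpowers β).subtype
  have : Finite (T ⋊[f] Subgroup.zpowers β) := Finite.of_equiv _ SemidirectProduct.equivProd.symm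
  have hr : IsPGroup p (SemidirectProduct.inl : T →* T ⋊[f] Subgroup.zpowers β).range :=
    hT.of_equiv (MonoidHom.ofInjective SemidirectProduct.inl_injective)
  have hidx : ¬ p ∣ (SemidirectProduct.inl : T →* T ⋊[f] Subgroup.zpowers β).range.index := by
    intro hd
    apply hβ
    have h1 := Subgroup.index_mul_card (SemidirectProduct.inl : T →* T ⋊[f] Subgroup.zpowers β).range
    rw [← Nat.card_congr (MonoidHom.ofInjective
      (SemidirectProduct.inl_injective (φ := f))).toEquiv, SemidirectProduct.card,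
      Nat.card_zpowers, mul_comm (Nat.card T)] at h1
    rwa [Nat.eq_of_mul_eq_mul_right Nat.card_pos h1] at hd
  refine saturated_of_realized (ι := (SemidirectProduct.inl : T →* T ⋊[f] Subgroup.zpowers β))
    ⟨SemidirectProduct.inl_injective, fun P hP φ hφ => ⟨?_, ?_⟩⟩ (hr.toSylow hidx)
    rfl
  · rintro ⟨_, g, i, h⟩
    refine ⟨SemidirectProduct.inl g *
      SemidirectProduct.inr ⟨β ^ i, Subgroup.zpow_mem_zpowers β i⟩, fun x => ?_⟩
    have e : (⟨φ x, hφ x⟩ : T) = g * (β ^ i) ⟨x, hP x.2⟩ * g⁻¹ := Subtype.ext (h x)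
    rw [e, mul_inv_rev, map_mul, map_mul, map_inv]
    have key := SemidirectProduct.inl_aut (φ := f) ⟨β ^ i, Subgroup.zpow_mem_zpowers β i⟩
      ⟨x, hP x.2⟩
    change SemidirectProduct.inl ((β ^ i) ⟨x, hP x.2⟩) = _ at key
    rw [key, map_inv]
    simp only [mul_assoc]
  · rintro ⟨⟨a, ⟨b, hb⟩⟩, h⟩
    obtain ⟨i, rfl⟩ := Subgroup.mem_zpowers_iff.1 hb
    refine ⟨hP, a, i, fun x => ?_⟩
    have h1 := congrArg (fun w : T ⋊[f] Subgroup.zpowers β => (w.left : Ω)) (h x)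
    simpa [f] using h1

end Cfsg.Agent.FusionAux
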