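import Cfsg.Agent.PGroup.ClassTwo
import Cfsg.Agent.PGroup.Basic

/-!
A subgroup maximal among the normal abelian subgroups of bounded exponent inside a normal subgroup
`N` of a `p`-group contains all elements of that exponent of its centralizer in `N`.
-/

set_option autoImplicit false
open Cfsg
open scoped commutatorElement

namespace Cfsg.Agent.FusionAux

/-- Relative form of the maximal normal abelian subgroup lemma. -/
theorem mem_of_maximal_normal_abelian_below {G : Type*} [Group G] [Finite G] {p : ℕ} [Fact p.Prime] (hG : IsPGroup p G) (n : ℕ) (hn : p ^ n ≠ 2) (N : Subgroup G) [N.Normal] (A : Subgroup G) [A.Normal] (hAN : A ≤ N) (hA : IsMulCommutative A) (hAe : ∀ a ∈ A, a ^ p ^ n = 1) (hmax : ∀ B : Subgroup G, B.Normal → B ≤ N → IsMulCommutative B → (∀ b ∈ B, b ^ p ^ n = 1) → A ≤ B → B = A) (x : G) (hx : x ∈ Subgroup.centralizer (A : Set G)) (hxN : x ∈ N) (hxn : x ^ p ^ n = 1) : x ∈ A := by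
  have hp := (Fact.out : p.Prime)
  set m := p ^ n
  set C := Subgroup.centralizer (A : Set G) ⊓ N with hCdef
  by_contra hxA
  have hAC : A ≤ C := fun a ha => ⟨Subgroup.mem_centralizer_iff.mpr fun b hb =>
    congrArg Subtype.val (hA.is_comm.comm ⟨b, hb⟩ ⟨a, ha⟩), hAN ha⟩
  -- a minimal normal counterexample subgroup between `A` and `C`
  obtain ⟨D, -, hD⟩ := Finite.exists_le_minimal
    (p := fun K : Subgroup G => K.Normal ∧ A ≤ K ∧ K ≤ C ∧ ∃ y ∈ K, y ^ m = 1 ∧ y ∉ A) (a := C)
    ⟨inferInstance, hAC, le_rfl, x, ⟨hx, hxN⟩, hxn, hxA⟩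
  obtain ⟨hDn, hAD, hDC, x₀, hx₀, hx₀m, hx₀A⟩ := hD.prop
  haveI := hDn
  set D₁ := ⁅D, (⊤ : Subgroup G)⁆ ⊔ A
  haveI : ⁅D, (⊤ : Subgroup G)⁆.Normal := Subgroup.commutator_normal D ⊤
  have hD₁le : D₁ ≤ D := sup_le (Subgroup.commutator_le_left D ⊤) hAD
  have hD₁n : D₁.Normal := Subgroup.sup_normal _ _
  have hD₁ne : D₁ ≠ D := by
    intro he
    have key : ∀ k, D ≤ (⊤ : Subgroup G).lowerCentralSeries k ⊔ A := by
      intro k
      induction k with
      | zero => rw [Subgroup.lowerCentralSeries_zero]; exact le_top.trans le_sup_left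
      | succ k ih =>
        haveI : ((⊤ : Subgroup G).lowerCentralSeries k ⊔ A).Normal := Subgroup.sup_normal _ _
        calc D = D₁ := he.symm
          _ ≤ ⁅(⊤ : Subgroup G).lowerCentralSeries k ⊔ A, (⊤ : Subgroup G)⁆ ⊔ A :=
            sup_le_sup_right (Subgroup.commutator_mono ih le_rfl) _
          _ ≤ _ := by
            refine sup_le ?_ le_sup_right
            rw [Subgroup.lowerCentralSeries_succ]
            haveI : (⁅(⊤ : Subgroup G).lowerCentralSeries k, (⊤ : Subgroup G)⁆ ⊔ A).Normal :=
              Subgroup.sup_normal _ _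
            rw [Subgroup.commutator_le]
            intro a ha g _
            have h1 : (⊤ : Subgroup G).lowerCentralSeries k ⊔ A ≤
                (Subgroup.center (G ⧸ (⁅(⊤ : Subgroup G).lowerCentralSeries k, (⊤ : Subgroup G)⁆ ⊔ A))).comap
                  (QuotientGroup.mk' _) := by
              refine sup_le (fun b hb => ?_) (fun b hb => ?_) <;>
                rw [Subgroup.mem_comap, Subgroup.mem_center_iff] <;> intro q <;>
                obtain ⟨g', rfl⟩ := QuotientGroup.mk'_surjective _ q
              · refine (commutatorElement_eq_one_iff_mul_comm.mp ?_).symm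
                rw [← map_commutatorElement]
                exact (QuotientGroup.eq_one_iff _).mpr (Subgroup.mem_sup_left
                  (Subgroup.commutator_mem_commutator hb (Subgroup.mem_top g')))
              · have : QuotientGroup.mk' (⁅(⊤ : Subgroup G).lowerCentralSeries k, (⊤ : Subgroup G)⁆ ⊔ A)
                    b = 1 := (QuotientGroup.eq_one_iff _).mpr (Subgroup.mem_sup_right hb)
                rw [this, mul_one, one_mul]
            have h2 := Subgroup.mem_center_iff.mp (h1 ha) (QuotientGroup.mk' _ g)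
            rw [← QuotientGroup.eq_one_iff]
            change QuotientGroup.mk' _ ⁅a, g⁆ = 1
            rw [map_commutatorElement, commutatorElement_eq_one_iff_mul_comm]
            exact h2.symm
    haveI := hG.isNilpotent
    obtain ⟨k, hk⟩ := Subgroup.nilpotent_iff_lowerCentralSeries.mp (inferInstance : Group.IsNilpotent G)
    have := key k
    rw [hk, bot_sup_eq] at this
    exact hx₀A (this hx₀)
  have hsmall : ∀ w ∈ D₁, w ^ m = 1 → w ∈ A := by
    intro w hw hwm
    by_contra hwA
    exact hD₁ne (le_antisymm hD₁le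
      (hD.le_of_le ⟨hD₁n, le_sup_right, hD₁le.trans hDC, w, hw, hwm, hwA⟩ hD₁le))
  -- the key closure property
  have key : ∀ s ∈ D, ∀ t ∈ D, s ^ m = 1 → t ^ m = 1 → ⁅t, s⁆ ∈ A → s * t ∈ D₁ → s * t ∈ A := by
    intro s hs t ht hsm htm hz hw
    have hcen : ∀ a (ha : a ∈ A), (⟨a, hAC ha⟩ : C) ∈ Subgroup.center C := fun a ha =>
      Subgroup.mem_center_iff.mpr fun g => Subtype.ext (Subgroup.mem_centralizer_iff.mp g.2.1 a ha).symm
    set S : C := ⟨s, hDC hs⟩
    set T : C := ⟨t, hDC ht⟩
    have hzc : ⁅T, S⁆ ∈ Subgroup.center C := hcen _ hz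
    have hzm : ⁅T, S⁆ ^ m = 1 := Subtype.ext (hAe _ hz)
    have hSm : S ^ m = 1 := Subtype.ext hsm
    have hTm : T ^ m = 1 := Subtype.ext htm
    rcases hp.eq_two_or_odd' with hp2 | hodd
    · rcases Nat.lt_or_ge n 2 with hn2 | hn2
      · rcases (show n = 0 ∨ n = 1 by omega) with h0 | h0
        · have hs1 : s = 1 := by simpa [m, h0] using hsm
          have ht1 : t = 1 := by simpa [m, h0] using htm
          rw [hs1, ht1, one_mul]
          exact one_mem _
        · exact absurd (show m = 2 by simp [m, h0, hp2]) hn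
      obtain ⟨q, hq⟩ : 4 ∣ m :=
        ⟨2 ^ (n - 2), by rw [show m = 2 ^ n by simp [m, hp2], show 2 ^ n = 2 ^ 2 * 2 ^ (n - 2) by
          rw [← pow_add]; congr 1; omega]; rfl⟩
      have h1 : ((S * T) ^ 2) ^ m = 1 := by
        rw [← pow_mul, PGroup.mul_pow_of_commutatorElement hzc, mul_comm 2 m, pow_mul, pow_mul, hSm,
          hTm, Nat.choose_two_right, show m * 2 * (m * 2 - 1) / 2 = m * (m * 2 - 1) by
            rw [mul_comm m 2, mul_assoc, Nat.mul_div_cancel_left _ two_pos],
          pow_mul, hzm]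
        simp
      have h1' : ((s * t) ^ 2) ^ m = 1 := congrArg Subtype.val h1
      have h2 : (s * t) ^ 2 ∈ A := hsmall _ (pow_mem hw 2) h1'
      have h3 : ⁅T, S⁆ ^ 2 = 1 := by
        have h4 : ⁅S * T, S⁆ = ⁅T, S⁆ := by
          rw [PGroup.commutatorElement_mul_left hzc, commutatorElement_self, one_mul]
        rw [← h4, ← PGroup.commutatorElement_pow_left (h4 ▸ hzc),
          commutatorElement_eq_one_iff_mul_comm]
        exact (Subgroup.mem_center_iff.mp (hcen _ h2) S).symm
      have h5 : (S * T) ^ m = 1 := by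
        rw [PGroup.mul_pow_of_commutatorElement hzc, hSm, hTm, Nat.choose_two_right, hq,
          show 4 * q * (4 * q - 1) / 2 = 2 * (q * (4 * q - 1)) by
            rw [show 4 * q * (4 * q - 1) = 2 * (2 * (q * (4 * q - 1))) by ring,
              Nat.mul_div_cancel_left _ two_pos],
          pow_mul, h3, one_pow, one_mul, one_mul]
      exact hsmall _ hw (congrArg Subtype.val h5)
    · have h5 : (S * T) ^ m = 1 := by
        rw [PGroup.mul_pow_of_odd (hodd.pow) hzc hzm, hSm, hTm, one_mul]
      exact hsmall _ hw (congrArg Subtype.val h5)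
  have hDD : ⁅D, D⁆ ≤ D₁ := (Subgroup.commutator_mono le_rfl le_top).trans le_sup_left
  -- `D` is generated by its elements of order dividing `m`
  have hgen : D ≤ Subgroup.closure ((A : Set G) ∪ {y | y ∈ D ∧ y ^ m = 1}) := by
    set K := Subgroup.closure ((A : Set G) ∪ {y | y ∈ D ∧ y ^ m = 1})
    have hKn : K.Normal := by
      refine Subgroup.normalizer_eq_top_iff.mp (eq_top_iff.mpr ?_)
      rw [Subgroup.le_normalizer_closure_iff]
      rintro g - y (hy | hy)
      · exact Subgroup.subset_closure (Or.inl ((inferInstance : A.Normal).conj_mem y hy g))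
      · exact Subgroup.subset_closure
          (Or.inr ⟨hDn.conj_mem y hy.1 g, by rw [conj_pow, hy.2, mul_one, mul_inv_cancel]⟩)
    have hKD : K ≤ D := by
      rw [Subgroup.closure_le]
      rintro y (hy | hy)
      · exact hAD hy
      · exact hy.1
    exact hD.le_of_le ⟨hKn, fun a ha => Subgroup.subset_closure (Or.inl ha), hKD.trans hDC, x₀,
      Subgroup.subset_closure (Or.inr ⟨hx₀, hx₀m⟩), hx₀m, hx₀A⟩ hKD
  have hstep : ∀ i, D.lowerCentralSeries (i + 2) ≤ A → D.lowerCentralSeries (i + 1) ≤ A := by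
    intro i hi
    rw [Subgroup.lowerCentralSeries_succ, Subgroup.commutator_le]
    intro u hu v hv
    have huD : u ∈ D := Subgroup.lowerCentralSeries_le_self D i hu
    have hgoal : ∀ v ∈ Subgroup.closure ((A : Set G) ∪ {y | y ∈ D ∧ y ^ m = 1}), ⁅u, v⁆ ∈ A := by
      intro v hv
      induction hv using Subgroup.closure_induction with
      | mem s hs =>
        rcases hs with hs | ⟨hsD, hsm⟩
        · rw [commutatorElement_eq_one_iff_mul_comm.mpr
            (Subgroup.mem_centralizer_iff.mp (hDC huD).1 s hs).symm]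
          exact one_mem _
        · set t := u * s⁻¹ * u⁻¹
          have hc : ⁅s, u⁆ = s * t := by simp [t, commutatorElement_def, mul_assoc]
          have h1 : ⁅s, u⁆ ∈ D.lowerCentralSeries (i + 1) := by
            rw [← commutatorElement_inv, Subgroup.lowerCentralSeries_succ]
            exact inv_mem (Subgroup.commutator_mem_commutator hu hsD)
          have h2 : ⁅⁅s, u⁆, s⁆ ∈ A := hi (by
            rw [Subgroup.lowerCentralSeries_succ]
            exact Subgroup.commutator_mem_commutator h1 hsD)
          have h3 : ⁅t, s⁆ ∈ A := by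
            have : ⁅t, s⁆ = s⁻¹ * ⁅⁅s, u⁆, s⁆ * s⁻¹⁻¹ := by
              rw [hc]; simp [commutatorElement_def, mul_assoc]
            rw [this]
            exact (inferInstance : A.Normal).conj_mem _ h2 _
          have h4 := key s hsD t (mul_mem (mul_mem huD (inv_mem hsD)) (inv_mem huD)) hsm
            (by rw [conj_pow, inv_pow, hsm, inv_one, mul_one, mul_inv_cancel]) h3
            (hc ▸ hDD (Subgroup.commutator_mem_commutator hsD huD))
          rw [← commutatorElement_inv]
          exact inv_mem (hc ▸ h4)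
      | one => rw [commutatorElement_one_right]; exact one_mem _
      | mul a b _ _ ha hb =>
        have : ⁅u, a * b⁆ = ⁅u, a⁆ * (a * ⁅u, b⁆ * a⁻¹) := by simp [commutatorElement_def, mul_assoc]
        rw [this]
        exact mul_mem ha ((inferInstance : A.Normal).conj_mem _ hb a)
      | inv a _ ha =>
        have : ⁅u, a⁻¹⁆ = a⁻¹ * ⁅u, a⁆⁻¹ * a⁻¹⁻¹ := by simp [commutatorElement_def, mul_assoc]
        rw [this]
        exact (inferInstance : A.Normal).conj_mem _ (inv_mem ha) _
    exact hgoal v (hgen hv)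
  have hD' : D.lowerCentralSeries 1 ≤ A := by
    haveI := (hG.to_subgroup D).isNilpotent
    obtain ⟨k, hk⟩ := (Subgroup.isNilpotent_iff_lowerCentralSeries D).mp
      (inferInstance : Group.IsNilpotent D)
    have hk' : D.lowerCentralSeries (k + 1) ≤ A :=
      ((Subgroup.lowerCentralSeries_antitone D (Nat.le_succ k)).trans hk.le).trans bot_le
    clear hk
    induction k with
    | zero => exact hk'
    | succ k ih => exact ih (hstep k hk')
  -- now `⟨A, x₀⟩` is normal
  have hconj : ∀ g : G, g * x₀ * g⁻¹ * x₀⁻¹ ∈ A := by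
    intro g
    refine key _ (hDn.conj_mem x₀ hx₀ g) x₀⁻¹ (inv_mem hx₀)
      (by rw [conj_pow, hx₀m, mul_one, mul_inv_cancel]) (by rw [inv_pow, hx₀m, inv_one]) ?_ ?_
    · refine hD' ?_
      rw [Subgroup.lowerCentralSeries_succ, Subgroup.lowerCentralSeries_zero]
      exact Subgroup.commutator_mem_commutator (inv_mem hx₀) (hDn.conj_mem x₀ hx₀ g)
    · refine Subgroup.mem_sup_left ?_
      have h := Subgroup.commutator_mem_commutator hx₀ (Subgroup.mem_top g)
      simpa [commutatorElement_def, mul_assoc] using inv_mem h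
  set B := A ⊔ Subgroup.zpowers x₀
  have hBcomm : IsMulCommutative B := by
    have h1 : B ≤ Subgroup.centralizer (B : Set G) := by
      refine sup_le ?_ ?_
      · rw [Subgroup.le_centralizer_iff]
        exact sup_le (hAC.trans inf_le_left) (Subgroup.zpowers_le.mpr (hDC hx₀).1)
      · rw [Subgroup.le_centralizer_iff]
        refine sup_le ?_ ?_
        · rw [Subgroup.le_centralizer_iff, Subgroup.zpowers_le]
          exact (hDC hx₀).1
        · rw [Subgroup.zpowers_le, Subgroup.mem_centralizer_iff]
          rintro _ ⟨i, rfl⟩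
          exact (Commute.refl x₀).zpow_left i
    exact ⟨⟨fun a b => Subtype.ext (Subgroup.mem_centralizer_iff.mp (h1 b.2) a a.2)⟩⟩
  have hBn : B.Normal := by
    refine Subgroup.normalizer_eq_top_iff.mp (eq_top_iff.mpr ?_)
    rw [show B = Subgroup.closure ((A : Set G) ∪ {x₀}) by
      rw [Subgroup.closure_union, Subgroup.closure_eq, ← Subgroup.zpowers_eq_closure]]
    rw [Subgroup.le_normalizer_closure_iff]
    rintro g - y (hy | hy)
    · exact Subgroup.subset_closure (Or.inl ((inferInstance : A.Normal).conj_mem y hy g))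
    · obtain rfl := Set.mem_singleton_iff.mp hy
      have : g * y * g⁻¹ = (g * y * g⁻¹ * y⁻¹) * y := by group
      rw [this]
      exact mul_mem (Subgroup.subset_closure (Or.inl (hconj g)))
        (Subgroup.subset_closure (Or.inr rfl))
  have hBe : ∀ b ∈ B, b ^ m = 1 := by
    intro b hb
    rw [← SetLike.mem_coe, Subgroup.normal_mul] at hb
    obtain ⟨a, ha, c, hc, rfl⟩ := hb
    obtain ⟨i, rfl⟩ := hc
    have : Commute a (x₀ ^ i) := Commute.zpow_right (Subgroup.mem_centralizer_iff.mp (hDC hx₀).1 a ha) i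
    rw [this.mul_pow, hAe a ha, one_mul, ← zpow_natCast, ← zpow_mul, mul_comm, zpow_mul,
      zpow_natCast, hx₀m, one_zpow]
  exact hx₀A ((hmax B hBn (sup_le hAN (Subgroup.zpowers_le.mpr (hDC hx₀).2)) hBcomm hBe le_sup_left) ▸ Subgroup.mem_sup_right (Subgroup.mem_zpowers x₀))

end Cfsg.Agent.FusionAux
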