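import Cfsg.Agent.FusionAux.NPC
import Cfsg.Agent.FusionBatch.ThompsonCenter
import Cfsg.Agent.S2800

/-!
Thompson's normal `p`-complement theorem for fusion systems.
-/

set_option autoImplicit false

open Cfsg Cfsg.FusionSystem Cfsg.Agent.FusionSys Cfsg.Agent.FusionModel Cfsg.Agent.FusionAux
  Cfsg.Agent.FusionAux.NPC Cfsg.Agent.FusionBatch

namespace Cfsg.Agent.FusionAux.NPC

universe u w

theorem not_involves_infinite {G : Type u} [Group G] [Finite G] :
    ¬ Involves (Multiplicative ℤ) G := by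
  rintro ⟨K, R, hn, ⟨e⟩⟩
  have : Finite (Multiplicative ℤ) := Finite.of_equiv _ e.toEquiv
  exact not_finite (Multiplicative ℤ)

theorem jA_ne_bot {p : ℕ} [Fact p.Prime] (Q : Type u) [Group Q] [Finite Q] (hQ : IsPGroup p Q)
    (hQ1 : Nontrivial Q) : ThompsonCenter.jA Q ≠ ⊥ := by
  intro h
  have := hQ.center_nontrivial
  obtain ⟨z, hz⟩ := exists_ne (1 : Subgroup.center Q)
  exact hz (Subtype.ext (Subgroup.mem_bot.1
    ((ThompsonCenter.center_le_jA Q).trans h.le z.2)))

variable {Ω : Type u} [Group Ω] {S : Subgroup Ω} [Finite S] {p : ℕ} [Fact p.Prime]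

/-- Thompson's criterion. -/
theorem inner_of_thompson (hS : IsPGroup p S) {F : FusionSystem S} (hF : F.IsSaturated p)
    (hfree : p ≠ 2 ∨ LocallyFree (Equiv.Perm (Fin 4)) p F)
    (hyp : Hyp F (fun Q [Group Q] => ThompsonCenter.jA Q) True p) :
    F = innerFusionSystem S := by
  rcases hfree with hp | hfree
  · refine inner_of_hyp (H := Multiplicative ℤ) (c := True) (ThompsonCenter.jA_natural p)
      (fun Q _ _ h h' => jA_ne_bot Q h h') ?_ _ _ hS F hF ?_ hyp rfl rfl
    · intro L _ _ P _ hN hC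
      exact Cfsg.Agent.S2800.npc_aux P (Or.inl hp) (hC trivial) hN
    · exact locallyFree_of_sectionFree hS hF
        fun _ _ _ _ _ L _ _ hM => have := hM.1; not_involves_infinite
  · refine inner_of_hyp (H := Equiv.Perm (Fin 4)) (c := True) (ThompsonCenter.jA_natural p)
      (fun Q _ _ h h' => jA_ne_bot Q h h') ?_ _ _ hS F hF hfree hyp rfl rfl
    intro L _ _ P hni hN hC
    exact Cfsg.Agent.S2800.npc_aux P (Or.inr hni) (hC trivial) hN

/-- Over the trivial group everything is inner. -/
theorem inner_of_bot (hS : IsPGroup p S) {F : FusionSystem S} (hF : F.IsSaturated p) (h : S = ⊥) :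
    F = innerFusionSystem S := by
  refine inner_of_centric_radical hS hF fun R hR _ _ a => ⟨0, Subtype.ext (MulEquiv.ext fun x => ?_)⟩
  have : Subsingleton R := by
    refine ⟨fun u v => Subtype.ext ?_⟩
    exact (Subgroup.mem_bot.1 (h.le (hR.1 u.2))).trans (Subgroup.mem_bot.1 (h.le (hR.1 v.2))).symm
  exact Subsingleton.elim _ _

/-- Above the largest normal subgroup: inner, or constrained. -/
theorem inner_or_constrained (hS : IsPGroup p S) {F : FusionSystem S} (hF : F.IsSaturated p)
    (hfree : p ≠ 2 ∨ LocallyFree (Equiv.Perm (Fin 4)) p F)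
    (h : ∀ V, V ≤ S → S ≤ Subgroup.normalizer (V : Set Ω) → ¬ F.IsNormal V → NormP F p V) :
    F = innerFusionSystem S ∨ (F.core ≠ ⊥ ∧ F.IsCentric F.core) := by
  rcases eq_or_ne S ⊥ with hS1 | hS1
  · exact Or.inl (inner_of_bot hS hF hS1)
  have hcF := FusionAlperin.isNormal_core F
  have hBn := FusionAlperin.isNormal_le_normalizer hcF
  by_cases hB0 : F.core = ⊥
  · refine Or.inl (inner_of_thompson hS hF hfree (hyp_of_normP (ThompsonCenter.jA_natural p)
      (fun Q _ _ h h' => jA_ne_bot Q h h') hS hS1 fun U hU hU1 hUn => h U hU hUn fun hN => ?_))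
    exact hU1 (le_bot_iff.1 (hB0 ▸ le_sSup (s := {Q | F.IsNormal Q}) hN))
  set B := F.core with hB
  set C := B ⊔ centralizerIn S B with hC
  by_cases hCN : F.IsNormal C
  · have hCB : C ≤ B := le_sSup (s := {Q | F.IsNormal Q}) hCN
    exact Or.inr ⟨hB0, centric_of_fullyCentralized
      (saturated_fullyNormalized hS hF (FusionCrit.isFullyNormalized_of_normal F hcF.1 hBn)).1
      (le_sup_right.trans hCB)⟩
  have hCn : S ≤ Subgroup.normalizer (C : Set Ω) :=
    (le_inf hBn (le_normalizer_centralizerIn hBn)).trans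
      (Subgroup.normalizer_inf_normalizer_le_normalizer_sup _ _)
  have hsc := FusionAlperin.isNormal_stronglyClosed hcF
  have : (B.subgroupOf S).Normal := Subgroup.normal_subgroupOf_of_le_normalizer hBn
  set θ : S →* S ⧸ B.subgroupOf S := QuotientGroup.mk' _
  have hker : ∀ s : S, θ s = 1 ↔ (s : Ω) ∈ B := fun s =>
    (QuotientGroup.eq_one_iff s).trans Subgroup.mem_subgroupOf
  have hrange : θ.range = ⊤ := MonoidHom.range_eq_top.2 (QuotientGroup.mk'_surjective _)
  set F' := FusionAlperin.factorSystem F hsc θ hker hrange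
  have hfac := FusionAlperin.factorSystem_isFactorSystem F hsc θ hker hrange
  have hF' : F'.IsSaturated p := FusionAlperin.saturated_of_surjective hS hF
    (FusionAlperin.isSurjectiveMorphism_factor hS hF hsc hfac)
  have hS' : IsPGroup p (⊤ : Subgroup (S ⧸ B.subgroupOf S)) := (hS.to_quotient _).to_subgroup _
  have hS'1 : (⊤ : Subgroup (S ⧸ B.subgroupOf S)) ≠ ⊥ := by
    intro e
    have hBS : B = S := le_antisymm hcF.1 fun s hs =>
      (hker ⟨s, hs⟩).1 (Subgroup.mem_bot.1 (e ▸ Subgroup.mem_top _))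
    have : C = B := sup_eq_left.2 ((centralizerIn_le B).trans hBS.ge)
    exact hCN (this ▸ hcF)
  have hq := inner_of_thompson hS' hF'
    (hfree.imp_right fun hl => localData_quotient hS hF hl hker hfac)
    (hyp_factor (ThompsonCenter.jA_natural p) (fun Q _ _ h h' => jA_ne_bot Q h h') hS' hS'1 hfac
      fun V hV hVB hVn => h V hV hVn fun hN => hVB (le_sSup (s := {Q | F.IsNormal Q}) hN))
  refine Or.inl (inner_of_factor hS hF hcF hfac ?_
    (h C (sup_le hcF.1 (centralizerIn_le B)) hCn hCN))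
  show AutP F' p
  exact hq.symm ▸ autP_inner hS'

end Cfsg.Agent.FusionAux.NPC
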