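import Cfsg.Agent.FusionAux.Induction

/-!
A normality criterion for subgroups of the centre, and the action of automizers on the centre of
a subgroup.
-/
set_option autoImplicit false

open Cfsg Cfsg.FusionSystem Cfsg.Agent.FusionSys
open scoped IsMulCommutative

namespace Cfsg.Agent.FusionAux

variable {Ω : Type*} [Group Ω] {S : Subgroup Ω}

/-- A subgroup of `Z(S)` whose membership is preserved by all isomorphisms of a saturated system
is normal in the system. -/
theorem isNormal_of_le_center [Finite S] {p : ℕ} [Fact p.Prime] (hS : IsPGroup p S)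
    {F : FusionSystem S} (hF : F.IsSaturated p) {W : Subgroup Ω}
    (hW : W ≤ S ⊓ Subgroup.centralizer (S : Set Ω))
    (hinv : ∀ (P Q : Subgroup Ω) (e : P ≃* Q), IsIso F e → ∀ x : P, (x : Ω) ∈ W ↔ (e x : Ω) ∈ W) :
    F.IsNormal W := by
  have hWS : W ≤ S := hW.trans inf_le_left
  have hWC : ∀ R, R ≤ S → W ≤ centralizerIn S R := fun R hR =>
    le_inf hWS fun w hw x hx => (hW hw).2 x (hR hx)
  have hWfin : Finite W := finite_of_le ‹_› hWS
  refine ⟨hWS, fun P φ hφ => ?_⟩
  have hP := le_S F hφ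
  obtain ⟨Q, hconj, hQ⟩ := exists_fullyNormalized F (range_le_S F hφ)
  obtain ⟨b, hb⟩ := (isConj_iff_exists_iso F).1 hconj
  have ha : IsIso F ((toIso F hφ rfl).trans b) := (toIso_isIso F hφ rfl).trans hb
  have hrec := saturated_receptive_of_fullyNormalized hS hF hQ
  obtain ⟨f, hf, hfe, -, -⟩ := receptive_extend hrec (φ := Q.subtype.comp
    ((toIso F hφ rfl).trans b).toMonoidHom) ha (range_subtype_comp _)
  obtain ⟨g, hg, hge, -, -⟩ := receptive_extend hrec (φ := Q.subtype.comp b.toMonoidHom) hb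
    (range_subtype_comp _)
  have hWf := (hWC P hP).trans
    (centralizerIn_le_extender (Q.subtype.comp ((toIso F hφ rfl).trans b).toMonoidHom))
  have hWg := (hWC _ (range_le_S F hφ)).trans
    (centralizerIn_le_extender (Q.subtype.comp b.toMonoidHom))
  have hPf := le_extender (φ := Q.subtype.comp ((toIso F hφ rfl).trans b).toMonoidHom) hP
    fun x => map_mem_S F ha x
  have hRg := le_extender (φ := Q.subtype.comp b.toMonoidHom) (range_le_S F hφ)
    fun x => map_mem_S F hb x
  replace hfe : ∀ x : P, f ⟨x, hPf x.2⟩ = b (toIso F hφ rfl x) := hfe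
  replace hge : ∀ x : φ.range, g ⟨x, hRg x.2⟩ = b x := hge
  generalize extender S P (Q.subtype.comp ((toIso F hφ rfl).trans b).toMonoidHom) = Nf at *
  generalize extender S φ.range (Q.subtype.comp b.toMonoidHom) = Ng at *
  have onto : ∀ (N : Subgroup Ω) (u : N →* Ω), u ∈ F.Hom N → W ≤ N →
      (W.subgroupOf N).map u = W := by
    intro N u hu hWN
    have h1 : (W.subgroupOf N).map u ≤ W := by
      intro y hy
      obtain ⟨x, hx, rfl⟩ := (mem_map_subgroupOf u).1 hy
      exact (hinv _ _ _ (toIso_isIso F hu rfl) x).1 hx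
    refine eq_of_le_of_card_le h1 (le_of_eq ?_)
    rw [Subgroup.card_map_of_injective (F.injective_of_mem hu),
      Nat.card_congr (Subgroup.subgroupOfEquivOfLe hWN).toEquiv]
  have hsupf : P ⊔ W ≤ Nf := sup_le hPf hWf
  have hval : ∀ x : ↥(P ⊔ W), restr hsupf f x ∈ g.range := by
    intro x
    have key : P ⊔ W ≤ ((g.range).comap f).map Nf.subtype := by
      refine sup_le (fun a ha' => ⟨⟨a, hsupf (Subgroup.mem_sup_left ha')⟩, ?_, rfl⟩)
        (fun a ha' => ⟨⟨a, hWf ha'⟩, ?_, rfl⟩)
      · exact ⟨⟨φ ⟨a, ha'⟩, hRg ⟨_, rfl⟩⟩,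
          (hge ⟨φ ⟨a, ha'⟩, ⟨_, rfl⟩⟩).trans (hfe ⟨a, ha'⟩).symm⟩
      · obtain ⟨z, -, hz⟩ := (mem_map_subgroupOf g).1 ((le_of_eq (onto Ng g hg hWg).symm)
          ((le_of_eq (onto Nf f hf hWf)) (Subgroup.mem_map_of_mem f (x := ⟨a, hWf ha'⟩) ha')))
        exact ⟨z, hz⟩
    obtain ⟨z, hz, hzx⟩ := key x.2
    obtain rfl : z = Subgroup.inclusion hsupf x := Subtype.ext hzx
    exact hz
  let T := toIso F hg rfl
  have hmem : Ng.subtype.comp (T.symm.toMonoidHom.comp ((restr hsupf f).codRestrict g.range hval))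
      ∈ F.Hom (P ⊔ W) :=
    comp_mem' F (restr_mem F hsupf hf) (toIso_isIso F hg rfl).symm hval fun _ => rfl
  refine ⟨_, hmem, fun x => ?_, onto _ _ hmem le_sup_right⟩
  have hx : restr hsupf f (Subgroup.inclusion le_sup_left x) = T
      ⟨φ x, hRg ⟨_, rfl⟩⟩ :=
    (hfe x).trans (hge ⟨φ x, ⟨_, rfl⟩⟩).symm
  show ((T.symm ⟨_, hval _⟩ : Ng) : Ω) = φ x
  rw [show (⟨_, hval (Subgroup.inclusion le_sup_left x)⟩ : g.range) = T
      ⟨φ x, hRg ⟨_, rfl⟩⟩ from Subtype.ext hx,
    MulEquiv.symm_apply_apply]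

theorem center_apply_mem {Q : Type*} [Group Q] (α : MulAut Q) {z : Q}
    (hz : z ∈ Subgroup.center Q) : α z ∈ Subgroup.center Q := by
  rw [Subgroup.mem_center_iff] at hz ⊢
  intro y
  have := congrArg α (hz (α.symm y))
  simpa using this

/-- The action of the automorphisms of `Q` on `Z(Q)`, written additively. -/
def centerEnd (Q : Type*) [Group Q] :
    MulAut Q →* AddMonoid.End (Additive (Subgroup.center Q)) where
  toFun α :=
    { toFun := fun z => Additive.ofMul
        ⟨α (Additive.toMul z).1, center_apply_mem α (Additive.toMul z).2⟩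
      map_zero' := by
        apply congrArg Additive.ofMul; apply Subtype.ext; exact map_one α
      map_add' := fun a b => by
        apply congrArg Additive.ofMul; apply Subtype.ext; exact map_mul α _ _ }
  map_one' := by
    apply DFunLike.ext; intro z; rfl
  map_mul' a b := by
    apply DFunLike.ext; intro z; rfl

@[simp] theorem centerEnd_apply {Q : Type*} [Group Q] (α : MulAut Q)
    (z : Additive (Subgroup.center Q)) :
    ((Additive.toMul (centerEnd Q α z) : Subgroup.center Q) : Q) = α (Additive.toMul z).1 := rfl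

end Cfsg.Agent.FusionAux
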