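import Cfsg.Agent.Tech.ZJControl
import Cfsg.Agent.FusionAlperin.SeriesCriteria
import Cfsg.Agent.FusionSys.Centric
import Cfsg.Agent.FusionCrit.Centric
import Cfsg.Agent.S5076

/-!
Fusion systems of groups that are `p`-stable in the normalizer form, `p` odd: `Z(J)` of the Sylow
subgroup is normal, and the system is constrained.
-/

set_option autoImplicit false

open Cfsg Cfsg.FusionSystem Cfsg.Agent.FusionSys
open scoped commutatorElement

namespace Cfsg.Agent.FusionAux.PStableGroup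

universe u

variable {G : Type u} [Group G] [Finite G] {p : ℕ} [hp : Fact p.Prime]

open Subgroup in
/-- `Z(J(P))` is normal in the system. -/
theorem centerThompson_normal (hp2 : p ≠ 2) (hst : Cfsg.IsNormalizerPStable p G) (P : Sylow p G) :
    (groupFusionSystem (P : Subgroup G)).IsNormal (centerThompsonAOf (P : Subgroup G)) := by
  set U := centerThompsonAOf (P : Subgroup G) with hU
  have hUP : U ≤ (P : Subgroup G) := Modules.centerThompsonAOf_le _
  refine ⟨hUP, ?_⟩
  rintro D φ ⟨hD, hφP, g, hg⟩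
  obtain ⟨x, hx, hag⟩ := Tech.ZJCtrl.main hp2 G hst P D hD g (by
    rintro _ ⟨d, hd, rfl⟩
    show g * d * g⁻¹ ∈ (P : Subgroup G)
    rw [← hg ⟨d, hd⟩]
    exact hφP ⟨d, hd⟩)
  have hle : D ⊔ U ≤ (P : Subgroup G).comap (MulAut.conj x).toMonoidHom := by
    refine sup_le (fun d hd => ?_) fun u hu => hUP ((mem_normalizer_iff.1 hx u).1 hu)
    show x * d * x⁻¹ ∈ (P : Subgroup G)
    rw [← hag d hd, ← hg ⟨d, hd⟩]
    exact hφP _
  refine ⟨conjHom (D ⊔ U) x, ⟨sup_le hD hUP, fun y => hle y.2, x, fun y => rfl⟩,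
    fun y => (hag y y.2).symm.trans (hg y).symm, le_antisymm ?_ fun u hu => ?_⟩
  · rintro _ ⟨y, hy, rfl⟩
    exact (mem_normalizer_iff.1 hx _).1 hy
  · refine ⟨⟨x⁻¹ * u * x, mem_sup_right ?_⟩, ?_, ?_⟩
    · exact (mem_normalizer_iff.1 hx _).2 (by simpa [mul_assoc] using hu)
    · exact (mem_normalizer_iff.1 hx _).2 (by simpa [mul_assoc] using hu)
    · show x * (x⁻¹ * u * x) * x⁻¹ = u
      simp [mul_assoc]

theorem core_ne_bot (hp2 : p ≠ 2) (hst : Cfsg.IsNormalizerPStable p G) (P : Sylow p G)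
    (hP : (P : Subgroup G) ≠ ⊥) : (groupFusionSystem (P : Subgroup G)).core ≠ ⊥ := by
  intro h
  refine Modules.centerThompsonAOf_ne_bot (P := (P : Subgroup G)) P.2 hP (le_bot_iff.1 ?_)
  rw [← h]
  exact le_sSup (s := {Q | (groupFusionSystem (P : Subgroup G)).IsNormal Q})
    (centerThompson_normal hp2 hst P)

open Subgroup in
/-- The system is constrained. -/
theorem isConstrained (hp2 : p ≠ 2) (hst : Cfsg.IsNormalizerPStable p G) (P : Sylow p G) :
    (groupFusionSystem (P : Subgroup G)).IsConstrained p := by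
  set S := (P : Subgroup G) with hSdef
  set F := groupFusionSystem S with hFdef
  have hS : IsPGroup p S := P.2
  have hF : F.IsSaturated p := S5076.result p P
  set B := F.core with hBdef
  have hB : F.IsNormal B := FusionAlperin.isNormal_core F
  have hBn : S ≤ normalizer (B : Set G) := FusionAlperin.isNormal_le_normalizer hB
  -- the fusion is controlled by `N(B)`
  have hext : ∀ (D : Subgroup G) (g : G), D ≤ S → (∀ d ∈ D, g * d * g⁻¹ ∈ S) →
      ∃ g' ∈ normalizer (B : Set G), ∀ d ∈ D, g * d * g⁻¹ = g' * d * g'⁻¹ := by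
    intro D g hD hg
    obtain ⟨ψ, ⟨-, -, g', hg'⟩, hψe, hψB⟩ :=
      hB.2 D (conjHom D g) ⟨hD, fun x => hg x x.2, g, fun x => rfl⟩
    refine ⟨g', Stability.mem_normalizer_of_conj_mem ?_, fun d hd => ?_⟩
    · intro b hb
      have h := (mem_map_subgroupOf ψ).2 ⟨⟨b, mem_sup_right hb⟩, hb, rfl⟩
      rw [hψB, hg'] at h
      exact h
    · exact (hψe ⟨d, hd⟩).symm.trans (hg' _)
  set C := centralizer (B : Set G) with hCdef
  have hCN : ∀ n ∈ normalizer (B : Set G), ∀ c ∈ C, n * c * n⁻¹ ∈ C := by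
    intro n hn c hc
    refine mem_centralizer_iff.2 fun b hb => ?_
    have h := mem_centralizer_iff.1 hc (n⁻¹ * b * n)
      ((mem_normalizer_iff.1 hn _).2 (by simpa [mul_assoc] using hb))
    calc b * (n * c * n⁻¹) = n * (n⁻¹ * b * n * c) * n⁻¹ := by simp [mul_assoc]
      _ = _ := by rw [h]; simp [mul_assoc]
  set T := S ⊓ C with hTdef
  have hTp : IsPGroup p T := hS.to_le inf_le_left
  -- `T` is a Sylow subgroup of `C`
  obtain ⟨Q, hQ⟩ := (hTp.comap_of_injective C.subtype C.subtype_injective).exists_le_sylow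
  have hidx : ¬ p ∣ T.relIndex C := by
    set Q1 := (Q : Subgroup C).map C.subtype
    have hQ1C : Q1 ≤ C := map_subtype_le _
    have hQ1p : IsPGroup p Q1 := Q.2.map _
    have hQB : Q1 ≤ normalizer (B : Set G) := hQ1C.trans (centralizer_le_normalizer _)
    obtain ⟨Q2, hQ2⟩ :=
      (hQ1p.to_sup_of_normal_right' (hS.to_le hB.1) hQB).exists_le_sylow
    obtain ⟨g, hg⟩ := MulAction.exists_smul_eq G Q2 P
    have hgS : ∀ x ∈ Q1 ⊔ B, g * x * g⁻¹ ∈ S := by
      intro x hx
      rw [hSdef, ← hg]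
      exact ⟨x, hQ2 hx, rfl⟩
    obtain ⟨g', hg', hag⟩ := hext B g hB.1 fun b hb => hgS b (mem_sup_right hb)
    have hgN : g ∈ normalizer (B : Set G) := Stability.mem_normalizer_of_conj_mem
      fun b hb => (hag b hb) ▸ (mem_normalizer_iff.1 hg' b).1 hb
    have hle : Q1.map (MulAut.conj g).toMonoidHom ≤ T := by
      rintro _ ⟨x, hx, rfl⟩
      exact ⟨hgS x (mem_sup_left hx), hCN g hgN x (hQ1C hx)⟩
    have hcard : Nat.card (Q : Subgroup C) ≤ Nat.card (T.subgroupOf C) := by
      rw [Nat.card_congr ((Q : Subgroup C).equivMapOfInjective C.subtype C.subtype_injective).toEquiv,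
        Nat.card_congr (subgroupOfEquivOfLe (inf_le_right : T ≤ C)).toEquiv]
      refine le_trans ?_ (card_le_of_le hle)
      exact (card_map_of_injective (K := Q1) (MulAut.conj g).injective).ge
    have heq : T.subgroupOf C = Q := eq_of_le_of_card_le hQ hcard
    show ¬ p ∣ (T.subgroupOf C).index
    rw [heq]
    exact Q.not_dvd_index
  -- the central quotient of `C`
  set Z0 := B ⊓ C with hZ0def
  have hZ0T : Z0 ≤ T := le_inf (inf_le_left.trans hB.1) inf_le_right
  set Z := Z0.subgroupOf C with hZdef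
  have hZc : Z ≤ center C := fun z hz => mem_center_iff.2 fun c =>
    Subtype.ext ((mem_centralizer_iff.1 c.2 z hz.1).symm)
  haveI : Z.Normal := ⟨fun z hz c => by rwa [mem_center_iff.1 (hZc hz) c, mul_inv_cancel_right]⟩
  have hstC : Cfsg.IsNormalizerPStable p (C ⧸ Z) := Tech.NSQuot.nStable_quotient_central hp2
    (S3836.result hst C) ((hTp.to_le hZ0T).comap_of_injective C.subtype C.subtype_injective) hZc
  set π := QuotientGroup.mk' Z with hπdef
  have hπs : Function.Surjective π := QuotientGroup.mk'_surjective Z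
  set T' : Sylow p C := (hTp.comap_of_injective C.subtype C.subtype_injective).toSylow hidx with hT'
  set TS := T'.mapSurjective hπs with hTS'
  have hTS : (TS : Subgroup (C ⧸ Z)) = (T.subgroupOf C).map π := Sylow.coe_mapSurjective hπs T'
  set W := centerThompsonAOf (TS : Subgroup (C ⧸ Z)) with hWdef
  have hctrl := Tech.ZJCtrl.main hp2 (C ⧸ Z) hstC TS
  have hker : π.ker ≤ T.subgroupOf C := by
    rw [hπdef, QuotientGroup.ker_mk']
    exact fun z hz => hZ0T hz
  set U := (W.comap π).map C.subtype with hUdef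
  have hUC : U ≤ C := map_subtype_le _
  have hUT : U ≤ T := by
    rintro _ ⟨u, hu, rfl⟩
    have h : π u ∈ (T.subgroupOf C).map π := hTS ▸ Modules.centerThompsonAOf_le _ hu
    rw [← mem_comap, comap_map_eq_self hker] at h
    exact h
  have hZU : Z0 ≤ U := fun z hz => ⟨⟨z, hz.2⟩, by
    show π ⟨z, hz.2⟩ ∈ W
    rw [show π ⟨z, hz.2⟩ = 1 from (QuotientGroup.eq_one_iff (⟨z, hz.2⟩ : C)).2 hz]
    exact one_mem W, rfl⟩
  -- `N(B) ∩ N(T)` normalizes `U`
  have hnU : ∀ n ∈ normalizer (B : Set G), n ∈ normalizer (T : Set G) → ∀ u ∈ U,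
      n * u * n⁻¹ ∈ U := by
    intro n hn hnT
    rintro _ ⟨u, hu, rfl⟩
    let ν : C →* C :=
      { toFun := fun c => ⟨n * c * n⁻¹, hCN n hn c c.2⟩
        map_one' := Subtype.ext (by simp)
        map_mul' := fun a b => Subtype.ext (by simp [mul_assoc]) }
    have hνZ : Z ≤ Z.comap ν := fun z hz =>
      ⟨(mem_normalizer_iff.1 hn _).1 hz.1, hCN n hn z z.2⟩
    set ν' := QuotientGroup.map Z Z ν hνZ with hν'
    have hνi : Function.Injective ν' := by
      rw [injective_iff_map_eq_one]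
      intro q hq
      obtain ⟨c, rfl⟩ := hπs q
      refine (QuotientGroup.eq_one_iff c).2 ⟨(mem_normalizer_iff.1 hn _).2 ?_, c.2⟩
      exact ((QuotientGroup.eq_one_iff (ν c)).1 hq).1
    have hTν : (T.subgroupOf C).map ν = T.subgroupOf C := by
      refine le_antisymm ?_ fun t ht => ?_
      · rintro _ ⟨t, ht, rfl⟩
        exact (mem_normalizer_iff.1 hnT _).1 ht
      · have h := (mem_normalizer_iff.1 hnT (n⁻¹ * t * n)).2 (by simpa [mul_assoc] using mem_subgroupOf.1 ht)
        exact ⟨⟨n⁻¹ * t * n, h.2⟩, h, Subtype.ext (by simp [ν, mul_assoc])⟩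
    have hW : W.map ν' = W := by
      rw [hWdef, Modules.map_centerThompsonAOf hνi, hTS, map_map,
        show ν'.comp π = π.comp ν from MonoidHom.ext fun c => rfl, ← map_map, hTν]
    exact ⟨ν u, mem_comap.2 (hW.le ⟨π u, hu, rfl⟩), rfl⟩
  have hscZ : F.StronglyClosed Z0 := by
    refine ⟨hZ0T.trans inf_le_left, ?_⟩
    rintro R hR φ ⟨hRS, hφS, g, hg⟩ x
    obtain ⟨g', hg', hag⟩ := hext R g hRS fun d hd => (hg ⟨d, hd⟩) ▸ hφS _
    rw [hg x, hag x x.2]
    exact ⟨(mem_normalizer_iff.1 hg' _).1 (hR x.2).1, hCN g' hg' _ (hR x.2).2⟩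
  have hscU : F.StronglyClosed U := by
    refine ⟨hUT.trans inf_le_left, ?_⟩
    rintro R hR φ ⟨hRS, hφS, g, hg⟩ x
    obtain ⟨g', hg', hag⟩ := hext R g hRS fun d hd => (hg ⟨d, hd⟩) ▸ hφS _
    have hxU := hR x.2
    have hval : φ x = g' * x * g'⁻¹ := (hg x).trans (hag x x.2)
    have hφT : φ x ∈ T := ⟨hφS x, hval ▸ hCN g' hg' _ (hUC hxU)⟩
    -- Frattini argument
    have hT1 : T.map (MulAut.conj g').toMonoidHom ≤ C := by
      rintro _ ⟨t, ht, rfl⟩
      exact hCN g' hg' t ht.2
    obtain ⟨c0, hc0, hc0T⟩ := Fusion.exists_conj_of_relIndex (p := p) (hTp.map _) hTp hT1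
      inf_le_right (by
        have hCmap : C.map (MulAut.conj g').toMonoidHom = C := by
          refine le_antisymm ?_ fun c hc => ?_
          · rintro _ ⟨c, hc, rfl⟩
            exact hCN g' hg' c hc
          · exact ⟨g'⁻¹ * c * g', by simpa using hCN g'⁻¹ (inv_mem hg') c hc, by simp [mul_assoc]⟩
        have h := relIndex_map_map_of_injective T C (f := (MulAut.conj g').toMonoidHom)
          (MulAut.conj g').injective
        rw [hCmap] at h
        rwa [h]) hidx
    have hc0N : c0 ∈ normalizer (B : Set G) := centralizer_le_normalizer _ hc0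
    have hnT : c0 * g' ∈ normalizer (T : Set G) := by
      refine Stability.mem_normalizer_of_conj_mem fun t ht => ?_
      rw [← hc0T]
      exact ⟨_, ⟨t, ht, rfl⟩, by simp [mul_assoc]⟩
    obtain ⟨u', hu', hu'e⟩ := hnU _ (mul_mem hc0N hg') hnT x hxU
    have hu'T : π u' ∈ (TS : Subgroup (C ⧸ Z)) := Modules.centerThompsonAOf_le _ hu'
    set c : C := ⟨c0⁻¹, inv_mem hc0⟩ with hc
    have hval' : ((c * u' * c⁻¹ : C) : G) = φ x := by
      rw [hval]
      show c0⁻¹ * (u' : G) * (c0⁻¹)⁻¹ = _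
      rw [show (u' : G) = c0 * g' * x * (c0 * g')⁻¹ from hu'e]
      simp [mul_assoc]
    obtain ⟨w, hw, hwag⟩ := hctrl (zpowers (π u')) (zpowers_le.2 hu'T) (π c) (by
      rw [Fusion.cj, MonoidHom.map_zpowers, zpowers_le]
      show π c * π u' * (π c)⁻¹ ∈ _
      rw [← map_inv, ← map_mul, ← map_mul, hTS]
      exact mem_map_of_mem π (show (c * u' * c⁻¹ : C) ∈ T.subgroupOf C from
        mem_subgroupOf.2 (hval' ▸ hφT)))
    refine ⟨c * u' * c⁻¹, ?_, hval'⟩
    show π (c * u' * c⁻¹) ∈ W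
    rw [map_mul, map_mul, map_inv, hwag _ (mem_zpowers _)]
    exact (mem_normalizer_iff.1 hw _).1 hu'
  have hUn : F.IsNormal U := by
    refine FusionAlperin.isNormal_of_series hS hF (n := 2) (Qs := ![⊥, Z0, U]) rfl rfl ?_ ?_ ?_
    · refine Fin.monotone_iff_le_succ.2 fun i => ?_
      fin_cases i
      · exact bot_le
      · exact hZU
    · intro i
      fin_cases i
      · exact hscZ
      · exact hscU
    · intro i
      fin_cases i
      · show ⁅U, Z0⁆ ≤ ⊥
        rw [commutator_le]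
        intro u hu z hz
        rw [mem_bot, commutatorElement_eq_one_iff_mul_comm]
        exact (mem_centralizer_iff.1 (hUC hu) z hz.1).symm
      · show ⁅U, U⁆ ≤ Z0
        rw [commutator_le]
        rintro _ ⟨u, hu, rfl⟩ _ ⟨v, hv, rfl⟩
        have h : (⁅u, v⁆ : C) ∈ Z := by
          rw [← QuotientGroup.ker_mk' Z, MonoidHom.mem_ker, map_commutatorElement,
            commutatorElement_eq_one_iff_mul_comm]
          exact Modules.comm_iff.1 (Modules.centerThompsonAOf_comm _) _ hu _ hv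
        exact (map_commutatorElement C.subtype u v) ▸ h
  have hUB : U ≤ B := le_sSup (s := {Q | F.IsNormal Q}) hUn
  have hWbot : W = ⊥ := by
    refine eq_bot_iff.2 fun q hq => mem_bot.2 ?_
    obtain ⟨c, rfl⟩ := hπs q
    exact (QuotientGroup.eq_one_iff c).2 (mem_subgroupOf.2
      ⟨hUB ⟨c, hq, rfl⟩, c.2⟩)
  have hTSbot : (TS : Subgroup (C ⧸ Z)) = ⊥ := by
    by_contra h
    exact Modules.centerThompsonAOf_ne_bot TS.2 h hWbot
  have hTB : centralizerIn S B ≤ B := by
    intro t ht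
    have h : π ⟨t, ht.2⟩ = 1 := by
      rw [← mem_bot, ← hTSbot, hTS]
      exact mem_map_of_mem π (mem_subgroupOf.2 ⟨ht.1, ht.2⟩)
    exact ((QuotientGroup.eq_one_iff _).1 h).1
  exact ⟨hF, B, hB, centric_of_fullyCentralized (saturated_fullyNormalized hS hF
    (FusionCrit.isFullyNormalized_of_normal F hB.1 hBn)).1 hTB⟩

end Cfsg.Agent.FusionAux.PStableGroup
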