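import Cfsg.Agent.FusionAux.NoOffender

/-!
The quadratic bound in groups without section `S₃`: if an elementary abelian 2-subgroup `A` acts
quadratically on `M`, is normalized by a maximal subgroup `Mx` which is the only one containing it
(and the only conjugate of itself containing `A`), and `G` has no fixed points, then
`|A|² |C_M(A)| ≤ |M|`.

Proof: otherwise `A` and a conjugate `gA` split a natural-type module `U × gU` with `|U| < |A|²`.
A pigeonhole gives `h = b₁ c b₂ ∈ Mx` with `b₁, b₂ ∈ gA` and `c ∈ A`; the conjugates of `c` under `h`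
then contain an element forming a pair of transpositions with `b₁` on a four-group.
-/

set_option autoImplicit false
set_option linter.unusedSectionVars false
set_option linter.style.haveILetI false

namespace Cfsg.Agent.FusionAux.QuadBound

open Subgroup
open Cfsg.Agent.Fusion (cj mem_cj conj_mem_cj cj_cj card_cj cj_eq_of_mem)
open Cfsg.Agent.CF (fixSub apply_mul Nz)
open NoOffender (delta delta_apply apply_eq_delta_mul fixSub_cj fixSub_anti stab mem_stab
  inv_apply_apply apply_inv_apply involves_three)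

universe u

variable {G : Type u} [Group G] [Finite G] {M : Type u} [CommGroup M] [Finite M]

theorem delta_conj (φ : G →* MulAut M) (h e : G) (m : M) :
    delta φ (h * e * h⁻¹) m = φ h (delta φ e (φ h⁻¹ m)) := by
  rw [delta_apply, delta_apply, map_mul (φ h), map_inv (φ h), apply_mul, apply_mul,
    apply_inv_apply]

theorem delta_mul (φ : G →* MulAut M) (a b : G) (m : M) :
    delta φ (a * b) m = φ a (delta φ b m) * delta φ a m := by
  rw [delta_apply, delta_apply, delta_apply, map_mul (φ a), map_inv (φ a), apply_mul, mul_assoc,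
    inv_mul_cancel_left]

/-- The hypotheses on the quadratic subgroup and its maximal overgroup. -/
structure Hyp (φ : G →* MulAut M) (A Mx : Subgroup G) : Prop where
  exp : ∀ m : M, m * m = 1
  nontriv : ∃ m : M, m ≠ 1
  fix : fixSub φ (⊤ : Subgroup G) = ⊥
  sq : ∀ a ∈ A, a * a = 1
  quad : ∀ a ∈ A, ∀ m, delta φ a m ∈ fixSub φ A
  le : A ≤ Mx
  ne : Mx ≠ ⊤
  nor : Mx ≤ Nz A
  max : ∀ K : Subgroup G, K ≠ ⊤ → A ≤ K → K ≤ Mx
  uniq : ∀ g : G, cj g A ≤ Mx → g ∈ Mx
  core : ∀ a ∈ A, (∀ g : G, g * a * g⁻¹ ∈ Mx) → a = 1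

theorem quad_bound {φ : G →* MulAut M} {A Mx : Subgroup G} (H : Hyp φ A Mx)
    (hS3 : ¬ Cfsg.Involves (Equiv.Perm (Fin 3)) G) :
    Nat.card A ^ 2 * Nat.card (fixSub φ A) ≤ Nat.card M := by
  classical
  by_contra hcon
  rw [not_le] at hcon
  have hM := H.exp
  have hinv : ∀ m : M, m⁻¹ = m := fun m => inv_eq_of_mul_eq_one_right (hM m)
  have hcomm : ∀ {a b : G}, a ∈ A → b ∈ A → a * b = b * a := fun ha hb =>
    NoOffender.commute_of_sq H.sq ha hb
  set U := fixSub φ A with hU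
  obtain ⟨g, hg⟩ : ∃ g, g ∉ Mx := by
    by_contra h
    push Not at h
    exact H.ne (eq_top_iff.2 fun x _ => h x)
  have hgen : ∀ k, k ∉ Mx → A ⊔ cj k A = ⊤ := fun k hk => by
    by_contra hne
    exact hk (H.uniq k (le_sup_right.trans (H.max _ hne le_sup_left)))
  -- centralizers of fixed points
  have hstab : ∀ (k : G) (z : M), z ∈ U → z ≠ 1 → ∀ x, φ x (φ k z) = φ k z →
      k⁻¹ * x * k ∈ Mx := by
    intro k z hz hz1 x hx
    refine H.max (stab φ z) (fun h => hz1 ?_) (fun a ha => hz a ha) ?_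
    · exact Subgroup.mem_bot.1 (H.fix.le fun y _ => (h.ge (Subgroup.mem_top y) : y ∈ stab φ z))
    · show φ (k⁻¹ * x * k) z = z
      rw [apply_mul, apply_mul, hx, inv_apply_apply]
  have hdisj : ∀ k, k ∉ Mx → ∀ z, z ∈ U → φ k z ∈ U → z = 1 := by
    intro k hk z hz hkz
    have h : A ⊔ cj k A ≤ stab φ (φ k z) := sup_le (fun a ha => hkz a ha) fun x hx => by
      show φ x (φ k z) = φ k z
      have : φ k z ∈ fixSub φ (cj k A) := by rw [fixSub_cj]; exact ⟨z, hz, rfl⟩
      exact this x hx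
    rw [hgen k hk] at h
    exact (φ k).injective ((Subgroup.mem_bot.1 (H.fix.le fun y _ => h (Subgroup.mem_top y))).trans
      (map_one _).symm)
  set P : G → Subgroup M := fun k => U ⊔ U.map (φ k).toMonoidHom with hP
  have hquad' : ∀ k : G, ∀ x ∈ cj k A, ∀ m, delta φ x m ∈ U.map (φ k).toMonoidHom := by
    rintro k _ ⟨a, ha, rfl⟩ m
    exact ⟨delta φ a (φ k⁻¹ m), H.quad a ha _, (delta_conj φ k a m).symm⟩
  have hPinv : ∀ k, k ∉ Mx → ∀ x, ∀ v ∈ P k, φ x v ∈ P k := by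
    intro k hk
    have hkA : ∀ x ∈ A ⊔ cj k A, ∀ v ∈ P k, φ x v ∈ P k := by
      let D : Submonoid G :=
        { carrier := {x | ∀ v ∈ P k, φ x v ∈ P k}
          one_mem' := fun v hv => by rw [map_one]; exact hv
          mul_mem' := fun hx hy v hv => by rw [apply_mul]; exact hx _ (hy v hv) }
      suffices (A ⊔ cj k A).toSubmonoid ≤ D from fun x hx => this hx
      rw [Subgroup.sup_eq_closure, Subgroup.closure_toSubmonoid_of_finite, Submonoid.closure_le]
      rintro x (hx | hx) v hv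
      · rw [apply_eq_delta_mul φ x v]
        exact (P k).mul_mem (Subgroup.mem_sup_left (H.quad x hx v)) hv
      · rw [apply_eq_delta_mul φ x v]
        exact (P k).mul_mem (Subgroup.mem_sup_right (hquad' k x hx v)) hv
    exact fun x => hkA x ((hgen k hk).ge (Subgroup.mem_top x))
  have hPcard : ∀ k, k ∉ Mx → Nat.card (P k) = Nat.card U * Nat.card U := by
    intro k hk
    set U' := U.map (φ k).toMonoidHom with hU'
    have hd : U ⊓ U' = ⊥ := by
      refine eq_bot_iff.2 fun v hv => ?_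
      obtain ⟨hv, z, hz, rfl⟩ := hv
      rw [Subgroup.mem_bot, hdisj k hk z hz hv]
      exact map_one _
    have e1 := Subgroup.relIndex_mul_relIndex ⊥ U' (U ⊔ U') bot_le le_sup_right
    have e2 := Subgroup.relIndex_mul_relIndex ⊥ (U ⊓ U') U bot_le inf_le_left
    rw [Subgroup.relIndex_bot_left, Subgroup.relIndex_bot_left, Subgroup.relIndex_sup_right] at e1
    rw [Subgroup.relIndex_bot_left, Subgroup.relIndex_bot_left, Subgroup.inf_relIndex_left, hd,
      Subgroup.card_bot, one_mul] at e2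
    show Nat.card (U ⊔ U' : Subgroup M) = _
    rw [← e1, e2, hU', Subgroup.card_map_of_injective (φ k).injective]
  have hPeq : ∀ k k', k ∉ Mx → k' ∉ Mx → P k' = P k := by
    intro k k' hk hk'
    refine Subgroup.eq_of_le_of_card_ge (sup_le le_sup_left ?_)
      (by rw [hPcard k hk, hPcard k' hk'])
    rintro _ ⟨v, hv, rfl⟩
    exact hPinv k hk k' v (Subgroup.mem_sup_left hv)
  have hfree : ∀ v ∈ P g, v ∉ U → ∀ a ∈ A, φ a v = v → a = 1 := by
    intro v hv hvU a ha hav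
    refine H.core a ha fun k => ?_
    by_cases hk : k ∈ Mx
    · exact Mx.mul_mem (Mx.mul_mem hk (H.le ha)) (Mx.inv_mem hk)
    have hk' : k⁻¹ ∉ Mx := fun h => hk (inv_mem_iff.1 h)
    obtain ⟨x, hx, _, ⟨z, hz, rfl⟩, hxy⟩ := Subgroup.mem_sup.1 ((hPeq g k⁻¹ hg hk').ge hv)
    have hz1 : z ≠ 1 := fun h => hvU (by
      rw [← hxy, h, map_one, mul_one]; exact hx)
    have hfix : φ a (φ k⁻¹ z) = φ k⁻¹ z := by
      have h := hav
      rw [← hxy, map_mul, hx a ha] at h
      exact mul_left_cancel h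
    simpa using hstab k⁻¹ z hz hz1 a hfix
  have hg' : g⁻¹ ∉ Mx := fun h => hg (inv_mem_iff.1 h)
  -- the conjugate `gA`
  set gU := U.map (φ g).toMonoidHom with hgU
  have hgUP : ∀ v ∈ gU, v ∈ P g := fun v hv => Subgroup.mem_sup_right hv
  have hUgU : ∀ v, v ∈ U → v ∈ gU → v = 1 := by
    rintro _ hv ⟨z, hz, rfl⟩
    rw [hdisj g hg z hz hv]
    exact map_one _
  have hBfix : ∀ b ∈ cj g A, ∀ v ∈ gU, φ b v = v := by
    intro b hb v hv
    have : v ∈ fixSub φ (cj g A) := by rw [fixSub_cj]; exact hv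
    exact this b hb
  have hBfree : ∀ b ∈ cj g A, ∀ x ∈ U, x ≠ 1 → φ b x = x → b = 1 := by
    rintro _ ⟨a, ha, rfl⟩ x hx hx1 hbx
    have hmem : φ g⁻¹ x ∈ P g := hPinv g hg g⁻¹ x (Subgroup.mem_sup_left hx)
    have hnU : φ g⁻¹ x ∉ U := fun h => hx1 (hdisj g⁻¹ hg' x hx h)
    have h1 : a = 1 := hfree _ hmem hnU a ha (by
      have h := congrArg (φ g⁻¹) hbx
      rw [← apply_mul] at h
      rwa [show g⁻¹ * (MulAut.conj g).toMonoidHom a = a * g⁻¹ by
        show g⁻¹ * (g * a * g⁻¹) = _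
        group, apply_mul] at h)
    rw [h1, map_one]
  -- a fixed vector of `gU`
  obtain ⟨u₀, hu₀, hu₀1⟩ : ∃ u ∈ U, u ≠ 1 := by
    obtain ⟨m₀, hm₀⟩ := H.nontriv
    exact NoOffender.exists_fixed_two φ (NoOffender.isPGroup_of_sq H.sq) hM hm₀
  set w := φ g u₀ with hw
  have hwg : w ∈ gU := ⟨u₀, hu₀, rfl⟩
  have hw1 : w ≠ 1 := fun h => hu₀1 ((φ g).injective (h.trans (map_one _).symm))
  have hwU : w ∉ U := fun h => hw1 (hUgU w h hwg)
  -- every nontrivial element of `gA` maps `U` onto `gU`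
  have honto : ∀ b ∈ cj g A, b ≠ 1 → ∀ v ∈ gU, ∃ x ∈ U, delta φ b x = v := by
    intro b hb hb1 v hv
    let f : U → gU := fun x => ⟨delta φ b x, hquad' g b hb x⟩
    have hf : Function.Injective f := fun x y hxy => by
      have h1 : delta φ b ((x : M) * (y : M)) = 1 := by
        rw [map_mul, show delta φ b (x : M) = delta φ b (y : M) from congrArg Subtype.val hxy, hM]
      by_contra hne
      refine hb1 (hBfree b hb _ (U.mul_mem x.2 y.2) (fun he => hne (Subtype.ext ?_))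
        (mul_inv_eq_one.1 h1))
      rw [← hinv (y : M)]
      exact mul_eq_one_iff_eq_inv.1 he
    have hs := ((Nat.bijective_iff_injective_and_card f).2 ⟨hf,
      (Subgroup.card_map_of_injective (φ g).injective).symm⟩).2
    obtain ⟨x, hx⟩ := hs ⟨v, hv⟩
    exact ⟨x, x.2, congrArg Subtype.val hx⟩
  -- the pigeonhole
  let δw : A →* U :=
    { toFun := fun a => ⟨delta φ a w, H.quad a a.2 w⟩
      map_one' := Subtype.ext (by
        show delta φ ((1 : A) : G) w = 1
        rw [delta_apply, OneMemClass.coe_one, map_one]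
        exact mul_inv_cancel w)
      map_mul' := fun a b => Subtype.ext (by
        show delta φ ((a : G) * b) w = delta φ (a : G) w * delta φ (b : G) w
        rw [delta_mul, H.quad (b : G) b.2 w (a : G) a.2, mul_comm]) }
  have hδinj : Function.Injective δw := by
    refine (MonoidHom.ker_eq_bot_iff δw).1 (eq_bot_iff.2 fun a ha => ?_)
    have h1 : delta φ (a : G) w = 1 := congrArg Subtype.val (MonoidHom.mem_ker.1 ha)
    exact Subgroup.mem_bot.2 (Subtype.ext (hfree w (hgUP w hwg) hwU a a.2 (mul_inv_eq_one.1 h1)))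
  set Y := δw.range with hY
  have hYcard : Nat.card Y = Nat.card A :=
    (Nat.card_congr (MonoidHom.ofInjective hδinj).toEquiv).symm
  have hu_lt : Nat.card (U ⧸ Y) < Nat.card A := by
    have h1 : Nat.card (P g) ≤ Nat.card M := (P g).card_le_card_group
    rw [hPcard g hg] at h1
    have h2 : Nat.card U = Nat.card (U ⧸ Y) * Nat.card A := by
      rw [← hYcard]; exact Subgroup.card_eq_card_quotient_mul_card_subgroup Y
    have h3 : Nat.card U * Nat.card U < Nat.card A ^ 2 * Nat.card U := h1.trans_lt hcon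
    have h4 := Nat.lt_of_mul_lt_mul_right h3
    rw [h2, sq] at h4
    exact Nat.lt_of_mul_lt_mul_right h4
  have hsol : ∀ a : A, a ≠ 1 → ∃ x : U, delta φ (g * (a : G) * g⁻¹) (x : M) = w := by
    intro a ha
    obtain ⟨x, hx, he⟩ := honto _ (conj_mem_cj.2 a.2) (fun h => ha (Subtype.ext (by
      simpa using h))) w hwg
    exact ⟨⟨x, hx⟩, he⟩
  choose sol hsol' using hsol
  let F : A → U ⧸ Y := fun a => if ha : a = 1 then 1 else (sol a ha : U ⧸ Y)
  have hnotinj : ¬ Function.Injective F := fun hF =>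
    (Nat.card_le_card_of_injective F hF).not_gt hu_lt
  obtain ⟨a₁, a₂, hF, hne⟩ := Function.not_injective_iff.1 hnotinj
  -- a vector moved to `x * c-part`
  have hzero : ∀ a : A, (ha : a ≠ 1) → (sol a ha : U ⧸ Y) ≠ 1 := by
    intro a ha he
    obtain ⟨c, hc⟩ := (QuotientGroup.eq_one_iff _).1 he
    have hx1 : (sol a ha : M) ≠ 1 := fun h => hw1 (by
      rw [← hsol' a ha, h, map_one])
    have hca : φ (c : G) w = (sol a ha : M) * w := by
      rw [apply_eq_delta_mul φ (c : G) w, show delta φ (c : G) w = (sol a ha : M) from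
        congrArg Subtype.val hc]
    set b := g * (a : G) * g⁻¹ with hb
    have hbx : φ b (sol a ha : M) = (sol a ha : M) * w := by
      rw [apply_eq_delta_mul φ b (sol a ha : M), hsol' a ha, mul_comm]
    have hbw : φ b w = w := hBfix b (conj_mem_cj.2 a.2) w hwg
    refine hS3 (involves_three φ hx1 hw1 (fun h => hwU (h ▸ (sol a ha).2))
      ((sol a ha).2 (c : G) c.2) hca ?_ hbw hbx ?_)
    · rw [map_mul, hca, (sol a ha).2 (c : G) c.2, ← mul_assoc, hM, one_mul]
    · rw [map_mul, hbx, hbw, mul_assoc, hM, mul_one]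
  have ha₁ : a₁ ≠ 1 := by
    intro h
    have h2 : a₂ ≠ 1 := fun h2 => hne (h.trans h2.symm)
    simp only [F, dif_pos h, dif_neg h2] at hF
    exact hzero a₂ h2 hF.symm
  have ha₂ : a₂ ≠ 1 := by
    intro h
    simp only [F, dif_pos h, dif_neg ha₁] at hF
    exact hzero a₁ ha₁ hF
  simp only [F, dif_neg ha₁, dif_neg ha₂] at hF
  obtain ⟨c', hc'⟩ := QuotientGroup.eq.1 hF
  set u₁ : M := (sol a₁ ha₁ : M) with hu₁
  set u₂ : M := (sol a₂ ha₂ : M) with hu₂
  have hu₁U : u₁ ∈ U := (sol a₁ ha₁).2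
  have hu₂U : u₂ ∈ U := (sol a₂ ha₂).2
  set b₁ := g * (a₁ : G) * g⁻¹ with hb₁
  set b₂ := g * (a₂ : G) * g⁻¹ with hb₂
  have hb₁A : b₁ ∈ cj g A := conj_mem_cj.2 a₁.2
  have hb₂A : b₂ ∈ cj g A := conj_mem_cj.2 a₂.2
  have hψ₁ : delta φ b₁ u₁ = w := hsol' a₁ ha₁
  have hψ₂ : delta φ b₂ u₂ = w := hsol' a₂ ha₂
  set c : G := (c' : G) with hcdef
  have hcA : c ∈ A := c'.2
  have hcw : delta φ c w = u₁ * u₂ := by
    have h1 : delta φ c w = u₁⁻¹ * u₂ := congrArg Subtype.val hc'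
    rwa [hinv] at h1
  have hc1 : c ≠ 1 := by
    intro h
    rw [h, delta_apply, map_one, MulAut.one_apply, mul_inv_cancel] at hcw
    have he : u₁ = u₂ := by
      rw [← hinv u₂]; exact mul_eq_one_iff_eq_inv.1 hcw.symm
    have hu1' : u₁ ≠ 1 := fun h' => hw1 (by rw [← hψ₁, h', map_one])
    have h2 : φ (b₁⁻¹ * b₂) u₁ = u₁ := by
      rw [apply_mul, apply_eq_delta_mul φ b₂ u₁, show delta φ b₂ u₁ = w from he ▸ hψ₂, ← hψ₁,
        ← apply_eq_delta_mul, inv_apply_apply]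
    have h3 := hBfree _ ((cj g A).mul_mem ((cj g A).inv_mem hb₁A) hb₂A) u₁ hu₁U hu1' h2
    exact hne (Subtype.ext (by
      have := inv_mul_eq_one.1 h3
      simpa [hb₁, hb₂] using this))
  clear_value b₁ b₂ c u₁ u₂
  set h := b₁ * c * b₂ with hh
  clear_value h
  have hcU : ∀ x ∈ U, φ c x = x := fun x hx => hx c hcA
  -- `h` lies in `Mx`
  have hhu : φ h u₂ = u₁ := by
    rw [hh, apply_mul φ (b₁ * c) b₂, apply_mul φ b₁ c, apply_eq_delta_mul φ b₂ u₂, hψ₂, map_mul, hcU u₂ hu₂U,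
      apply_eq_delta_mul φ c w, hcw, show u₁ * u₂ * w * u₂ = u₁ * w by
        rw [mul_right_comm u₁ u₂ w, mul_assoc (u₁ * w), hM, mul_one],
      map_mul, hBfix b₁ hb₁A w hwg, apply_eq_delta_mul φ b₁ u₁, hψ₁]
    rw [mul_comm w u₁, mul_assoc, hM, mul_one]
  have hhMx : h ∈ Mx := by
    by_contra hn
    have hu21 : u₂ ≠ 1 := fun h' => hw1 (by rw [← hψ₂, h', map_one])
    exact hu21 (hdisj h hn u₂ hu₂U (hhu.symm ▸ hu₁U))
  have hhA : cj h A = A := CF.mem_Nz.1 (H.nor hhMx)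
  have hhU : ∀ x ∈ U, φ h x ∈ U := fun x hx => by
    have : φ h x ∈ fixSub φ (cj h A) := by rw [fixSub_cj]; exact ⟨x, hx, rfl⟩
    rwa [hhA] at this
  have hhiU : ∀ x ∈ U, φ h⁻¹ x ∈ U := fun x hx => by
    have hi : cj h⁻¹ A = A := CF.mem_Nz.1 (H.nor (Mx.inv_mem hhMx))
    have : φ h⁻¹ x ∈ fixSub φ (cj h⁻¹ A) := by rw [fixSub_cj]; exact ⟨x, hx, rfl⟩
    rwa [hi] at this
  -- the two block identities
  have hF1 : ∀ x ∈ U, delta φ b₁ (φ h x) = delta φ b₂ x ∧
      φ h x = delta φ c (delta φ b₂ x) * x := by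
    intro x hx
    set v := delta φ b₂ x with hv
    have hvg : v ∈ gU := hquad' g b₂ hb₂A x
    set y := delta φ c v * x with hy
    have hyU : y ∈ U := U.mul_mem (H.quad c hcA v) hx
    have e : φ h x = y * (delta φ b₁ y * v) := by
      rw [hh, apply_mul φ (b₁ * c) b₂, apply_mul φ b₁ c, apply_eq_delta_mul φ b₂ x, ← hv, map_mul, hcU x hx,
        apply_eq_delta_mul φ c v, mul_right_comm (delta φ c v) v x, ← hy, map_mul,
        hBfix b₁ hb₁A v hvg, apply_eq_delta_mul φ b₁ y, mul_comm (delta φ b₁ y) y, mul_assoc]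
    have h1 : delta φ b₁ y * v ∈ U := by
      have := U.mul_mem (U.inv_mem hyU) (hhU x hx)
      rwa [e, inv_mul_cancel_left] at this
    have h2 := hUgU _ h1 (gU.mul_mem (hquad' g b₁ hb₁A y) hvg)
    rw [h2, mul_one] at e
    rw [e]
    exact ⟨(mul_eq_one_iff_eq_inv.1 h2).trans (hinv v), rfl⟩
  have hF2 : ∀ x ∈ U, delta φ c (delta φ b₁ x) = x * φ h⁻¹ x := by
    intro x hx
    obtain ⟨h1, h2⟩ := hF1 _ (hhiU x hx)
    rw [apply_inv_apply] at h1 h2
    rw [h1]
    conv_rhs => arg 1; rw [h2]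
    rw [mul_assoc, hM, mul_one]
  -- conjugation by `h`
  have hconj : ∀ e ∈ A, ∀ x ∈ U,
      delta φ (h * e * h⁻¹) (delta φ b₁ x) = φ h (delta φ e (delta φ b₁ (φ h x))) := by
    intro e he x hx
    rw [delta_conj]
    congr 1
    set v := delta φ b₁ x with hv
    have hvg : v ∈ gU := hquad' g b₁ hb₁A x
    set y := delta φ c v with hy
    have hyU : y ∈ U := H.quad c hcA v
    have hb1i : φ b₁⁻¹ v = v := hBfix _ ((cj g A).inv_mem hb₁A) v hvg
    have hci : c⁻¹ = c := inv_eq_of_mul_eq_one_right (H.sq c hcA)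
    have hb2i : b₂⁻¹ = b₂ := inv_eq_of_mul_eq_one_right (by
      obtain ⟨a, ha, he'⟩ := hb₂A
      rw [← he', ← map_mul, H.sq a ha, map_one])
    have e1 : φ h⁻¹ v = delta φ b₂ y * y * v := by
      rw [hh, mul_inv_rev, mul_inv_rev, apply_mul φ b₂⁻¹, apply_mul φ c⁻¹, hb1i, hci, hb2i,
        apply_eq_delta_mul φ c v, ← hy, map_mul, hBfix b₂ hb₂A v hvg, apply_eq_delta_mul φ b₂ y]
    have e2 : delta φ b₂ y = delta φ b₁ (φ h x) * v := by
      rw [← (hF1 y hyU).1, hy, hv, hF2 x hx, map_mul, apply_inv_apply, map_mul]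
    rw [e1, e2, map_mul, map_mul, map_mul]
    have e3 : delta φ e y = 1 := by rw [delta_apply, hyU e he, mul_inv_cancel]
    rw [e3, mul_one, mul_assoc, hM, mul_one]
  -- the orbit of `c`
  have hpowA : ∀ j : ℕ, h ^ j * c * (h ^ j)⁻¹ ∈ A := fun j => by
    have hj : cj (h ^ j) A = A := CF.mem_Nz.1 (H.nor (pow_mem hhMx j))
    rw [← hj]
    exact conj_mem_cj.2 hcA
  have hL : ∀ j : ℕ, ∀ x ∈ U, delta φ (h ^ j * c * (h ^ j)⁻¹) (delta φ b₁ x) =
      φ (h ^ (2 * j)) (x * φ h⁻¹ x) := by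
    intro j
    induction j with
    | zero => intro x hx; simpa using hF2 x hx
    | succ j ih =>
      intro x hx
      have e : h ^ (j + 1) * c * (h ^ (j + 1))⁻¹ = h * (h ^ j * c * (h ^ j)⁻¹) * h⁻¹ := by
        rw [pow_succ']; group
      rw [e, hconj _ (hpowA j) x hx, ih _ (hhU x hx), inv_apply_apply,
        show 2 * (j + 1) = 1 + 2 * j + 1 by ring, pow_succ (h) (1 + 2 * j), pow_add, pow_one,
        apply_mul, apply_mul, map_mul (φ h), apply_inv_apply]
  -- a vector of odd period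
  obtain ⟨k, m, hm, hkm⟩ : ∃ k m : ℕ, ¬ 2 ∣ m ∧ orderOf h = 2 ^ k * m :=
    ⟨_, _, Nat.not_dvd_ordCompl Nat.prime_two (orderOf_pos h).ne',
      (Nat.ordProj_mul_ordCompl_eq_self (orderOf h) 2).symm⟩
  let ψ := NoOffender.restrictHom φ (Subgroup.zpowers h) U fun x hx v hv => by
    obtain ⟨n, rfl⟩ := mem_powers_iff_mem_zpowers.2 hx
    induction n with
    | zero => simpa using hv
    | succ n ih =>
      show φ (h ^ (n + 1)) v ∈ U
      rw [pow_succ', apply_mul]
      exact hhU _ (ih (Subgroup.pow_mem _ (Subgroup.mem_zpowers h) n))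
  set hm' : Subgroup.zpowers h := ⟨h ^ m, Subgroup.pow_mem _ (Subgroup.mem_zpowers h) m⟩ with hm'd
  obtain ⟨x₀, hx₀fix, hx₀1⟩ := NoOffender.exists_fixed_two ψ (T := Subgroup.zpowers hm')
    (by
      intro z
      refine ⟨k, ?_⟩
      obtain ⟨n, hn⟩ := Subgroup.mem_zpowers_iff.1 z.2
      apply Subtype.ext
      rw [SubgroupClass.coe_pow, ← hn, OneMemClass.coe_one, ← zpow_natCast, ← zpow_mul, mul_comm,
        zpow_mul, zpow_natCast]
      have : hm' ^ 2 ^ k = 1 := Subtype.ext (by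
        show (h ^ m) ^ 2 ^ k = 1
        rw [← pow_mul, mul_comm, ← hkm, pow_orderOf_eq_one])
      rw [this, one_zpow])
    (fun x => Subtype.ext (hM x)) (m₀ := (⟨u₀, hu₀⟩ : U)) fun h' => hu₀1 (congrArg Subtype.val h')
  have hper : φ (h ^ m) (x₀ : M) = x₀ :=
    congrArg Subtype.val (hx₀fix hm' (Subgroup.mem_zpowers hm'))
  have hperi : ∀ i : ℕ, φ (h ^ (i + m)) (x₀ : M) = φ (h ^ i) (x₀ : M) := fun i => by
    rw [pow_add, apply_mul, hper]
  set v₀ := delta φ b₁ (x₀ : M) with hv₀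
  let E : Subgroup M :=
    { carrier := {y | ∃ e ∈ A, delta φ e v₀ = y}
      one_mem' := ⟨1, A.one_mem, by rw [delta_apply, map_one]; exact mul_inv_cancel v₀⟩
      mul_mem' := by
        rintro _ _ ⟨e, he, rfl⟩ ⟨f, hf, rfl⟩
        exact ⟨e * f, A.mul_mem he hf, by rw [delta_mul, H.quad f hf v₀ e he, mul_comm]⟩
      inv_mem' := by
        rintro _ ⟨e, he, rfl⟩
        exact ⟨e, he, (hinv _).symm⟩ }
  have hdiff : ∀ i : ℕ, φ (h ^ (i + 1)) (x₀ : M) * φ (h ^ i) (x₀ : M) ∈ E := by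
    intro i
    obtain ⟨j, hj⟩ : ∃ j, φ (h ^ (i + 1)) (x₀ : M) * φ (h ^ i) (x₀ : M) =
        φ (h ^ (2 * j + 1 + 1)) (x₀ : M) * φ (h ^ (2 * j + 1)) (x₀ : M) := by
      rcases Nat.even_or_odd i with ⟨r, hr⟩ | ⟨r, hr⟩
      · obtain ⟨q, hq⟩ := Nat.odd_iff.2 (Nat.two_dvd_ne_zero.1 hm)
        refine ⟨r + q, ?_⟩
        rw [show 2 * (r + q) + 1 + 1 = (i + 1) + m by omega,
          show 2 * (r + q) + 1 = i + m by omega, hperi, hperi]
      · exact ⟨r, by rw [hr]⟩
    rw [hj]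
    refine ⟨_, hpowA (j + 1), ?_⟩
    rw [hL (j + 1) _ x₀.2, map_mul, ← apply_mul]
    have e : h ^ (2 * (j + 1)) * h⁻¹ = h ^ (2 * j + 1) := by
      rw [show 2 * (j + 1) = 2 * j + 1 + 1 by ring, pow_succ, mul_inv_cancel_right]
    rw [e, show 2 * (j + 1) = 2 * j + 1 + 1 by ring]
  have htel : ∀ n : ℕ, (x₀ : M) * φ (h ^ n) (x₀ : M) ∈ E := by
    intro n
    induction n with
    | zero => rw [pow_zero, map_one, MulAut.one_apply, hM]; exact E.one_mem
    | succ n ih =>
      have := E.mul_mem ih (hdiff n)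
      rwa [mul_comm (φ (h ^ (n + 1)) _) (φ (h ^ n) _), ← mul_assoc,
        mul_assoc (x₀ : M) (φ (h ^ n) _), hM, mul_one] at this
  -- the norm is fixed by `h`, hence trivial
  set N := ∏ n ∈ Finset.range m, φ (h ^ n) (x₀ : M) with hN
  have hNfix : φ h N = N := by
    have h1 : φ h N = ∏ n ∈ Finset.range m, φ (h ^ (n + 1)) (x₀ : M) := by
      rw [hN, map_prod]
      exact Finset.prod_congr rfl fun n _ => by rw [← apply_mul, ← pow_succ']
    have h2 := Finset.prod_range_succ' (fun n => φ (h ^ n) (x₀ : M)) m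
    rw [Finset.prod_range_succ, show φ (h ^ m) (x₀ : M) = φ (h ^ 0) (x₀ : M) by
      rw [hper, pow_zero]; simp] at h2
    rw [h1, hN]
    exact (mul_right_cancel h2).symm
  have hNU : N ∈ U := Subgroup.prod_mem U fun n hn => by
    clear hn
    induction n with
    | zero => rw [pow_zero, map_one]; exact x₀.2
    | succ n ih => rw [pow_succ', apply_mul]; exact hhU _ ih
  have hN1 : N = 1 := by
    by_contra hN1
    have h1 : φ h⁻¹ N = N := by
      conv_lhs => rw [← hNfix]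
      exact inv_apply_apply φ h N
    have h2 := hF2 N hNU
    rw [h1, hM] at h2
    have h3 : delta φ b₁ N ∈ gU := hquad' g b₁ hb₁A N
    by_cases h4 : delta φ b₁ N = 1
    · exact hne (absurd (hBfree b₁ hb₁A N hNU hN1 (mul_inv_eq_one.1 h4)) fun h5 => ha₁ (Subtype.ext
        (by simpa [hb₁] using h5)))
    · exact hc1 (hfree _ (hgUP _ h3) (fun h5 => h4 (hUgU _ h5 h3)) c hcA (mul_inv_eq_one.1 h2))
  have hx₀E : (x₀ : M) ∈ E := by
    have h1 : ∏ n ∈ Finset.range m, ((x₀ : M) * φ (h ^ n) (x₀ : M)) ∈ E :=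
      Subgroup.prod_mem E fun n _ => htel n
    rw [Finset.prod_mul_distrib, Finset.prod_const, Finset.card_range, ← hN, hN1, mul_one] at h1
    obtain ⟨q, hq⟩ := Nat.odd_iff.2 (Nat.two_dvd_ne_zero.1 hm)
    rwa [hq, pow_succ, pow_mul, sq, hM, one_pow, one_mul] at h1
  -- two transpositions
  obtain ⟨e, he, hev⟩ := hx₀E
  have hx1 : (x₀ : M) ≠ 1 := fun h' => hx₀1 (Subtype.ext h')
  have hv₀g : v₀ ∈ gU := hquad' g b₁ hb₁A _
  have hv₀1 : v₀ ≠ 1 := fun h' => hx1 (by rw [← hev, h', map_one])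
  have hea : φ e v₀ = (x₀ : M) * v₀ := by rw [apply_eq_delta_mul φ e v₀, hev]
  have hbx : φ b₁ (x₀ : M) = (x₀ : M) * v₀ := by
    rw [apply_eq_delta_mul φ b₁ (x₀ : M), ← hv₀, mul_comm]
  have hbv : φ b₁ v₀ = v₀ := hBfix b₁ hb₁A v₀ hv₀g
  refine hS3 (involves_three φ hx1 hv₀1 (fun h' => hx1 (hUgU _ x₀.2 (h' ▸ hv₀g)))
    (x₀.2 e he) hea ?_ hbv hbx ?_)
  · rw [map_mul, hea, x₀.2 e he, ← mul_assoc, hM, one_mul]
  · rw [map_mul, hbx, hbv, mul_assoc, hM, mul_one]

/-- The hypothesis `core` from a Sylow subgroup in a unique maximal subgroup. -/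
theorem core_of_unique [Fact (Nat.Prime 2)] {S : Sylow 2 G} {A Mx : Subgroup G}
    (hu : NoOffender.Unique (S : Subgroup G) Mx) (hO : Cfsg.pCore 2 G = ⊥)
    (hAS : A ≤ (S : Subgroup G)) : ∀ a ∈ A, (∀ g : G, g * a * g⁻¹ ∈ Mx) → a = 1 :=
  fun _ ha h => hu.eq_one_of_conj_mem hO (hAS ha) h

end Cfsg.Agent.FusionAux.QuadBound
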