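import Cfsg.Agent.Cores.Basic
import Cfsg.Agent.FusionSys.Basic
import Mathlib.GroupTheory.SpecificGroups.Cyclic

/-!
Quadratically acting automorphisms and `O_p` of automorphism groups.
-/
set_option autoImplicit false

open Cfsg

namespace Cfsg.Agent.FusionAux

variable {Q : Type*} [Group Q]

/-- The quadratic condition in the form `χ (a⁻¹ χ a) = a⁻¹ χ a`. -/
theorem quadratic_iff (χ : MulAut Q) (a : Q) :
    χ a⁻¹ * a * χ a⁻¹ * χ (χ a) = 1 ↔ χ (a⁻¹ * χ a) = a⁻¹ * χ a := by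
  simp only [map_mul, map_inv]
  constructor
  · intro h
    have h1 : a * ((χ a)⁻¹ * χ (χ a)) = χ a := by
      have h2 := congrArg (fun t => χ a * t) h
      simpa [mul_assoc] using h2
    rw [eq_inv_mul_iff_mul_eq]
    exact h1
  · intro h
    calc (χ a)⁻¹ * a * (χ a)⁻¹ * χ (χ a) = (χ a)⁻¹ * a * ((χ a)⁻¹ * χ (χ a)) := by
          simp [mul_assoc]
      _ = 1 := by rw [h]; simp [mul_assoc]

/-- A quadratically acting automorphism of a finite `p`-group has `p`-power order. -/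
theorem isPGroup_zpowers_of_quadratic {p : ℕ} [Finite Q] (hQ : IsPGroup p Q) [Fact p.Prime]
    {χ : MulAut Q} (h : ∀ a : Q, χ a⁻¹ * a * χ a⁻¹ * χ (χ a) = 1) :
    IsPGroup p (Subgroup.zpowers χ) := by
  have hm : ∀ (a : Q) (m : ℕ), (χ ^ m) a = a * (a⁻¹ * χ a) ^ m := by
    intro a m
    induction m with
    | zero => simp
    | succ m ih =>
      rw [pow_succ' χ, MulAut.mul_apply, ih, map_mul, map_pow,
        (quadratic_iff χ a).1 (h a), pow_succ' (a⁻¹ * χ a)]
      simp [mul_assoc]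
  obtain ⟨e, he⟩ := IsPGroup.iff_card.1 hQ
  have h1 : χ ^ p ^ e = 1 := by
    ext a
    rw [hm a, ← he]
    simp [pow_card_eq_one']
  obtain ⟨i, -, hi⟩ := (Nat.dvd_prime_pow (Fact.out : p.Prime)).1 (orderOf_dvd_of_pow_eq_one h1)
  exact IsPGroup.of_card (n := i) (by rw [Nat.card_zpowers, hi])

variable {G : Type*} [Group G] {p : ℕ}

/-- An element of a subgroup `H` of `K` lying in `O_p(K)` lies in `O_p(H)`. -/
theorem mem_pCore_map_of_le {H K : Subgroup G} (hHK : H ≤ K) {x : G} (hx : x ∈ H)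
    (h : x ∈ (pCore p ↥K).map K.subtype) : x ∈ (pCore p ↥H).map H.subtype := by
  obtain ⟨y, hy, rfl⟩ := h
  have hn : ((pCore p ↥K).comap (Subgroup.inclusion hHK)).Normal :=
    Subgroup.Normal.comap inferInstance _
  have hp : IsPGroup p ((pCore p ↥K).comap (Subgroup.inclusion hHK)) :=
    (Cores.pCore_isPGroup).comap_of_injective _ (Subgroup.inclusion_injective hHK)
  exact ⟨⟨_, hx⟩, Cores.le_pCore hn hp (show Subgroup.inclusion hHK ⟨_, hx⟩ ∈ pCore p ↥K by
    rw [show Subgroup.inclusion hHK ⟨K.subtype y, hx⟩ = y from Subtype.ext rfl]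
    exact hy), rfl⟩

/-- In an abelian group of automorphisms every element of `p`-power order lies in `O_p`. -/
theorem mem_pCore_of_comm {A : Subgroup G} (hA : ∀ a ∈ A, ∀ b ∈ A, a * b = b * a) {x : G}
    (hx : x ∈ A) (hp : IsPGroup p (Subgroup.zpowers x)) : x ∈ (pCore p ↥A).map A.subtype := by
  have hn : ((Subgroup.zpowers x).subgroupOf A).Normal := ⟨fun a ha g => by
    have e : g * a * g⁻¹ = a := by
      apply Subtype.ext
      show (g : G) * a * (g : G)⁻¹ = a
      rw [hA _ g.2 _ a.2, mul_inv_cancel_right]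
    rwa [e]⟩
  have hp' : IsPGroup p ((Subgroup.zpowers x).subgroupOf A) :=
    hp.of_equiv (Subgroup.subgroupOfEquivOfLe (Subgroup.zpowers_le.2 hx)).symm
  exact ⟨⟨x, hx⟩, Cores.le_pCore hn hp' (Subgroup.mem_zpowers x), rfl⟩

/-- Automorphisms of a cyclic group commute. -/
theorem mulAut_comm_of_isCyclic [IsCyclic Q] (a b : MulAut Q) : a * b = b * a := by
  obtain ⟨g, hg⟩ := IsCyclic.exists_generator (α := Q)
  obtain ⟨i, hi⟩ := hg (a g)
  obtain ⟨j, hj⟩ := hg (b g)
  simp only at hi hj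
  have e : a (b g) = b (a g) := by
    rw [← hj, ← hi, map_zpow, map_zpow, ← hi, ← hj, ← zpow_mul, ← zpow_mul, mul_comm i j]
  ext x
  obtain ⟨k, rfl⟩ := hg x
  simp [map_zpow, e]

open Cfsg.FusionSystem Cfsg.Agent.FusionSys in
/-- Membership of `O_p(Aut_F(·))` is transported along isomorphisms of the system. -/
theorem mem_pCore_autGroup_congr {Ω : Type*} [Group Ω] {S : Subgroup Ω} (F : FusionSystem S)
    {P R : Subgroup Ω} {e : P ≃* R} (he : IsIso F e) {χ : MulAut P}
    (h : χ ∈ (pCore p ↥(F.autGroup P)).map (F.autGroup P).subtype) :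
    MulAut.congr e χ ∈ (pCore p ↥(F.autGroup R)).map (F.autGroup R).subtype := by
  obtain ⟨y, hy, rfl⟩ := h
  exact ⟨autGroupCongr F he y,
    (Cores.map_pCore_equiv (autGroupCongr F he)) ▸ Subgroup.mem_map_of_mem _ hy,
    autGroupCongr_coe F he y⟩

end Cfsg.Agent.FusionAux
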