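import Cfsg.Agent.FusionModel.ControlCenter
import Cfsg.Agent.FusionSys.LocalModel
import Cfsg.Agent.FusionAux.Induction
import Cfsg.Agent.FusionAux.ModStronglyClosed
import Cfsg.Agent.Cores.Basic

/-!
A functor with the quadratic element condition controls the `p`-th powers of the centre: if an
element `y ^ p`, `y ∈ Z(S)`, is fixed by the maps normalizing `W(S)` it is fixed by every map.
-/

set_option autoImplicit false

open Cfsg Cfsg.FusionSystem Cfsg.Agent.FusionSys Cfsg.Agent.FusionModel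
open scoped commutatorElement

namespace Cfsg.Agent.FusionAux.QuadFunctor

universe u

variable {Ω : Type u} [Group Ω] {S : Subgroup Ω}

/-- An element of a `p`-group `P` outside a subgroup `O` quadratic on the abelian normal subgroup
`Z` centralized by `O` yields one fixing all `p`-th powers of elements of `Z`. -/
theorem exists_fix_pow {p : ℕ} {G : Type*} [Group G] {P O Z : Subgroup G} (hP : IsPGroup p P)
    [hZn : Z.Normal] (hab : ∀ a ∈ Z, ∀ b ∈ Z, a * b = b * a)
    (hZO : ∀ a ∈ Z, ∀ o ∈ O, o * a = a * o) {g : G} (hg : g ∈ P) (hgO : g ∉ O)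
    (hquad : ⁅⁅Z, Subgroup.zpowers g⁆, Subgroup.zpowers g⁆ = ⊥) :
    ∃ g' ∈ P, g' ∉ O ∧ ∀ v ∈ Z, g' * v ^ p * g'⁻¹ = v ^ p := by
  obtain ⟨g', hg'g, hg'O, hg'p⟩ : ∃ g' ∈ Subgroup.zpowers g, g' ∉ O ∧ g' ^ p ∈ O := by
    obtain ⟨k, hk⟩ := hP ⟨g, hg⟩
    have hk' : g ^ p ^ k ∈ O := by
      rw [show g ^ p ^ k = 1 from congrArg Subtype.val hk]
      exact O.one_mem
    clear hk hquad
    have hmem : g ∈ Subgroup.zpowers g := Subgroup.mem_zpowers g
    generalize Subgroup.zpowers g = C at hmem ⊢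
    induction k generalizing g with
    | zero => exact absurd (by simpa using hk') hgO
    | succ k ih =>
      by_cases h : g ^ p ∈ O
      · exact ⟨g, hmem, hgO, h⟩
      · refine ih (P.pow_mem hg p) h ?_ (C.pow_mem hmem p)
        rwa [← pow_mul, ← pow_succ']
  refine ⟨g', (Subgroup.zpowers_le.2 hg) hg'g, hg'O, fun v hv => ?_⟩
  set e := ⁅g', v⁆ with he
  have heC : ⁅Z, Subgroup.zpowers g⁆ ≤ Subgroup.centralizer (Subgroup.zpowers g : Set G) :=
    Subgroup.commutator_eq_bot_iff_le_centralizer.1 hquad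
  have heD : e ∈ ⁅Z, Subgroup.zpowers g⁆ := by
    rw [he, ← commutatorElement_inv v g']
    exact Subgroup.inv_mem _ (Subgroup.commutator_mem_commutator hv hg'g)
  have hge : Commute g' e := Subgroup.mem_centralizer_iff.1 (heC heD) g' hg'g
  have heZ : e ∈ Z := by
    rw [he, commutatorElement_def]
    exact Z.mul_mem (hZn.conj_mem v hv g') (Z.inv_mem hv)
  have hk : ∀ k : ℕ, g' ^ k * v * (g' ^ k)⁻¹ = e ^ k * v := by
    intro k
    induction k with
    | zero => simp
    | succ k ih =>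
      have h1 : g' * e ^ k = e ^ k * g' := (hge.pow_right k).eq
      calc g' ^ (k + 1) * v * (g' ^ (k + 1))⁻¹ = g' * (g' ^ k * v * (g' ^ k)⁻¹) * g'⁻¹ := by
            rw [pow_succ' g', mul_inv_rev]; group
        _ = g' * e ^ k * v * g'⁻¹ := by rw [ih]; group
        _ = e ^ k * (g' * v * g'⁻¹ * v⁻¹) * v := by rw [h1]; group
        _ = e ^ (k + 1) * v := by rw [pow_succ, he, commutatorElement_def]
  have hep : e ^ p = 1 := by
    have h1 := hk p
    rw [hZO v hv _ hg'p, mul_inv_cancel_right] at h1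
    exact mul_eq_right.1 h1.symm
  have hev : Commute e v := hab e heZ v hv
  rw [← conj_pow, show g' * v * g'⁻¹ = e * v by simpa using hk 1, hev.mul_pow, hep, one_mul]

/-- Conjugation by elements of `N_S(Q)` as a homomorphism to `Aut_F(Q)`. -/
def conjAut (F : FusionSystem S) {Q : Subgroup Ω} (hQ : Q ≤ S) :
    normalizerIn S Q →* F.autGroup Q :=
  MonoidHom.mk' (fun g => ⟨Q.normalizerMonoidHom ⟨g, g.2.2⟩,
      autInducedBy_le_autGroup F hQ (mem_autInducedBy.2 ⟨g, g.2.1, fun _ => rfl⟩)⟩)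
    fun g g' => Subtype.ext (map_mul Q.normalizerMonoidHom ⟨g, g.2.2⟩ ⟨g', g'.2.2⟩)

/-- Automorphisms of `Q` fix `z`. -/
def GoodAt (F : FusionSystem S) (z : Ω) (Q : Subgroup Ω) : Prop :=
  ∀ α ∈ F.autGroup Q, ∀ x : Q, (x : Ω) = z → (α x : Ω) = z

/-- The order in which fully normalized subgroups are treated. -/
noncomputable def rank (S Q : Subgroup Ω) : ℕ :=
  (Nat.card S - Nat.card (normalizerIn S Q)) * (Nat.card S + 1) + (Nat.card S - Nat.card Q)

theorem rank_lt [Finite S] {Q R : Subgroup Ω} (hR : R ≤ S)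
    (h : Nat.card (normalizerIn S Q) < Nat.card (normalizerIn S R) ∨
      Nat.card (normalizerIn S Q) ≤ Nat.card (normalizerIn S R) ∧ Nat.card Q < Nat.card R) :
    rank S R < rank S Q := by
  have h1 := Subgroup.card_le_of_le (normalizerIn_le (S := S) R)
  have h2 := Subgroup.card_le_of_le hR
  have h3 : Nat.card S - Nat.card R < Nat.card S + 1 := Nat.lt_succ_of_le (Nat.sub_le _ _)
  unfold rank
  rcases h with h | ⟨h, h'⟩
  · have h4 := Nat.mul_le_mul_right (Nat.card S + 1)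
      (show Nat.card S - Nat.card (normalizerIn S R) + 1 ≤
        Nat.card S - Nat.card (normalizerIn S Q) by omega)
    rw [Nat.succ_mul] at h4
    omega
  · have h4 := Nat.mul_le_mul_right (Nat.card S + 1)
      (show Nat.card S - Nat.card (normalizerIn S R) ≤
        Nat.card S - Nat.card (normalizerIn S Q) by omega)
    omega

section

variable [Finite S] {p : ℕ} [Fact p.Prime] {F : FusionSystem S} {z : Ω}
  {W : ∀ (Q : Type u) [Group Q], Subgroup Q}

/-- All maps on larger subgroups fix `z`. -/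
theorem fix_big (hS : IsPGroup p S) (hF : F.IsSaturated p) {Q : Subgroup Ω}
    (ih : ∀ R, F.IsFullyNormalized R → rank S R < rank S Q → GoodAt F z R) :
    ∀ (P P' : Subgroup Ω) (e : P ≃* P'), IsIso F e →
      Nat.card (normalizerIn S Q) ≤ Nat.card P → Nat.card Q < Nat.card P →
        ∀ x : P, ((x : Ω) = z ∨ (e x : Ω) = z) → (e x : Ω) = x := by
  refine iso_induction hS hF (fun P P' e => Nat.card (normalizerIn S Q) ≤ Nat.card P →
    Nat.card Q < Nat.card P → ∀ x : P, ((x : Ω) = z ∨ (e x : Ω) = z) → (e x : Ω) = x) ?_ ?_ ?_ ?_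
  · intro P P' P'' e e' he _ h h' hN hQ x hx
    have hc : Nat.card P = Nat.card P' := Nat.card_congr e.toEquiv
    rcases hx with hx | hx
    · have h1 := h hN hQ x (Or.inl hx)
      exact (h' (hc ▸ hN) (hc ▸ hQ) (e x) (Or.inl (h1.trans hx))).trans h1
    · have h1 := h' (hc ▸ hN) (hc ▸ hQ) (e x) (Or.inr hx)
      exact h1.trans (h hN hQ x (Or.inr (h1.symm.trans hx)))
  · intro P P' e _ h hN hQ y hy
    have hc : Nat.card P = Nat.card P' := Nat.card_congr e.toEquiv
    obtain ⟨x, rfl⟩ := e.surjective y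
    rw [MulEquiv.symm_apply_apply] at hy ⊢
    exact (h (hc ▸ hN) (hc ▸ hQ) x hy.symm).symm
  · intro P P' R R' e e' _ hle hag h hN hQ x hx
    rw [hag x] at hx ⊢
    exact h (hN.trans (@Subgroup.card_le_of_le _ _ R P (finite_of_le ‹_› (le_S F ‹_›)) hle))
      (hQ.trans_le (@Subgroup.card_le_of_le _ _ R P (finite_of_le ‹_› (le_S F ‹_›)) hle))
      ⟨x, hle x.2⟩ hx
  · intro R hR _ α hα hN hQ x hx
    have : Finite (normalizerIn S R) := finite_of_le ‹_› (normalizerIn_le R)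
    have hg := ih R hR (rank_lt hR.1
      (Or.inr ⟨hN.trans (Subgroup.card_le_of_le (le_normalizerIn hR.1)), hQ⟩))
    rcases hx with hx | hx
    · exact (hg α hα x hx).trans hx.symm
    · have h1 := hg α⁻¹ (inv_mem hα) (α x) hx
      rw [show α⁻¹ (α x) = x from α.symm_apply_apply x] at h1
      exact hx.trans h1.symm

/-- Automorphisms of subgroups treated earlier fix `z`. -/
theorem fix_aut (hS : IsPGroup p S) (hF : F.IsSaturated p) {Q : Subgroup Ω} (hQ : Q ≤ S)
    (ih : ∀ R, F.IsFullyNormalized R → rank S R < rank S Q → GoodAt F z R)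
    {R : Subgroup Ω} (hR : R ≤ S)
    (hlt : Nat.card (normalizerIn S Q) < Nat.card (normalizerIn S R) ∨
      Nat.card (normalizerIn S Q) ≤ Nat.card (normalizerIn S R) ∧ Nat.card Q < Nat.card R) :
    GoodAt F z R := by
  intro α hα x hx
  have : Finite (normalizerIn S R) := finite_of_le ‹_› (normalizerIn_le R)
  have : Finite (normalizerIn S Q) := finite_of_le ‹_› (normalizerIn_le Q)
  have hRN := le_normalizerIn hR
  have hbigQ : Nat.card Q < Nat.card (normalizerIn S R) := by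
    rcases hlt with h | ⟨-, h⟩
    · exact (Subgroup.card_le_of_le (le_normalizerIn hQ)).trans_lt h
    · exact h.trans_le (Subgroup.card_le_of_le hRN)
  have hbigN : Nat.card (normalizerIn S Q) ≤ Nat.card (normalizerIn S R) :=
    hlt.elim le_of_lt And.left
  obtain ⟨R₀, hconj, hR₀⟩ := exists_fullyNormalized F hR
  obtain ⟨φ, hφ, -, hφR⟩ := exists_normalizer_map_fullyNormalized hS hF hR₀ hconj
  have hφz : ∀ w : normalizerIn S R, ((w : Ω) = z ∨ φ w = z) → φ w = w := fun w hw => by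
    have h := fix_big hS hF ih _ _ (toIso F hφ rfl) (toIso_isIso F hφ rfl) hbigN hbigQ w
    rw [toIso_coe] at h
    exact h hw
  have hr : (restr hRN φ).range = R₀ := by rw [range_restr]; exact hφR
  set e := toIso F (restr_mem F hRN hφ) hr with he
  have hcard : Nat.card R = Nat.card R₀ := Nat.card_congr e.toEquiv
  have hN₀ : Nat.card (normalizerIn S R) ≤ Nat.card (normalizerIn S R₀) :=
    hR₀.2 R (isConj_symm hconj)
  have hg : GoodAt F z R₀ := ih R₀ hR₀ (rank_lt hR₀.1 (hlt.elim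
    (fun h => Or.inl (h.trans_le hN₀)) fun h => Or.inr ⟨h.1.trans hN₀, hcard ▸ h.2⟩))
  have hex : ∀ w : R, (e w : Ω) = φ (Subgroup.inclusion hRN w) := fun w => rfl
  have h1 : (e x : Ω) = z := by rw [hex]; exact (hφz _ (Or.inl hx)).trans hx
  have h2 := hg (MulAut.congr e α) (autCongr_mem F (toIso_isIso F _ hr) hα) (e x) h1
  rw [autCongr_apply, MulEquiv.symm_apply_apply, hex] at h2
  exact (hφz _ (Or.inr h2)).symm.trans h2

/-- A normal subgroup of `Aut_F(Q)` fixing `z` and inducing more than `Inn(Q)` suffices. -/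
theorem good_of_normal (hS : IsPGroup p S) (hF : F.IsSaturated p) {Q : Subgroup Ω}
    (hQ : F.IsFullyNormalized Q)
    (ih : ∀ R, F.IsFullyNormalized R → rank S R < rank S Q → GoodAt F z R)
    (K : Subgroup (F.autGroup Q)) [hKn : K.Normal]
    (hKz : ∀ a ∈ K, ∀ x : Q, (x : Ω) = z → (((a : MulAut Q) x : Q) : Ω) = z)
    {g : normalizerIn S Q} (hgK : conjAut F hQ.1 g ∈ K) (hgQ : (g : Ω) ∉ Q) : GoodAt F z Q := by
  intro α hα x hx
  have hQS := hQ.1
  have : Finite Q := finite_of_le ‹_› hQS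
  have : Finite (normalizerIn S Q) := finite_of_le ‹_› (normalizerIn_le Q)
  obtain ⟨h, k, N, N', e, hQN, hαe, hk, he, -, hNn, hag, hext⟩ :=
    exists_frattini_extend hS hF hQ K ⟨α, hα⟩
  set M₀ : Subgroup Ω := (K.comap (conjAut F hQS)).map (normalizerIn S Q).subtype with hM₀
  set M := M₀ ⊔ Q with hM
  have hM₀N : M₀ ≤ N := by
    rintro _ ⟨w, hw, rfl⟩
    exact hext w w.2 ⟨_, hw, fun _ => rfl⟩
  have hMN : M ≤ N := sup_le hM₀N hQN
  have hMT : M ≤ normalizerIn S Q := sup_le (Subgroup.map_subtype_le _) (le_normalizerIn hQS)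
  have hMS : M ≤ S := hMT.trans (normalizerIn_le Q)
  have : Finite M := finite_of_le ‹_› hMS
  have hTM : normalizerIn S Q ≤ normalizerIn S M := by
    refine le_inf (normalizerIn_le Q) ((le_inf ?_ inf_le_right).trans
      (Subgroup.normalizer_inf_normalizer_le_normalizer_sup _ _))
    intro t ht
    have hn := hKn.comap (conjAut F hQS)
    refine Subgroup.mem_normalizer_iff.2 fun w => ⟨?_, ?_⟩
    · rintro ⟨w, hw, rfl⟩
      exact ⟨⟨t, ht⟩ * w * ⟨t, ht⟩⁻¹, hn.conj_mem w hw ⟨t, ht⟩, rfl⟩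
    · rintro ⟨w', hw', hwe⟩
      refine ⟨⟨t, ht⟩⁻¹ * w' * ⟨t, ht⟩, by simpa using hn.conj_mem w' hw' ⟨t, ht⟩⁻¹, ?_⟩
      show t⁻¹ * (w' : Ω) * t = w
      rw [show (w' : Ω) = t * w * t⁻¹ from hwe]
      simp [mul_assoc]
  have heQ : ∀ w : N, (w : Ω) ∈ Q → (e w : Ω) ∈ Q := fun w hw => by
    rw [hag ⟨w, hw⟩]
    exact ((h : MulAut Q) ⟨w, hw⟩).2
  have hconj : ∀ w : N, (w : Ω) ∈ normalizerIn S Q → ∀ q : Q,
      (e w : Ω) * ((h : MulAut Q) q : Q) * (e w : Ω)⁻¹ ∈ Q := by
    intro w hw q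
    have hmem : (w : Ω) * q * (w : Ω)⁻¹ ∈ Q := (Subgroup.mem_normalizer_iff.1 hw.2 _).1 q.2
    have h1 := heQ (w * ⟨q, hQN q.2⟩ * w⁻¹) hmem
    rw [map_mul, map_mul, map_inv, Subgroup.coe_mul, Subgroup.coe_mul, Subgroup.coe_inv, hag] at h1
    exact h1
  have hmaps : ∀ y : M, restr hMN (N'.subtype.comp e.toMonoidHom) y ∈ M := by
    refine hom_sup_mem _ (fun w hw => ?_) (fun w hw => Subgroup.mem_sup_right (heQ _ hw))
    obtain ⟨⟨w, hwT⟩, hwK, rfl⟩ := hw
    set w' : N := ⟨w, hMN (Subgroup.mem_sup_left ⟨⟨w, hwT⟩, hwK, rfl⟩)⟩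
    have hewS : (e w' : Ω) ∈ S := he.le_right (e w').2
    have hewT : (e w' : Ω) ∈ normalizerIn S Q := by
      refine ⟨hewS, mem_normalizer_of_conj_eq (MulAut.congr (h : MulAut Q)
        (conjAut F hQS ⟨w, hwT⟩ : MulAut Q)) fun q => ?_⟩
      obtain ⟨q, rfl⟩ := (h : MulAut Q).surjective q
      show (((MulAut.congr (h : MulAut Q) (conjAut F hQS ⟨w, hwT⟩ : MulAut Q))
        ((h : MulAut Q) q) : Q) : Ω) = _
      rw [autCongr_apply, MulEquiv.symm_apply_apply, ← hag, ← hag]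
      rw [← Subgroup.coe_inv, ← Subgroup.coe_mul, ← Subgroup.coe_mul, ← map_inv, ← map_mul,
        ← map_mul]
      rfl
    refine Subgroup.mem_sup_left ⟨⟨_, hewT⟩, ?_, rfl⟩
    show conjAut F hQS ⟨_, hewT⟩ ∈ K
    have heq : conjAut F hQS ⟨_, hewT⟩ = h * conjAut F hQS ⟨w, hwT⟩ * h⁻¹ := by
      apply Subtype.ext
      ext q
      obtain ⟨q, rfl⟩ := (h : MulAut Q).surjective q
      show (e w' : Ω) * _ * (e w' : Ω)⁻¹ =
        (((h : MulAut Q) ((conjAut F hQS ⟨w, hwT⟩ : MulAut Q)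
          ((h : MulAut Q).symm ((h : MulAut Q) q))) : Q) : Ω)
      rw [MulEquiv.symm_apply_apply, ← hag, ← hag]
      rw [← Subgroup.coe_inv, ← Subgroup.coe_mul, ← Subgroup.coe_mul, ← map_inv, ← map_mul,
        ← map_mul]
      rfl
    rw [heq]
    exact hKn.conj_mem _ hwK h
  have hmem : restr hMN (N'.subtype.comp e.toMonoidHom) ∈ F.Hom M := restr_mem F hMN he
  have hr : (restr hMN (N'.subtype.comp e.toMonoidHom)).range = M :=
    range_eq_of_image_le (F.injective_of_mem hmem) (by rintro _ ⟨w, rfl⟩; exact hmaps w) le_rfl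
  have hQM : Q < M := lt_of_le_of_ne le_sup_right fun he' =>
    hgQ (he'.ge (Subgroup.mem_sup_left ⟨g, hgK, rfl⟩))
  have hgM := fix_aut hS hF hQS ih hMS
    (Or.inr ⟨@Subgroup.card_le_of_le _ _ _ _ (finite_of_le ‹_› (normalizerIn_le M)) hTM,
      card_lt_card_of_lt hMS hQM⟩) _ (toIso_mem_autGroup F hmem hr)
  have hkx := hKz k hk x hx
  have h2 := hgM ⟨z, hkx ▸ Subgroup.mem_sup_right ((k : MulAut Q) x).2⟩ rfl
  rw [toIso_coe, restr_apply] at h2
  rw [show α = (h : MulAut Q) * (k : MulAut Q) from congrArg Subtype.val hαe, MulAut.mul_apply,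
    ← hag]
  refine Eq.trans ?_ h2
  exact congrArg (fun w => (e w : Ω)) (Subtype.ext hkx)

/-- The main theorem. -/
theorem goodAt (hS : IsPGroup p S) (hF : F.IsSaturated p) (hW : Natural W p)
    (hWZ : ∀ (Q : Type u) [Group Q] [Finite Q], IsPGroup p Q → Subgroup.center Q ≤ W Q)
    (hq : ∀ (G : Type u) [Group G] [Finite G] (P : Sylow p G),
      ¬ (((W ↥(P : Subgroup G)).map (P : Subgroup G).subtype : Subgroup G)).Normal →
      ∃ g : G, g ∈ (P : Subgroup G) ∧ g ∉ Cfsg.pCore p G ∧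
        ⁅⁅Subgroup.center ↥(Cfsg.pCore p G) |>.map (Cfsg.pCore p G).subtype, Subgroup.zpowers g⁆,
          Subgroup.zpowers g⁆ = ⊥)
    {y : Ω} (hy : y ∈ S) (hyc : ∀ s ∈ S, s * y = y * s) (hz : z = y ^ p)
    (hN : ∀ (P : Subgroup Ω) (φ : P →* Ω), φ ∈ F.normalizerHom (wOf W S) P → FixesElt z P φ) :
    ∀ Q, F.IsFullyNormalized Q → GoodAt F z Q := by
  suffices h : ∀ (n : ℕ) (Q : Subgroup Ω), F.IsFullyNormalized Q → rank S Q = n → GoodAt F z Q from
    fun Q hQ => h _ Q hQ rfl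
  intro n
  induction n using Nat.strong_induction_on with
  | _ n IHn =>
  intro Q hQ hrank
  have ih : ∀ R, F.IsFullyNormalized R → rank S R < rank S Q → GoodAt F z R := fun R hR hlt =>
    IHn _ (hrank ▸ hlt) R hR rfl
  have hQS := hQ.1
  have hQfin : Finite Q := finite_of_le ‹_› hQS
  have hzS : z ∈ S := hz ▸ S.pow_mem hy p
  have hzc : ∀ s ∈ S, s * z = z * s := fun s hs => by
    rw [hz]
    exact (Commute.pow_right (hyc s hs) p).eq
  intro α hα x hx
  have hzQ : z ∈ Q := hx ▸ x.2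
  by_cases hQeq : Q = S
  · subst hQeq
    exact (hN _ _ (mem_normalizerHom_wOf_self hW hS (autGroup_mem_hom F hQS hα)) x
      (Or.inl hx)).trans hx
  have hyC : ∀ R ≤ S, y ∈ centralizerIn S R := fun R hR =>
    mem_centralizerIn.2 ⟨hy, fun r hr => hyc r (hR hr)⟩
  set T := normalizerIn S Q with hTdef
  have hTS : T ≤ S := normalizerIn_le Q
  have : Finite T := finite_of_le ‹_› hTS
  have hQT : Q ≤ T := le_normalizerIn hQS
  by_cases hC : centralizerIn S Q ≤ Q
  swap
  · -- an automorphism of a noncentric subgroup extends to `Q C_S(Q)`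
    obtain ⟨ψ, hψ, hψe, -, hψm⟩ := receptive_extend
      (saturated_receptive_of_fullyNormalized hS hF hQ) (autGroup_mem_hom F hQS hα)
      (range_subtype_comp α)
    have hQE := le_extender (φ := Q.subtype.comp α.toMonoidHom) hQS fun r => hQS (α r).2
    set R := Q ⊔ centralizerIn S Q with hR
    have hCE : R ≤ extender S Q (Q.subtype.comp α.toMonoidHom) :=
      sup_le hQE (centralizerIn_le_extender _)
    have hRS : R ≤ S := sup_le hQS (centralizerIn_le Q)
    have : Finite R := finite_of_le ‹_› hRS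
    have hmem := restr_mem F hCE hψ
    have hr : (restr hCE ψ).range = R := by
      refine range_eq_of_image_le (F.injective_of_mem hmem) ?_ le_rfl
      rintro _ ⟨w, rfl⟩
      refine hom_sup_mem _ (fun a ha => ?_) (fun a ha => ?_) w
      · exact Subgroup.mem_sup_left (hψm.le ((mem_map_subgroupOf ψ).2 ⟨_, ha, rfl⟩))
      · exact Subgroup.mem_sup_right ⟨map_mem_S F hψ _, map_mem_centralizer hQE hψm ha.2⟩
    have hTR : T ≤ normalizerIn S R := by
      refine le_inf hTS ((le_inf inf_le_right ?_).trans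
        (Subgroup.normalizer_inf_normalizer_le_normalizer_sup _ _))
      intro t ht
      refine Subgroup.mem_normalizer_iff.2 fun c => ?_
      have key : ∀ t ∈ T, ∀ c ∈ centralizerIn S Q, t * c * t⁻¹ ∈ centralizerIn S Q := by
        intro t ht c hc
        refine ⟨S.mul_mem (S.mul_mem (hTS ht) hc.1) (S.inv_mem (hTS ht)), fun r hr => ?_⟩
        have h := hc.2 _ ((Subgroup.mem_normalizer_iff.1 (inv_mem ht.2) r).1 hr)
        simp only [inv_inv] at h
        calc r * (t * c * t⁻¹) = t * (t⁻¹ * r * t * c) * t⁻¹ := by simp [mul_assoc]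
          _ = _ := by rw [h]; simp [mul_assoc]
      exact ⟨key t ht c, fun hc => by simpa [mul_assoc] using key t⁻¹ (T.inv_mem ht) _ hc⟩
    have hlt : Q < R := lt_of_le_of_ne le_sup_left fun he => hC (le_sup_right.trans he.ge)
    have : Finite (normalizerIn S R) := finite_of_le ‹_› (normalizerIn_le R)
    have h2 := fix_aut hS hF hQS ih hRS
      (Or.inr ⟨Subgroup.card_le_of_le hTR, card_lt_card_of_lt hRS hlt⟩) _
      (toIso_mem_autGroup F hmem hr) (Subgroup.inclusion le_sup_left x) hx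
    rw [toIso_coe, restr_apply] at h2
    exact (hψe x).symm.trans h2
  -- a model of the normalizer system of the centric subgroup `Q`
  have hyQ : y ∈ Q := hC (hyC Q hQS)
  have hQc : F.IsCentric Q :=
    centric_of_fullyCentralized (saturated_fullyNormalized hS hF hQ).1 hC
  set E := normSys F Q hQS with hEdef
  have hE : F.IsNormalizerSystem Q E := normSys_spec F Q hQS
  have hEn : E.IsNormal Q := by
    refine ⟨hQT, fun P φ hφ => ?_⟩
    obtain ⟨-, hP, hφN, ψ, hψ, hψP, hψQ⟩ := id hφ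
    refine ⟨ψ, ⟨hψ, sup_le hP hQT, fun w => ?_, restr (sup_le le_rfl le_sup_right) ψ,
      restr_mem F _ hψ, fun w => rfl, ?_⟩, hψP, hψQ⟩
    · have := ext_image_le hψQ (R := T) (fun w => (hψP w).symm ▸ hφN w) w
      rwa [sup_eq_left.2 hQT] at this
    · exact map_subgroupOf_eq_of_mem le_sup_right (F.injective_of_mem (restr_mem F _ hψ))
        fun w hw => apply_mem_of_map_eq hψQ (x := Subgroup.inclusion _ w) hw
  have hEc : E.IsCentric Q :=
    ⟨hQT, fun Y ⟨φ, hφ, hr⟩ w hw => hQc.2 Y ⟨φ, hφ.1, hr⟩ ⟨hw.1.1, hw.2⟩⟩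
  have hTp : IsPGroup p T := hS.to_le hTS
  obtain ⟨L, hLg, ι, hM⟩ := exists_model_of_normal_centric hTp
    (normalizerSystem_saturated hS hF hQ hE) hEn hEc
  obtain ⟨hIn, -⟩ := model_normal_centric hM hEn hEc
  obtain ⟨hLfin, hreal, ⟨P, hP⟩, -⟩ := hM
  have haut : ∀ β ∈ F.autGroup Q, ∃ l : L, ∀ q : Q,
      ι ⟨(β q : Q), hQT (β q).2⟩ = l * ι ⟨q, hQT q.2⟩ * l⁻¹ := by
    intro β hβ
    have h := autGroup_mem_hom E hQT (show β ∈ E.autGroup Q by
      rw [normalizerSystem_autGroup_self hE hQS]; exact hβ)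
    obtain ⟨l, hl, -⟩ := hom_conj hreal h
    exact ⟨l, hl⟩
  have hinj : ∀ {a b : T}, ι a = ι b → (a : Ω) = b := fun h => congrArg Subtype.val (hreal.1 h)
  set O := pCore p L with hO
  have hOP : O ≤ ι.range := (Cfsg.Agent.Cores.pCore_le_sylow P).trans hP.le
  have hQO : img ι Q ≤ O :=
    Cfsg.Agent.Cores.le_pCore hIn (P.2.to_le ((img_le_range Q).trans hP.ge))
  by_cases hOQ : O ≤ img ι Q
  swap
  · -- `O_p` of the model induces more than `Inn(Q)`
    obtain ⟨o, hoO, hoQ⟩ := SetLike.not_le_iff_exists.1 hOQ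
    obtain ⟨g, rfl⟩ := hOP hoO
    let K : Subgroup (F.autGroup Q) :=
      { carrier := {β | ∃ o ∈ O, ∀ q : Q, ι ⟨((β : MulAut Q) q : Q), hQT ((β : MulAut Q) q).2⟩ =
          o * ι ⟨q, hQT q.2⟩ * o⁻¹}
        one_mem' := ⟨1, O.one_mem, fun q => by simp⟩
        mul_mem' := by
          rintro a b ⟨oa, hoa, ha⟩ ⟨ob, hob, hb⟩
          refine ⟨oa * ob, O.mul_mem hoa hob, fun q => ?_⟩
          show ι ⟨((a : MulAut Q) ((b : MulAut Q) q) : Q), _⟩ = _
          rw [ha, hb, mul_inv_rev]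
          simp [mul_assoc]
        inv_mem' := by
          rintro a ⟨oa, hoa, ha⟩
          refine ⟨oa⁻¹, O.inv_mem hoa, fun q => ?_⟩
          have h := ha ((a : MulAut Q).symm q)
          simp only [MulEquiv.apply_symm_apply] at h
          show ι ⟨((a : MulAut Q).symm q : Q), _⟩ = _
          rw [h]
          simp [mul_assoc] }
    have hKn : K.Normal := ⟨fun a ⟨oa, hoa, ha⟩ b => by
      obtain ⟨l, hl⟩ := haut b b.2
      refine ⟨l * oa * l⁻¹, Subgroup.Normal.conj_mem inferInstance oa hoa l, fun q => ?_⟩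
      have h := hl ((b : MulAut Q).symm q)
      simp only [MulEquiv.apply_symm_apply] at h
      show ι ⟨((b : MulAut Q) ((a : MulAut Q) ((b : MulAut Q).symm q)) : Q), _⟩ = _
      rw [hl, ha, h]
      simp [mul_assoc]⟩
    refine good_of_normal hS hF hQ ih K ?_ (g := g) ?_ (fun hgQ => hoQ
      (mem_img.2 ⟨g, hgQ, rfl⟩)) α hα x hx
    · rintro a ⟨oa, hoa, ha⟩ q hq
      obtain ⟨s, rfl⟩ := hOP hoa
      have h := ha q
      rw [← map_inv, ← map_mul, ← map_mul] at h
      refine (hinj h).trans ?_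
      show (s : Ω) * q * (s : Ω)⁻¹ = z
      rw [hq, hzc s (hTS s.2), mul_inv_cancel_right]
    · refine ⟨ι g, hoO, fun q => ?_⟩
      rw [← map_inv, ← map_mul, ← map_mul]
      rfl
  -- now `O_p` of the model is `Q`
  set WP := (W ↥(P : Subgroup L)).map (P : Subgroup L).subtype with hWP
  have hWL : WP = ((wOf W T).subgroupOf T).map ι := by
    rw [wOf_map hW hTp hreal.1, ← hP]
    rfl
  have hzT : z ∈ T := hQT hzQ
  have hzW : z ∈ wOf W T := ⟨⟨z, hzT⟩, hWZ T hTp (Subgroup.mem_center_iff.2 fun g =>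
    Subtype.ext (hzc g (hTS g.2))), rfl⟩
  by_cases hnormal : WP.Normal
  · -- `W(N_S(Q))` is invariant under `Aut_F(Q)`
    set X := wOf W T with hX
    have hXO : WP ≤ O := Cfsg.Agent.Cores.le_pCore hnormal
      (P.2.to_le (Subgroup.map_subtype_le _))
    have hXQ : X ≤ Q := fun w hw => by
      have h : ι ⟨w, wOf_le T hw⟩ ∈ WP := hWL ▸ ⟨⟨w, wOf_le T hw⟩, hw, rfl⟩
      obtain ⟨q, hq, hqe⟩ := mem_img.1 (hOQ (hXO h))
      have hqw : (q : Ω) = w := hinj hqe
      exact hqw ▸ hq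
    have hXinv : ∀ q : Q, (q : Ω) ∈ X → ((α q : Q) : Ω) ∈ X := by
      intro q hq
      obtain ⟨l, hl⟩ := haut α hα
      have h : ι ⟨q, hQT q.2⟩ ∈ WP := hWL ▸ ⟨⟨q, hQT q.2⟩, hq, rfl⟩
      have h' := hnormal.conj_mem _ h l
      rw [← hl q, hWL] at h'
      obtain ⟨w, hw, hwe⟩ := h'
      rwa [← hinj hwe]
    have hαm := autGroup_mem_hom F hQS hα
    by_cases hTeq : T = S
    · refine (hN _ (Q.subtype.comp α.toMonoidHom) ?_ x (Or.inl hx)).trans hx
      have hXS : wOf W S = X := by rw [hX, hTeq]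
      rw [hXS]
      exact normalizerHom_of_mapsTo hαm hXQ
        (hXS ▸ le_normalizer_wOf_self hW hS) hXinv
    have hXS : X ≤ S := hXQ.trans hQS
    have : Finite X := finite_of_le ‹_› hXS
    have hmem := restr_mem F hXQ hαm
    have hr : (restr hXQ (Q.subtype.comp α.toMonoidHom)).range = X :=
      range_eq_of_image_le (F.injective_of_mem hmem)
        (by rintro _ ⟨w, rfl⟩; exact hXinv (Subgroup.inclusion hXQ w) w.2) le_rfl
    have hTX : Nat.card T < Nat.card (normalizerIn S X) := by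
      refine card_lt_card_of_lt (normalizerIn_le X) ((lt_normalizerIn hS hTS hTeq).trans_le ?_)
      exact le_inf (normalizerIn_le T) (normalizerIn_le_normalizer_wOf hW hS hTS)
    have h2 := fix_aut hS hF hQS ih hXS (Or.inl hTX) _ (toIso_mem_autGroup F hmem hr)
      ⟨z, hzW⟩ rfl
    rw [toIso_coe, restr_apply] at h2
    refine Eq.trans ?_ h2
    exact congrArg (fun w => ((α w : Q) : Ω)) (Subtype.ext hx)
  obtain ⟨g₀, hg₀P, hg₀O, hquad⟩ := hq L P hnormal
  have hOc : (Subgroup.center ↥O |>.map O.subtype).Normal :=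
    Cfsg.Agent.Cores.normal_map_subtype_of_characteristic _
  obtain ⟨g₁, hg₁P, hg₁O, hg₁⟩ := exists_fix_pow (O := O) P.2
    (Z := (Subgroup.center ↥O).map O.subtype)
    (by
      rintro _ ⟨a, ha, rfl⟩ _ ⟨b, -, rfl⟩
      exact (congrArg Subtype.val (Subgroup.mem_center_iff.1 ha b)).symm)
    (by
      rintro _ ⟨a, ha, rfl⟩ o ho
      exact congrArg Subtype.val (Subgroup.mem_center_iff.1 ha ⟨o, ho⟩))
    hg₀P hg₀O hquad
  obtain ⟨g, rfl⟩ := hP.le hg₁P
  let K : Subgroup (F.autGroup Q) :=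
    { carrier := {β | ∀ q ∈ Subgroup.center Q, (β : MulAut Q) (q ^ p) = q ^ p}
      one_mem' := fun q _ => rfl
      mul_mem' := fun {a b} ha hb q hq => by
        show (a : MulAut Q) ((b : MulAut Q) (q ^ p)) = q ^ p
        rw [hb q hq, ha q hq]
      inv_mem' := fun {a} ha q hq => by
        show (a : MulAut Q).symm (q ^ p) = q ^ p
        rw [MulEquiv.symm_apply_eq, ha q hq] }
  have hKn : K.Normal := ⟨fun a ha b q hq => by
    show (b : MulAut Q) ((a : MulAut Q) ((b : MulAut Q).symm (q ^ p))) = q ^ p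
    have hq' : (b : MulAut Q).symm q ∈ Subgroup.center Q := (Subgroup.characteristic_iff_le_comap.1
      (inferInstance : (Subgroup.center Q).Characteristic) (b : MulAut Q).symm) hq
    rw [map_pow, ha _ hq', map_pow, MulEquiv.apply_symm_apply]⟩
  refine good_of_normal hS hF hQ ih K ?_ (g := g) ?_ ?_ α hα x hx
  · intro a ha q hq
    have hq' : q = (⟨y, hyQ⟩ : Q) ^ p := Subtype.ext (hq.trans hz)
    rw [hq', ha _ (Subgroup.mem_center_iff.2 fun w => Subtype.ext (hyc w (hQS w.2))), ← hq', hq]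
  · intro q hq
    have hmem : ι ⟨(q : Q), hQT q.2⟩ ∈ (Subgroup.center ↥O).map O.subtype := by
      refine ⟨⟨_, hQO (mem_img.2 ⟨⟨q, hQT q.2⟩, q.2, rfl⟩)⟩,
        Subgroup.mem_center_iff.2 fun w => Subtype.ext ?_, rfl⟩
      obtain ⟨v, hv, hve⟩ := mem_img.1 (hOQ w.2)
      show (w : L) * ι ⟨q, _⟩ = ι ⟨q, _⟩ * (w : L)
      rw [← hve, ← map_mul, ← map_mul]
      exact congrArg ι (Subtype.ext
        (congrArg Subtype.val (Subgroup.mem_center_iff.1 hq (⟨(v : Ω), hv⟩ : Q)) : _))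
    have h := hg₁ _ hmem
    rw [← map_pow, ← map_inv, ← map_mul, ← map_mul] at h
    exact Subtype.ext (hinj h)
  · exact fun hgQ => hg₁O (hQO (mem_img.2 ⟨g, hgQ, rfl⟩))

/-- Every map fixes `z`. -/
theorem fixes_all (hS : IsPGroup p S) (hF : F.IsSaturated p)
    (hg : ∀ Q, F.IsFullyNormalized Q → GoodAt F z Q) :
    ∀ (P : Subgroup Ω) (φ : P →* Ω), φ ∈ F.Hom P → FixesElt z P φ := by
  suffices h : ∀ (P P' : Subgroup Ω) (e : P ≃* P'), IsIso F e →
      ∀ x : P, ((x : Ω) = z ∨ (e x : Ω) = z) → (e x : Ω) = x from fun P φ hφ x hx => by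
    have h' := h _ _ _ (toIso_isIso F hφ rfl) x
    rw [toIso_coe] at h'
    exact h' hx
  refine iso_induction hS hF (fun P P' e => ∀ x : P, ((x : Ω) = z ∨ (e x : Ω) = z) →
    (e x : Ω) = x) ?_ ?_ ?_ ?_
  · intro P P' P'' e e' _ _ h h' x hx
    rcases hx with hx | hx
    · have h1 := h x (Or.inl hx)
      exact (h' (e x) (Or.inl (h1.trans hx))).trans h1
    · have h1 := h' (e x) (Or.inr hx)
      exact h1.trans (h x (Or.inr (h1.symm.trans hx)))
  · intro P P' e _ h y hy
    obtain ⟨x, rfl⟩ := e.surjective y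
    rw [MulEquiv.symm_apply_apply] at hy ⊢
    exact (h x hy.symm).symm
  · intro P P' R R' e e' _ hle hag h x hx
    rw [hag x] at hx ⊢
    exact h ⟨x, hle x.2⟩ hx
  · intro R hR _ α hα x hx
    rcases hx with hx | hx
    · exact (hg R hR α hα x hx).trans hx.symm
    · have h1 := hg R hR α⁻¹ (inv_mem hα) (α x) hx
      rw [show α⁻¹ (α x) = x from α.symm_apply_apply x] at h1
      exact hx.trans h1.symm

end

end Cfsg.Agent.FusionAux.QuadFunctor
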