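import Cfsg.Agent.FusionAux.MaxAbelianBelow
import Cfsg.Agent.PGroup.Critical
import Cfsg.Agent.TwoAut.FewInvolutions

/-!
Automorphisms of order prime to `p` are detected on a maximal normal abelian subgroup of exponent
`p` (`4` for `p = 2`).
-/

set_option autoImplicit false
open Cfsg
open Cfsg.Agent.PGroup

namespace Cfsg.Agent.FusionAux

/-- The small exponent: `p` for odd `p`, `4` for `p = 2`. -/
def smallExp (p : ℕ) : ℕ := if p = 2 then 2 else 1

theorem pow_smallExp_ne_two {p : ℕ} (hp : p.Prime) : p ^ smallExp p ≠ 2 := by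
  unfold smallExp
  split
  · subst_vars; norm_num
  · next h => simpa using h

theorem eq_one_of_fix_smallExp {P : Type*} [Group P] [Finite P] {p : ℕ} [Fact p.Prime]
    (hP : IsPGroup p P) (α : MulAut P) (hcop : (orderOf α).Coprime p)
    (hfix : ∀ x : P, x ^ p ^ smallExp p = 1 → α x = x) : α = 1 := by
  obtain ⟨C, hC⟩ := exists_isCriticalSubgroup hP
  haveI := hC.characteristic
  refine hC.mulAut_eq_one hP α hcop fun c hc => ?_
  have hmap : C.map α.toMonoidHom = C := Subgroup.characteristic_iff_map_eq.mp inferInstance α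
  let β : MulAut C := ((α : P ≃* P).subgroupMap C).trans (MulEquiv.subgroupCongr hmap)
  have hβ : ∀ y : C, (β y : P) = α y := fun y => rfl
  have hβn : ∀ (n : ℕ) (y : C), ((β ^ n) y : P) = (α ^ n) y := by
    intro n
    induction n with
    | zero => intro y; rfl
    | succ n ih =>
      intro y
      rw [pow_succ', pow_succ', MulAut.mul_apply, MulAut.mul_apply, hβ, ih]
  have hβcop : (orderOf β).Coprime p := Nat.Coprime.coprime_dvd_left (orderOf_dvd_of_pow_eq_one
    (MulEquiv.ext fun y => Subtype.ext (by rw [hβn, pow_orderOf_eq_one]; rfl))) hcop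
  have h1 : β = 1 := by
    by_cases hp2 : p = 2
    · subst hp2
      refine TwoAut.eq_one_of_fix_four (hP.to_subgroup C) hC.commutator_le_center hC.pow_mem_center
        β hβcop fun y hy => Subtype.ext ((hβ y).trans (hfix y ?_))
      rw [show smallExp 2 = 2 from rfl]
      simpa using congrArg Subtype.val hy
    · refine mulAut_eq_one_of_fix_omega hp2 (hP.to_subgroup C) hC.commutator_le_center
        hC.pow_mem_center β hβcop fun y hy => Subtype.ext ((hβ y).trans (hfix y ?_))
      rw [smallExp, if_neg hp2, pow_one]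
      simpa using congrArg Subtype.val hy
  have h2 := congrArg Subtype.val (congrArg (fun b : MulAut C => b ⟨c, hc⟩) h1)
  simpa [hβ] using h2

variable {Ω : Type*} [Group Ω]

/-- In a `p`-group `T` with normal subgroup `Q`, there is an abelian `A ≤ Q` of small exponent,
normalized by `T`, whose pointwise stabilizer in `Aut(Q)` has no nontrivial elements of order
prime to `p`. -/
theorem exists_detecting_abelian {p : ℕ} [Fact p.Prime] {Q T : Subgroup Ω} [Finite T]
    (hT : IsPGroup p T) (hQT : Q ≤ T) (hTQ : T ≤ Subgroup.normalizer (Q : Set Ω)) :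
    ∃ A : Subgroup Ω, A ≤ Q ∧ T ≤ Subgroup.normalizer (A : Set Ω) ∧ IsMulCommutative A ∧
      (∀ a ∈ A, a ^ p ^ smallExp p = 1) ∧
      ∀ β : MulAut Q, (orderOf β).Coprime p → (∀ x : Q, (x : Ω) ∈ A → β x = x) → β = 1 := by
  let N : Subgroup T := Q.subgroupOf T
  have hNn : N.Normal := Subgroup.normal_subgroupOf_iff_le_normalizer hQT |>.2 hTQ
  let Good : Subgroup T → Prop := fun B => B.Normal ∧ B ≤ N ∧ IsMulCommutative B ∧
    ∀ b ∈ B, b ^ p ^ smallExp p = 1
  obtain ⟨B, -, hB⟩ := Finite.exists_le_maximal (p := Good) (a := (⊥ : Subgroup T))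
    ⟨inferInstance, bot_le, inferInstance, fun b hb => by rw [Subgroup.mem_bot.1 hb, one_pow]⟩
  obtain ⟨hBn, hBN, hBc, hBe⟩ := hB.prop
  have hkey := fun x hx hxN hxn => mem_of_maximal_normal_abelian_below hT (smallExp p)
    (pow_smallExp_ne_two Fact.out) N B hBN hBc hBe
    (fun C h1 h2 h3 h4 h5 => le_antisymm (hB.le_of_ge ⟨h1, h2, h3, h4⟩ h5) h5) x hx hxN hxn
  refine ⟨B.map T.subtype, ?_, ?_, ?_, ?_, ?_⟩
  · rintro _ ⟨b, hb, rfl⟩
    exact hBN hb
  · refine (Subgroup.normal_subgroupOf_iff_le_normalizer (Subgroup.map_subtype_le _)).1 ?_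
    rwa [Subgroup.subgroupOf, Subgroup.comap_map_eq_self_of_injective T.subtype_injective]
  · refine ⟨⟨?_⟩⟩
    rintro ⟨_, a, ha, rfl⟩ ⟨_, b, hb, rfl⟩
    refine Subtype.ext ?_
    show ((a * b : T) : Ω) = ((b * a : T) : Ω)
    exact congrArg Subtype.val (congrArg Subtype.val (hBc.is_comm.comm ⟨a, ha⟩ ⟨b, hb⟩) :)
  · rintro _ ⟨b, hb, rfl⟩
    exact congrArg Subtype.val (hBe b hb)
  intro β hco hfix
  have : Finite Q := Finite.of_injective _ (Subgroup.inclusion_injective hQT)
  have hQ : IsPGroup p Q := hT.to_le hQT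
  let C : Subgroup Q := Subgroup.centralizer ((B.map T.subtype).subgroupOf Q : Set Q)
  have hBC : ∀ x : Q, (x : Ω) ∈ B.map T.subtype → x ∈ C := by
    rintro x ⟨a, ha, hax⟩
    rw [Subgroup.mem_centralizer_iff]
    rintro y ⟨b, hb, hby⟩
    apply Subtype.ext
    show (y : Ω) * x = x * y
    rw [show (y : Ω) = b from hby.symm, show (x : Ω) = a from hax.symm]
    exact congrArg Subtype.val (congrArg Subtype.val (hBc.is_comm.comm ⟨b, hb⟩ ⟨a, ha⟩))
  have hCβ : ∀ c ∈ C, β c ∈ C := by
    intro c hc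
    rw [Subgroup.mem_centralizer_iff] at hc ⊢
    intro y hy
    have h1 := congrArg β (hc y hy)
    rwa [map_mul, map_mul, hfix y hy] at h1
  have hCmap : C.map β.toMonoidHom = C :=
    Subgroup.eq_of_le_of_card_ge (by rintro _ ⟨c, hc, rfl⟩; exact hCβ c hc)
      (Nat.card_congr ((β : Q ≃* Q).subgroupMap C).toEquiv).le
  let γ : MulAut C := ((β : Q ≃* Q).subgroupMap C).trans (MulEquiv.subgroupCongr hCmap)
  have hγn : ∀ (n : ℕ) (y : C), ((γ ^ n) y : Q) = (β ^ n) y := by
    intro n
    induction n with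
    | zero => intro y; rfl
    | succ n ih =>
      intro y
      rw [pow_succ', pow_succ', MulAut.mul_apply, MulAut.mul_apply, ← ih]
      rfl
  have h1 : γ = 1 := eq_one_of_fix_smallExp (hQ.to_subgroup C) γ
    (Nat.Coprime.coprime_dvd_left (orderOf_dvd_of_pow_eq_one
      (MulEquiv.ext fun y => Subtype.ext (by rw [hγn, pow_orderOf_eq_one]; rfl))) hco)
    fun y hy => Subtype.ext (hfix y.1 (by
      have hyT : (⟨((y : Q) : Ω), hQT (y : Q).2⟩ : T) ∈ B := by
        refine hkey _ ?_ (y : Q).2 (Subtype.ext ?_)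
        · rw [Subgroup.mem_centralizer_iff]
          intro b hb
          refine Subtype.ext ?_
          show (b : Ω) * (y : Q) = (y : Q) * (b : Ω)
          exact congrArg Subtype.val
            (Subgroup.mem_centralizer_iff.1 y.2 ⟨b, hBN hb⟩ ⟨b, hb, rfl⟩)
        · simpa using congrArg Subtype.val (congrArg Subtype.val hy)
      exact ⟨_, hyT, rfl⟩))
  have hfixC : ∀ c ∈ C, β c = c := fun c hc =>
    congrArg Subtype.val (congrArg (fun e : MulAut C => e ⟨c, hc⟩) h1 : γ ⟨c, hc⟩ = ⟨c, hc⟩)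
  have hBn' : ((B.map T.subtype).subgroupOf Q).Normal := by
    refine ⟨fun y hy q => ?_⟩
    obtain ⟨b, hb, hby⟩ := hy
    exact ⟨⟨(q : Ω), hQT q.2⟩ * b * ⟨(q : Ω), hQT q.2⟩⁻¹, hBn.conj_mem b hb _,
      by simpa using congrArg (fun t => (q : Ω) * t * (q : Ω)⁻¹) hby⟩
  have hCn : C.Normal := inferInstance
  refine MulEquiv.ext fun x => apply_eq_of_fixed_commutator hQ β hco (hfixC _ ?_)
  rw [Subgroup.mem_centralizer_iff]
  intro y hy
  have hy' : y ∈ C := hBC y hy
  have hcx : β (x * y * x⁻¹) = x * y * x⁻¹ := hfixC _ (hCn.conj_mem y hy' x)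
  rw [map_mul, map_mul, map_inv, hfixC y hy'] at hcx
  calc y * (x⁻¹ * β x) = x⁻¹ * (x * y * x⁻¹) * β x := by simp [mul_assoc]
    _ = x⁻¹ * (β x * y * (β x)⁻¹) * β x := by rw [hcx]
    _ = x⁻¹ * β x * y := by simp [mul_assoc]

end Cfsg.Agent.FusionAux
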