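import Cfsg.Agent.FusionAux.SeriesStab
import Mathlib.GroupTheory.Sylow

/-!
An automorphism group of a finite abelian `p`-group generated up to normalizers by transvections,
with Sylow `p`-subgroups of order `p`: the canonical decomposition `A = V × C` with `V` of order
`p ^ 2` and `C` fixed by all conjugates of the transvection.
-/

set_option autoImplicit false

namespace Cfsg.Agent.FusionAux.Transvection

/-- A transvection `τ` generating a Sylow `p`-subgroup of `G`, with centre `⟨z⟩`, not normal. -/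
structure Setting (A : Type*) [CommGroup A] (p : ℕ) (G : Subgroup (MulAut A)) (τ : G) (z : A) :
    Prop where
  /-- `A` is a `p`-group -/
  pgroup : IsPGroup p A
  /-- `τ` has order dividing `p` -/
  pow : τ ^ p = 1
  /-- `τ` is nontrivial -/
  ne : τ ≠ 1
  /-- `⟨τ⟩` is a maximal `p`-subgroup -/
  syl : ∀ K : Subgroup G, IsPGroup p K → τ ∈ K → K ≤ Subgroup.zpowers τ
  /-- the centre has order `p` -/
  ord : orderOf z = p
  /-- the centre is fixed -/
  fix : (τ : MulAut A) z = z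
  /-- `τ` displaces along the centre -/
  displ : ∀ x : A, (τ : MulAut A) x * x⁻¹ ∈ Subgroup.zpowers z
  /-- `⟨τ⟩` is not normal -/
  moved : ∃ β : G, β * τ * β⁻¹ ∉ Subgroup.zpowers τ

variable {A : Type*} [CommGroup A] [Finite A] {p : ℕ} [hp : Fact p.Prime]
  {G : Subgroup (MulAut A)} {τ : G} {z : A}

omit [Finite A] hp in
theorem conj_displ (h : Setting A p G τ z) (β : G) (x : A) :
    ((β * τ * β⁻¹ : G) : MulAut A) x * x⁻¹ ∈ Subgroup.zpowers ((β : MulAut A) z) := by
  obtain ⟨i, hi⟩ := Subgroup.mem_zpowers_iff.1 (h.displ ((β : MulAut A).symm x))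
  refine Subgroup.mem_zpowers_iff.2 ⟨i, ?_⟩
  rw [← map_zpow, hi, map_mul, map_inv, MulEquiv.apply_symm_apply]
  rfl

omit [Finite A] hp in
theorem conj_fix (h : Setting A p G τ z) (β : G) :
    ((β * τ * β⁻¹ : G) : MulAut A) ((β : MulAut A) z) = (β : MulAut A) z := by
  show (β : MulAut A) ((τ : MulAut A) ((β : MulAut A).symm ((β : MulAut A) z))) = _
  rw [MulEquiv.symm_apply_apply, h.fix]

omit [Finite A] in
theorem zpowers_eq_of_mem (h : Setting A p G τ z) {x : A} (hx : x ∈ Subgroup.zpowers z)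
    (hx1 : x ≠ 1) : Subgroup.zpowers x = Subgroup.zpowers z := by
  have hf : Finite (Subgroup.zpowers z) := finite_zpowers.2 (orderOf_pos_iff.1 (h.ord ▸ hp.out.pos))
  refine Subgroup.eq_of_le_of_card_ge (Subgroup.zpowers_le.2 hx) (le_of_eq ?_)
  rw [Nat.card_zpowers, Nat.card_zpowers, h.ord, eq_comm]
  refine orderOf_eq_prime ?_ hx1
  obtain ⟨i, rfl⟩ := Subgroup.mem_zpowers_iff.1 hx
  rw [← zpow_natCast, ← zpow_mul, mul_comm, zpow_mul, zpow_natCast, ← h.ord, pow_orderOf_eq_one,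
    one_zpow]

/-- A conjugate of `τ` fixing the centre generates the same subgroup and has the same centre. -/
theorem conj_eq_of_fix (h : Setting A p G τ z) {β : G}
    (hfix : ((β * τ * β⁻¹ : G) : MulAut A) z = z) :
    β * τ * β⁻¹ ∈ Subgroup.zpowers τ ∧ (β : MulAut A) z ∈ Subgroup.zpowers z := by
  set ρ := β * τ * β⁻¹ with hρ
  set w := (β : MulAut A) z with hw
  let W : Subgroup A := Subgroup.zpowers z ⊔ Subgroup.zpowers w
  let K : Subgroup G :=
    { carrier := {b | (b : MulAut A) z = z ∧ (b : MulAut A) w * w⁻¹ ∈ Subgroup.zpowers z ∧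
        ∀ x : A, (b : MulAut A) x * x⁻¹ ∈ W}
      one_mem' := ⟨rfl, by simp, fun x => by simp⟩
      mul_mem' := by
        rintro b c ⟨hb1, hb2, hb3⟩ ⟨hc1, hc2, hc3⟩
        obtain ⟨i, hi⟩ := Subgroup.mem_zpowers_iff.1 hc2
        refine ⟨?_, ?_, fun x => ?_⟩
        · show (b : MulAut A) ((c : MulAut A) z) = z
          rw [hc1, hb1]
        · show (b : MulAut A) ((c : MulAut A) w) * w⁻¹ ∈ _
          rw [show (c : MulAut A) w = z ^ i * w by rw [hi, inv_mul_cancel_right], map_mul,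
            map_zpow, hb1, mul_assoc]
          exact Subgroup.mul_mem _ (zpow_mem (Subgroup.mem_zpowers _) i) hb2
        · show (b : MulAut A) ((c : MulAut A) x) * x⁻¹ ∈ W
          have := W.mul_mem (hb3 ((c : MulAut A) x)) (hc3 x)
          simpa [mul_assoc] using this
      inv_mem' := by
        rintro b ⟨hb1, hb2, hb3⟩
        have e1 : (b : MulAut A).symm z = z := by rw [MulEquiv.symm_apply_eq, hb1]
        refine ⟨e1, ?_, fun x => ?_⟩
        · obtain ⟨i, hi⟩ := Subgroup.mem_zpowers_iff.1 hb2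
          refine Subgroup.mem_zpowers_iff.2 ⟨-i, ?_⟩
          show z ^ (-i) = (b : MulAut A).symm w * w⁻¹
          rw [eq_mul_inv_iff_mul_eq, eq_comm, MulEquiv.symm_apply_eq, map_mul, map_zpow, hb1,
            zpow_neg, hi]
          group
        · have := W.inv_mem (hb3 ((b : MulAut A).symm x))
          simpa [mul_comm] using this }
  have hKp : IsPGroup p K := by
    intro b
    obtain ⟨hb1, hb2, hb3⟩ := b.2
    let D : ℕ → Subgroup A := fun i =>
      if i = 0 then ⊥ else if i = 1 then Subgroup.zpowers z else if i = 2 then W else ⊤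
    obtain ⟨k, hk⟩ := exists_pow_fix_series (α := ((b : G) : MulAut A))
      h.pgroup D (fun x hx => by
        simp only [D, ↓reduceIte, Subgroup.mem_bot] at hx; rw [hx, map_one])
      3 (fun i hi => by interval_cases i <;> simp [D, W]) (fun i hi x hx => by
        interval_cases i <;> simp only [D, OfNat.ofNat_ne_zero, OfNat.ofNat_ne_one,
          ↓reduceIte, zero_add, one_ne_zero, Nat.reduceAdd, Nat.succ_ne_self,
          Subgroup.mem_bot] at hx ⊢
        · obtain ⟨i, rfl⟩ := Subgroup.mem_zpowers_iff.1 hx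
          rw [map_zpow, hb1, inv_mul_cancel]
        · have hle : W ≤ (Subgroup.zpowers z).comap
              (MonoidHom.mk' (fun x => x⁻¹ * ((b : G) : MulAut A) x)
                fun u v => by simp [mul_comm, mul_assoc, mul_left_comm]) := by
            refine sup_le (Subgroup.zpowers_le.2 ?_) (Subgroup.zpowers_le.2 ?_)
            · simp [hb1]
            · simpa [mul_comm] using hb2
          exact hle hx
        · simpa [mul_comm] using hb3 x) 3 le_rfl
    refine ⟨k, Subtype.ext (Subtype.ext (MulEquiv.ext fun x => ?_))⟩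
    simpa using hk x (by simp [D])
  have hτK : τ ∈ K := ⟨h.fix, h.displ w, fun x => Subgroup.mem_sup_left (h.displ x)⟩
  have hρK : ρ ∈ K := ⟨hfix, by rw [hρ, hw, conj_fix h β, mul_inv_cancel]; exact one_mem _,
    fun x => Subgroup.mem_sup_right (conj_displ h β x)⟩
  have hmem : ρ ∈ Subgroup.zpowers τ := h.syl K hKp hτK hρK
  refine ⟨hmem, ?_⟩
  -- a displacement of `ρ` lies in both centres
  obtain ⟨x, hx⟩ : ∃ x, (ρ : MulAut A) x ≠ x := by
    by_contra hall
    push Not at hall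
    have h1 : ρ = 1 := Subtype.ext (MulEquiv.ext hall)
    rw [hρ, mul_inv_eq_one, mul_eq_left] at h1
    exact h.ne h1
  have hd : (ρ : MulAut A) x * x⁻¹ ∈ Subgroup.zpowers z := by
    have hle : ∀ b ∈ Subgroup.zpowers τ, ∀ y : A, (b : MulAut A) y * y⁻¹ ∈ Subgroup.zpowers z := by
      intro b hb
      have hfin : IsOfFinOrder τ := isOfFinOrder_iff_pow_eq_one.2 ⟨p, hp.out.pos, h.pow⟩
      obtain ⟨m, rfl⟩ := hfin.mem_powers_iff_mem_zpowers.2 hb
      intro y
      show ((τ : MulAut A) ^ m) y * y⁻¹ ∈ _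
      clear hb
      induction m with
      | zero => simp
      | succ m ih =>
        rw [pow_succ', MulAut.mul_apply]
        have := Subgroup.mul_mem _ (h.displ (((τ : MulAut A) ^ m) y)) ih
        simpa [mul_assoc] using this
    exact hle ρ hmem x
  have hne : (ρ : MulAut A) x * x⁻¹ ≠ 1 := fun he => hx (mul_inv_eq_one.1 he)
  obtain ⟨i, hi⟩ := Subgroup.mem_zpowers_iff.1 (conj_displ h β x)
  have hwo : orderOf w = p := (MulEquiv.orderOf_eq (β : MulAut A) z).trans h.ord
  have hwi : w ^ i ≠ 1 := fun he => hne (hi.symm.trans he)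
  have heq : Subgroup.zpowers (w ^ i) = Subgroup.zpowers w := by
    have hf : Finite (Subgroup.zpowers w) := finite_zpowers.2 (isOfFinOrder_of_finite w)
    refine Subgroup.eq_of_le_of_card_ge (Subgroup.zpowers_le.2 ⟨i, rfl⟩) (le_of_eq ?_)
    rw [Nat.card_zpowers, Nat.card_zpowers, hwo, eq_comm]
    refine orderOf_eq_prime ?_ hwi
    rw [← zpow_natCast, ← zpow_mul, mul_comm, zpow_mul, zpow_natCast, ← hwo, pow_orderOf_eq_one,
      one_zpow]
  have h2 : Subgroup.zpowers (w ^ i) ≤ Subgroup.zpowers z := Subgroup.zpowers_le.2 (by rw [hi]; exact hd)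
  exact h2 (heq.ge (Subgroup.mem_zpowers w))

omit [Finite A] hp in
theorem pow_apply {u : MulAut A} {a b : A} (ha : u a = a) (hb : u b = a * b) :
    ∀ m : ℕ, (u ^ m) b = a ^ m * b := by
  intro m
  induction m with
  | zero => simp
  | succ m ih => rw [pow_succ', MulAut.mul_apply, ih, map_mul, map_pow, ha, hb, pow_succ, mul_assoc]

omit [Finite A] in
/-- A power of a transvection taking `b` to `a * b`, for the generator `a` of its centre. -/
theorem exists_normalized {σ : G} {a b : A} (ha : orderOf a = p) (hfix : (σ : MulAut A) a = a)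
    (hd : (σ : MulAut A) b * b⁻¹ ∈ Subgroup.zpowers a) (hne : (σ : MulAut A) b ≠ b) :
    ∃ m : ℕ, ((σ ^ m : G) : MulAut A) b = a * b ∧ ((σ ^ m : G) : MulAut A) a = a := by
  obtain ⟨k, hk⟩ := Subgroup.mem_zpowers_iff.1 hd
  have hfin : IsOfFinOrder a := orderOf_pos_iff.1 (ha ▸ hp.out.pos)
  have hk1 : a ^ k ≠ 1 := fun he => hne (mul_inv_eq_one.1 (hk.symm.trans he))
  have hko : orderOf (a ^ k) = p := by
    refine orderOf_eq_prime ?_ hk1
    rw [← zpow_natCast, ← zpow_mul, mul_comm, zpow_mul, zpow_natCast, ← ha, pow_orderOf_eq_one,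
      one_zpow]
  have hmem : a ∈ Submonoid.powers (a ^ k) := by
    refine (orderOf_pos_iff.1 (hko ▸ hp.out.pos)).mem_powers_iff_mem_zpowers.2 ?_
    have hf : Finite (Subgroup.zpowers a) := finite_zpowers.2 hfin
    have e : Subgroup.zpowers (a ^ k) = Subgroup.zpowers a :=
      Subgroup.eq_of_le_of_card_ge (Subgroup.zpowers_le.2 ⟨k, rfl⟩)
        (by rw [Nat.card_zpowers, Nat.card_zpowers, hko, ha])
    exact e.ge (Subgroup.mem_zpowers a)
  obtain ⟨m, hm⟩ := hmem
  have hb' : (σ : MulAut A) b = a ^ k * b := by rw [hk, inv_mul_cancel_right]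
  refine ⟨m, ?_, ?_⟩
  · show ((σ : MulAut A) ^ m) b = a * b
    rw [pow_apply (by rw [map_zpow, hfix]) hb' m]
    exact congrArg (· * b) hm
  · show ((σ : MulAut A) ^ m) a = a
    clear hm
    induction m with
    | zero => rfl
    | succ m ih => rw [pow_succ, MulAut.mul_apply, hfix, ih]

/-- The decomposition. -/
theorem decomposition (h : Setting A p G τ z) :
    ∃ (V C : Subgroup A), z ∈ V ∧ Nat.card V = p ^ 2 ∧ (∀ v ∈ V, v ^ p = 1) ∧
      V ⊓ C = ⊥ ∧ V ⊔ C = ⊤ ∧
      (∀ g : G, (∀ v ∈ V, (g : MulAut A) v ∈ V) ∧ ∀ c ∈ C, (g : MulAut A) c ∈ C) ∧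
      (∀ c ∈ C, (τ : MulAut A) c = c) ∧
      (∀ c, (∀ β : G, ((β * τ * β⁻¹ : G) : MulAut A) c = c) → c ∈ C) ∧
      (∃ t ∈ V, (τ : MulAut A) t ≠ t) ∧
      (∃ g : G, g * τ * g⁻¹ = τ ∧ (∀ v ∈ V, (g : MulAut A) v = v⁻¹) ∧
        ∀ c ∈ C, (g : MulAut A) c = c) := by
  classical
  obtain ⟨α, hα⟩ := h.moved
  set τ' := α * τ * α⁻¹ with hτ'
  set t := (α : MulAut A) z with ht
  have hto : orderOf t = p := (MulEquiv.orderOf_eq (α : MulAut A) z).trans h.ord
  have hτ't : (τ' : MulAut A) t = t := conj_fix h α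
  have hτ'z : (τ' : MulAut A) z ≠ z := fun he => hα (conj_eq_of_fix h he).1
  have hτt : (τ : MulAut A) t ≠ t := by
    intro he
    have h1 := (conj_eq_of_fix h (β := α⁻¹) (by
      show (α : MulAut A).symm ((τ : MulAut A) (((α⁻¹ : G) : MulAut A)⁻¹ z)) = z
      rw [Subgroup.coe_inv, inv_inv, ← ht, he, ht, MulEquiv.symm_apply_apply])).1
    rw [inv_inv] at h1
    have hfin : IsOfFinOrder τ := isOfFinOrder_iff_pow_eq_one.2 ⟨p, hp.out.pos, h.pow⟩
    obtain ⟨m, hm⟩ := hfin.mem_powers_iff_mem_zpowers.2 h1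
    have hm' : τ ^ m = α⁻¹ * τ * α := hm
    have hmp : m.Coprime p := by
      rw [Nat.coprime_comm, hp.out.coprime_iff_not_dvd]
      rintro ⟨k, rfl⟩
      rw [pow_mul, h.pow, one_pow] at hm'
      refine h.ne ?_
      calc τ = α * (α⁻¹ * τ * α) * α⁻¹ := by group
        _ = 1 := by rw [← hm']; group
    obtain ⟨j, hj⟩ := exists_pow_eq_self_of_coprime (x := τ)
      (hmp.coprime_dvd_right (orderOf_dvd_of_pow_eq_one h.pow))
    have hτeq : τ = α⁻¹ * τ ^ j * α := by
      conv_lhs => rw [← hj, hm']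
      simpa using conj_pow (a := α⁻¹) (b := τ) (i := j)
    refine hα ?_
    have : α * τ * α⁻¹ = τ ^ j := by
      conv_lhs => rw [hτeq]
      group
    rw [hτ', this]
    exact Subgroup.pow_mem _ (Subgroup.mem_zpowers τ) j
  obtain ⟨i₁, hut, huz⟩ := exists_normalized h.ord h.fix (h.displ t) hτt
  obtain ⟨i₂, hvz, hvt⟩ := exists_normalized hto hτ't (conj_displ h α z) hτ'z
  set v : G := τ' ^ i₂ with hv
  set u : G := τ ^ i₁ with hu
  let V : Subgroup A := Subgroup.zpowers z ⊔ Subgroup.zpowers t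
  have hzp : z ^ p = 1 := h.ord ▸ pow_orderOf_eq_one z
  have htp : t ^ p = 1 := hto ▸ pow_orderOf_eq_one t
  have hVp : ∀ x ∈ V, x ^ p = 1 := by
    intro x hx
    obtain ⟨a, ha, b, hb, rfl⟩ := Subgroup.mem_sup.1 hx
    obtain ⟨i, rfl⟩ := Subgroup.mem_zpowers_iff.1 ha
    obtain ⟨j, rfl⟩ := Subgroup.mem_zpowers_iff.1 hb
    rw [mul_pow, ← zpow_natCast, ← zpow_natCast (t ^ j), ← zpow_mul, ← zpow_mul, mul_comm i,
      mul_comm j, zpow_mul, zpow_mul, zpow_natCast, zpow_natCast, hzp, htp, one_zpow, one_zpow,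
      one_mul]
  -- every nontrivial element of `V` is a power of the centre of a conjugate
  have hcentre : ∀ x ∈ V, x ≠ 1 → ∃ γ : G, (γ = α ∨ ∃ a : ℕ, γ = v ^ a) ∧
      x ∈ Subgroup.zpowers ((γ : MulAut A) z) := by
    intro x hx _
    obtain ⟨a, ha, b, hb, rfl⟩ := Subgroup.mem_sup.1 hx
    obtain ⟨i, rfl⟩ := (isOfFinOrder_of_finite z).mem_powers_iff_mem_zpowers.2 ha
    obtain ⟨j, rfl⟩ := (isOfFinOrder_of_finite t).mem_powers_iff_mem_zpowers.2 hb
    by_cases hi : p ∣ i
    · refine ⟨α, Or.inl rfl, ?_⟩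
      obtain ⟨k, rfl⟩ := hi
      simp only [pow_mul, hzp, one_pow, one_mul]
      exact Subgroup.pow_mem _ (Subgroup.mem_zpowers t) j
    · obtain ⟨k, hk⟩ := exists_pow_eq_self_of_coprime (x := t) (n := i)
        ((hp.out.coprime_iff_not_dvd.2 hi).symm.coprime_dvd_right (hto ▸ dvd_rfl))
      refine ⟨v ^ (k * j), Or.inr ⟨_, rfl⟩, ?_⟩
      have e : ((v ^ (k * j) : G) : MulAut A) z = t ^ (k * j) * z := by
        rw [SubgroupClass.coe_pow]
        exact pow_apply hvt hvz _
      rw [e]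
      refine Subgroup.mem_zpowers_iff.2 ⟨i, ?_⟩
      rw [zpow_natCast, mul_pow, mul_comm, ← pow_mul, mul_comm (k * j), ← mul_assoc, pow_mul t,
        pow_mul t, hk]
  -- the centre of every conjugate lies in `V`, and it fixes what `τ` and `τ'` fix
  have hconj : ∀ β : G, (β : MulAut A) z ∈ V ∧ ∀ c, (τ : MulAut A) c = c →
      (τ' : MulAut A) c = c → ((β * τ * β⁻¹ : G) : MulAut A) c = c := by
    intro β
    let f : V → Subgroup.zpowers ((β : MulAut A) z) := fun x => ⟨_, conj_displ h β x⟩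
    obtain ⟨x, hxV, hx1, hxfix⟩ : ∃ x ∈ V, x ≠ 1 ∧ ((β * τ * β⁻¹ : G) : MulAut A) x = x := by
      by_contra hall
      have hinj : Function.Injective f := by
        intro x y hxy
        by_contra hne
        apply hall
        refine ⟨(x : A) * (y : A)⁻¹, V.mul_mem x.2 (V.inv_mem y.2),
          fun he => hne (Subtype.ext (mul_inv_eq_one.1 he)), ?_⟩
        have h1 : ((β * τ * β⁻¹ : G) : MulAut A) (x : A) * (x : A)⁻¹ =
            ((β * τ * β⁻¹ : G) : MulAut A) (y : A) * (y : A)⁻¹ := congrArg Subtype.val hxy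
        rw [map_mul, map_inv]
        generalize ((β * τ * β⁻¹ : G) : MulAut A) (x : A) = X at h1 ⊢
        generalize ((β * τ * β⁻¹ : G) : MulAut A) (y : A) = Y at h1 ⊢
        simp only [← div_eq_mul_inv, div_eq_div_iff_mul_eq_mul] at h1 ⊢
        rw [h1, mul_comm]
      have hle := Nat.card_le_card_of_injective f hinj
      rw [Nat.card_zpowers, MulEquiv.orderOf_eq, h.ord] at hle
      have hlt : Subgroup.zpowers z < V := lt_of_le_of_ne le_sup_left fun he => hτ'z (by
        have htz : t ∈ Subgroup.zpowers z := he ▸ Subgroup.mem_sup_right (Subgroup.mem_zpowers t)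
        have e := zpowers_eq_of_mem h htz (fun h1 => hτt (by rw [h1, map_one]))
        obtain ⟨i, hi⟩ := Subgroup.mem_zpowers_iff.1 (e.ge (Subgroup.mem_zpowers z))
        rw [← hi, map_zpow, hτ't])
      have hc : Nat.card (Subgroup.zpowers z) < Nat.card V := Set.Finite.card_lt_card
        (Set.toFinite _) (SetLike.coe_ssubset_coe.2 hlt)
      rw [Nat.card_zpowers, h.ord] at hc
      exact absurd (hc.trans_le hle) (lt_irrefl _)
    obtain ⟨γ, hγ, i, hi⟩ := hcentre x hxV hx1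
    have hfixγ : ((β * τ * β⁻¹ : G) : MulAut A) ((γ : MulAut A) z) = (γ : MulAut A) z := by
      have hgo : orderOf ((γ : MulAut A) z) = p := (MulEquiv.orderOf_eq _ z).trans h.ord
      have e : Subgroup.zpowers x = Subgroup.zpowers ((γ : MulAut A) z) := by
        have hf : Finite (Subgroup.zpowers ((γ : MulAut A) z)) := inferInstance
        refine Subgroup.eq_of_le_of_card_ge (Subgroup.zpowers_le.2 ⟨i, hi⟩) (le_of_eq ?_)
        rw [Nat.card_zpowers, Nat.card_zpowers, hgo, orderOf_eq_prime (hVp x hxV) hx1]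
      obtain ⟨j, hj⟩ := Subgroup.mem_zpowers_iff.1 (e.ge (Subgroup.mem_zpowers _))
      rw [← hj, map_zpow, hxfix]
    obtain ⟨h1, h2⟩ := conj_eq_of_fix h (β := γ⁻¹ * β) (by
      have h3 := congrArg (γ : MulAut A).symm hfixγ
      rw [MulEquiv.symm_apply_apply] at h3
      refine Eq.trans ?_ h3
      simp only [mul_inv_rev, inv_inv]
      show ((γ⁻¹ * β * τ * (β⁻¹ * γ) : G) : MulAut A) z = _
      rfl)
    obtain ⟨j, hj⟩ := Subgroup.mem_zpowers_iff.1 h2
    have hγV : (γ : MulAut A) z ∈ V := by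
      rcases hγ with rfl | ⟨a, rfl⟩
      · exact Subgroup.mem_sup_right (Subgroup.mem_zpowers _)
      · rw [SubgroupClass.coe_pow, pow_apply hvt hvz]
        exact V.mul_mem (V.pow_mem (Subgroup.mem_sup_right (Subgroup.mem_zpowers t)) a)
          (Subgroup.mem_sup_left (Subgroup.mem_zpowers z))
    refine ⟨?_, fun c hc hc' => ?_⟩
    · have hj' : (γ : MulAut A).symm ((β : MulAut A) z) = z ^ j := hj.symm
      rw [MulEquiv.symm_apply_eq, map_zpow] at hj'
      rw [hj']
      exact V.zpow_mem hγV j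
    · obtain ⟨k, hk⟩ := Subgroup.mem_zpowers_iff.1 h1
      have e : β * τ * β⁻¹ = (γ * τ * γ⁻¹) ^ k := by rw [conj_zpow, hk]; group
      rw [e]
      have hfixc : ((γ * τ * γ⁻¹ : G) : MulAut A) c = c := by
        rcases hγ with rfl | ⟨a, rfl⟩
        · exact hc'
        · have hva : ∀ a : ℕ, ((v ^ a : G) : MulAut A) c = c := by
            intro a
            rw [hv, ← pow_mul, SubgroupClass.coe_pow]
            induction i₂ * a with
            | zero => rfl
            | succ m ih => rw [pow_succ, MulAut.mul_apply, hc', ih]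
          show ((v ^ a : G) : MulAut A) ((τ : MulAut A) (((v ^ a : G) : MulAut A).symm c)) = c
          rw [show ((v ^ a : G) : MulAut A).symm c = c by rw [MulEquiv.symm_apply_eq, hva], hc, hva]
      have hstab : ((γ * τ * γ⁻¹ : G) : MulAut A) ∈ MulAction.stabilizer (MulAut A) c := hfixc
      rw [SubgroupClass.coe_zpow]
      exact Subgroup.zpow_mem _ hstab k
  let C : Subgroup A :=
    { carrier := {c | ∀ β : G, ((β * τ * β⁻¹ : G) : MulAut A) c = c}
      one_mem' := fun β => map_one _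
      mul_mem' := fun {a b} ha hb β => by rw [map_mul, ha β, hb β]
      inv_mem' := fun {a} ha β => by rw [map_inv, ha β] }
  have hCmem : ∀ c, (τ : MulAut A) c = c → (τ' : MulAut A) c = c → c ∈ C := fun c hc hc' β =>
    (hconj β).2 c hc hc'
  have hCτ : ∀ c ∈ C, (τ : MulAut A) c = c := fun c hc => by simpa using hc 1
  have hCu : ∀ c ∈ C, ((u : G) : MulAut A) c = c ∧ ((v : G) : MulAut A) c = c := by
    intro c hc
    rw [hu, hv, SubgroupClass.coe_pow, SubgroupClass.coe_pow]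
    exact ⟨Subgroup.pow_mem (MulAction.stabilizer (MulAut A) c) (hCτ c hc) i₁,
      Subgroup.pow_mem (MulAction.stabilizer (MulAut A) c) (hc α) i₂⟩
  -- decomposition of elements
  have hsup : V ⊔ C = ⊤ := by
    refine eq_top_iff.2 fun x _ => ?_
    obtain ⟨i, hi⟩ := Subgroup.mem_zpowers_iff.1 (h.displ x)
    obtain ⟨k, hk⟩ := Subgroup.mem_zpowers_iff.1 (h.displ t)
    have hk1 : z ^ k ≠ 1 := fun he => hτt (mul_inv_eq_one.1 (hk.symm.trans he))
    have e := zpowers_eq_of_mem h ⟨k, rfl⟩ hk1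
    obtain ⟨a, ha⟩ := Subgroup.mem_zpowers_iff.1 (e.ge (hi ▸ h.displ x : z ^ i ∈ Subgroup.zpowers z))
    set x₁ := x * (t ^ a)⁻¹ with hx₁
    have h1 : (τ : MulAut A) x₁ = x₁ := by
      have ht' : (τ : MulAut A) t = z ^ k * t := by rw [hk, inv_mul_cancel_right]
      have hx' : (τ : MulAut A) x = z ^ i * x := by rw [hi, inv_mul_cancel_right]
      rw [hx₁, map_mul, map_inv, map_zpow, hx', ht', mul_zpow, ha, mul_inv,
        mul_mul_mul_comm, mul_inv_cancel, one_mul]
    obtain ⟨j, hj⟩ := Subgroup.mem_zpowers_iff.1 (conj_displ h α x₁)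
    obtain ⟨l, hl⟩ := Subgroup.mem_zpowers_iff.1 (conj_displ h α z)
    have hl1 : t ^ l ≠ 1 := fun he => hτ'z (mul_inv_eq_one.1 (hl.symm.trans he))
    have e' : Subgroup.zpowers (t ^ l) = Subgroup.zpowers t := by
      have hf : Finite (Subgroup.zpowers t) := inferInstance
      refine Subgroup.eq_of_le_of_card_ge (Subgroup.zpowers_le.2 ⟨l, rfl⟩) (le_of_eq ?_)
      rw [Nat.card_zpowers, Nat.card_zpowers, hto, eq_comm]
      refine orderOf_eq_prime ?_ hl1
      rw [← zpow_natCast, ← zpow_mul, mul_comm, zpow_mul, zpow_natCast, htp, one_zpow]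
    obtain ⟨b, hb⟩ := Subgroup.mem_zpowers_iff.1 (e'.ge (show t ^ j ∈ Subgroup.zpowers t from ⟨j, rfl⟩))
    set c := x₁ * (z ^ b)⁻¹ with hc
    have hcτ : (τ : MulAut A) c = c := by rw [hc, map_mul, map_inv, map_zpow, h1, h.fix]
    have hcτ' : (τ' : MulAut A) c = c := by
      have hz' : (τ' : MulAut A) z = t ^ l * z := by rw [hl, inv_mul_cancel_right]
      have hx' : (τ' : MulAut A) x₁ = t ^ j * x₁ := by rw [hj, inv_mul_cancel_right]
      rw [hc, map_mul, map_inv, map_zpow, hx', hz', mul_zpow, hb, mul_inv,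
        mul_mul_mul_comm, mul_inv_cancel, one_mul]
    refine Subgroup.mem_sup.2 ⟨z ^ b * t ^ a, V.mul_mem
      (Subgroup.mem_sup_left ⟨b, rfl⟩) (Subgroup.mem_sup_right ⟨a, rfl⟩), c, hCmem c hcτ hcτ', ?_⟩
    simp [hc, hx₁, mul_comm, mul_left_comm]
  have hinf : V ⊓ C = ⊥ := by
    refine (Subgroup.eq_bot_iff_forall _).2 fun x ⟨hx, hxC⟩ => ?_
    obtain ⟨a, ha, b, hb, rfl⟩ := Subgroup.mem_sup.1 hx
    obtain ⟨i, rfl⟩ := (isOfFinOrder_of_finite z).mem_powers_iff_mem_zpowers.2 ha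
    obtain ⟨j, rfl⟩ := (isOfFinOrder_of_finite t).mem_powers_iff_mem_zpowers.2 hb
    obtain ⟨h1, h2⟩ := hCu _ hxC
    simp only at h1 h2 ⊢
    rw [map_mul, map_pow, map_pow, huz, hut, mul_pow, mul_right_inj, mul_eq_right] at h1
    have hj1 : t ^ j = 1 := by
      have := orderOf_dvd_of_pow_eq_one h1
      rw [h.ord, ← hto] at this
      exact orderOf_dvd_iff_pow_eq_one.1 this
    rw [hj1, mul_one, map_pow, hvz, mul_pow, mul_eq_right] at h2
    have hi1 : z ^ i = 1 := by
      have := orderOf_dvd_of_pow_eq_one h2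
      rw [hto, ← h.ord] at this
      exact orderOf_dvd_iff_pow_eq_one.1 this
    rw [hi1, hj1, one_mul]
  have hVinv : ∀ g : G, ∀ x ∈ V, (g : MulAut A) x ∈ V := by
    intro g x hx
    obtain ⟨a, ha, b, hb, rfl⟩ := Subgroup.mem_sup.1 hx
    obtain ⟨i, rfl⟩ := Subgroup.mem_zpowers_iff.1 ha
    obtain ⟨j, rfl⟩ := Subgroup.mem_zpowers_iff.1 hb
    rw [map_mul, map_zpow, map_zpow]
    refine V.mul_mem (V.zpow_mem (hconj g).1 i) (V.zpow_mem ?_ j)
    exact (hconj (g * α)).1
  have hCinv : ∀ g : G, ∀ c ∈ C, (g : MulAut A) c ∈ C := by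
    intro g c hc β
    have h1 := congrArg (g : MulAut A) (hc (g⁻¹ * β))
    refine Eq.trans ?_ h1
    simp [MulAut.mul_apply]
  have hcard : Nat.card V = p ^ 2 := by
    let f : Fin p × Fin p → V := fun x => ⟨z ^ (x.1 : ℕ) * t ^ (x.2 : ℕ),
      V.mul_mem (V.pow_mem (Subgroup.mem_sup_left (Subgroup.mem_zpowers z)) _)
        (V.pow_mem (Subgroup.mem_sup_right (Subgroup.mem_zpowers t)) _)⟩
    have hf : Function.Bijective f := by
      refine ⟨fun ⟨i, j⟩ ⟨i', j'⟩ he => ?_, fun ⟨x, hx⟩ => ?_⟩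
      · have he' : z ^ (i : ℕ) * t ^ (j : ℕ) = z ^ (i' : ℕ) * t ^ (j' : ℕ) :=
          congrArg Subtype.val he
        have hu' := congrArg ((u : G) : MulAut A) he'
        simp only [map_mul, map_pow, huz, hut, mul_pow] at hu'
        rw [← mul_left_comm, ← mul_left_comm (z ^ (j' : ℕ)), he', mul_left_inj] at hu'
        have hj : j = j' := Fin.ext (pow_injOn_Iio_orderOf
          (by rw [Set.mem_Iio, h.ord]; exact j.2) (by rw [Set.mem_Iio, h.ord]; exact j'.2) hu')
        subst hj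
        rw [mul_left_inj] at he'
        have hi : i = i' := Fin.ext (pow_injOn_Iio_orderOf
          (by rw [Set.mem_Iio, h.ord]; exact i.2) (by rw [Set.mem_Iio, h.ord]; exact i'.2) he')
        rw [hi]
      · obtain ⟨a, ha, b, hb, rfl⟩ := Subgroup.mem_sup.1 hx
        obtain ⟨i, rfl⟩ := (isOfFinOrder_of_finite z).mem_powers_iff_mem_zpowers.2 ha
        obtain ⟨j, rfl⟩ := (isOfFinOrder_of_finite t).mem_powers_iff_mem_zpowers.2 hb
        exact ⟨(⟨i % p, Nat.mod_lt _ hp.out.pos⟩, ⟨j % p, Nat.mod_lt _ hp.out.pos⟩),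
          Subtype.ext (by simp [f, ← pow_eq_pow_mod _ hzp, ← pow_eq_pow_mod _ htp])⟩
    rw [← Nat.card_congr (Equiv.ofBijective f hf)]
    simp [pow_two]
  refine ⟨V, C, Subgroup.mem_sup_left (Subgroup.mem_zpowers z), hcard, hVp, hinf, hsup,
    fun g => ⟨hVinv g, hCinv g⟩, hCτ, fun c hc => hc, ⟨t, Subgroup.mem_sup_right (Subgroup.mem_zpowers t), hτt⟩, ?_⟩
  -- the element `-1` of `SL(2, p)`
  let w : G := u * v⁻¹ * u
  have hvzi : ((v : G) : MulAut A).symm z = t⁻¹ * z := by
    rw [MulEquiv.symm_apply_eq, map_mul, map_inv, hvt, hvz, inv_mul_cancel_left]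
  have hvti : ((v : G) : MulAut A).symm t = t := by rw [MulEquiv.symm_apply_eq, hvt]
  have hwt : (w : MulAut A) t = z := by
    show (u : MulAut A) ((v : MulAut A).symm ((u : MulAut A) t)) = z
    rw [hut, map_mul, hvzi, hvti, mul_comm t⁻¹ z, inv_mul_cancel_right, huz]
  have hwz : (w : MulAut A) z = t⁻¹ := by
    show (u : MulAut A) ((v : MulAut A).symm ((u : MulAut A) z)) = _
    rw [huz, hvzi, map_mul, map_inv, hut, huz, mul_inv_rev, inv_mul_cancel_right]
  have hwc : ∀ c ∈ C, (w : MulAut A) c = c := by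
    intro c hc
    obtain ⟨h1, h2⟩ := hCu c hc
    show (u : MulAut A) ((v : MulAut A).symm ((u : MulAut A) c)) = c
    rw [h1, show (v : MulAut A).symm c = c by rw [MulEquiv.symm_apply_eq, h2], h1]
  have hht : ((w * w : G) : MulAut A) t = t⁻¹ := by
    show (w : MulAut A) ((w : MulAut A) t) = _
    rw [hwt, hwz]
  have hhz : ((w * w : G) : MulAut A) z = z⁻¹ := by
    show (w : MulAut A) ((w : MulAut A) z) = _
    rw [hwz, map_inv, hwt]
  have hhc : ∀ c ∈ C, ((w * w : G) : MulAut A) c = c := fun c hc => by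
    show (w : MulAut A) ((w : MulAut A) c) = _
    rw [hwc c hc, hwc c hc]
  have hhV : ∀ x ∈ V, ((w * w : G) : MulAut A) x = x⁻¹ := by
    intro x hx
    obtain ⟨a, ha, b, hb, rfl⟩ := Subgroup.mem_sup.1 hx
    obtain ⟨i, rfl⟩ := Subgroup.mem_zpowers_iff.1 ha
    obtain ⟨j, rfl⟩ := Subgroup.mem_zpowers_iff.1 hb
    rw [map_mul, map_zpow, map_zpow, hht, hhz, inv_zpow, inv_zpow, mul_inv]
  refine ⟨w * w, ?_, hhV, hhc⟩
  rw [mul_inv_eq_iff_eq_mul]
  apply Subtype.ext
  refine MulEquiv.ext fun x => ?_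
  obtain ⟨a, ha, c, hc, rfl⟩ := Subgroup.mem_sup.1 (hsup.ge (Subgroup.mem_top x))
  show ((w * w : G) : MulAut A) ((τ : MulAut A) (a * c)) = (τ : MulAut A) (((w * w : G) : MulAut A) (a * c))
  rw [map_mul, map_mul, map_mul, map_mul, hCτ c hc, hhc c hc, hhV a ha,
    hhV _ (hVinv τ a ha), map_inv, hCτ c hc]

end Cfsg.Agent.FusionAux.Transvection
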